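import Cfsg.Agent.H28.T5Mid
import Cfsg.Agent.H28.T5Fus
import Cfsg.Agent.H378.TorFin
import Cfsg.Agent.H192.FcRows

/-!
# The untwisted exceptional groups: outer automorphisms of order `p` (T5)

* `std_untw` : the frame `Std` for `D.group F ≤ D.group k`;
* `outer_cases` : the automorphisms of order `p` which are not inner;
* `untw_conj` : they have powers conjugate under inner automorphisms;
* `untw_sb` : the fixed points have a simple normal subgroup with trivial centraliser;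
* `untw_wrow`, `untw_mrow` : the rows if `p` divides no degree.
-/

set_option autoImplicit false
set_option linter.unusedSectionVars false

namespace Cfsg.Agent.H28.T5Untw

open CoxeterSystem Subgroup Cfsg Cfsg.Lie Cfsg.Lie.ChevalleyDatum
open Cfsg.Agent.ChevalleyStructure Cfsg.Agent.ChevalleyStructure.Elts Cfsg.Agent.ChevalleyStructure.CoxeterGeom
  Cfsg.Agent.ChevalleyStructure.CoxeterGeomTypes Cfsg.Agent.ChevalleyStructure.NPerm
open Cfsg.Agent.Tits.Roots Cfsg.Agent.Tits.Core Cfsg.Agent.Nodes.Reps Cfsg.Agent.Nodes.BNOf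
  Cfsg.Agent.Nodes.RGDChev Cfsg.Agent.Nodes.Bruhat
open Cfsg.Agent.CpAut.RgdUntw Cfsg.Agent.KFacts.RgdField Cfsg.Agent.KFacts.RgdChevCoord
open Cfsg.Agent.BpExc Cfsg.Agent.BpExc.Tow Cfsg.Agent.BpExc.TowChev Cfsg.Agent.BpExc.FamExt Cfsg.Agent.BpExc.FamUntw
  Cfsg.Agent.BpExc.FamInst Cfsg.Agent.BpExc.LangFr Cfsg.Agent.BpExc.FamField
open Cfsg.Agent.GpExc.Field (glMap emb coe_emb glMap_xG emb_injective coe_glMap)
open Cfsg.Agent.H533.T5 Cfsg.Agent.H957.T5M Cfsg.Agent.H106.MT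
open Cfsg.Agent.H28.T5Frob Cfsg.Agent.H28.T5Mid Cfsg.Agent.H28.T5Fus Cfsg.Agent.H28.T5Abs

/-- the geometric sum is prime to `1`, `2`, `3` -/
theorem coprime_geom {p E d : ℕ} (hpp : p.Prime) (hp2 : p ≠ 2) (hd : d = 1 ∨ d = 2 ∨ d = 3) (hdp : d.Coprime p) :
    (∑ i ∈ Finset.range p, E ^ i).Coprime d := by
  have hodd : ¬ Even p := by
    rw [Nat.not_even_iff_odd]
    exact hpp.odd_of_ne_two hp2
  rcases hd with rfl | rfl | rfl
  · exact Nat.coprime_one_right _
  · rw [Nat.coprime_comm, Nat.Prime.coprime_iff_not_dvd Nat.prime_two, ← ZMod.natCast_eq_zero_iff]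
    push_cast
    have h1 : (E : ZMod 2) = 0 ∨ (E : ZMod 2) = -1 := by
      generalize (E : ZMod 2) = z
      revert z
      decide
    rcases h1 with h | h
    · rw [h]
      simp only [zero_pow_eq, Finset.sum_ite_eq', Finset.mem_range, hpp.pos, if_true]
      decide
    · rw [h, neg_one_geom_sum, if_neg hodd]
      decide
  · rw [Nat.coprime_comm, Nat.Prime.coprime_iff_not_dvd Nat.prime_three, ← ZMod.natCast_eq_zero_iff]
    push_cast
    have h1 : (E : ZMod 3) = 0 ∨ (E : ZMod 3) = 1 ∨ (E : ZMod 3) = -1 := by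
      generalize (E : ZMod 3) = z
      revert z
      decide
    rcases h1 with h | h | h
    · rw [h]
      simp only [zero_pow_eq, Finset.sum_ite_eq', Finset.mem_range, hpp.pos, if_true]
      decide
    · rw [h]
      simp only [one_pow, Finset.sum_const, Finset.card_range, nsmul_eq_mul, mul_one]
      rw [ZMod.natCast_eq_zero_iff]
      exact (Nat.Prime.coprime_iff_not_dvd Nat.prime_three).1 hdp
    · rw [h, neg_one_geom_sum, if_neg hodd]
      decide

/-- `Y_σ = Y_φ ι(L)`, from a decomposition -/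
theorem cov_of {L Y : Type*} [Group L] [Group Y] {p : ℕ} {ι : L →* Y} {σ φ : MulAut Y}
    (hnorm : ∀ y, σ y = y → ∀ a, y * ι a * y⁻¹ ∈ ι.range) (hpow : φ ^ p = σ) {u t : Y} {a : L}
    {E d : ℕ} (hu : u = ι a * t) (hσt : σ t = t) (hφt : φ t = t ^ E) (hd : t ^ d ∈ ι.range)
    (hcop : (∑ i ∈ Finset.range p, E ^ i).Coprime d) : ∃ v s, φ v = v ∧ u = v * ι s := by
  have h1 : ∀ j : ℕ, (φ ^ j) t = t ^ E ^ j := by
    intro j
    induction j with
    | zero => simp
    | succ j ih => rw [pow_succ', MulAut.mul_apply, ih, map_pow, hφt, ← pow_mul, pow_succ']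
  obtain ⟨N, hN⟩ : ∃ N, N = ∑ i ∈ Finset.range p, E ^ i := ⟨_, rfl⟩
  have h2 : t ^ E ^ p = t := by rw [← h1, hpow, hσt]
  have h3 : φ (t ^ N) = t ^ N := by
    rw [map_pow, hφt, ← pow_mul]
    have h4 : E * N + 1 = N + E ^ p := by
      rw [hN, Finset.mul_sum, ← Finset.sum_range_succ, Finset.sum_range_succ']
      simp only [pow_succ', pow_zero]
    have h5 : t ^ (E * N) * t = t ^ N * t := by
      rw [← pow_succ, h4, pow_add, h2]
    exact mul_right_cancel h5
  -- Bezout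
  rw [← hN] at hcop
  obtain ⟨x, y, hxy⟩ : ∃ x y : ℤ, (N : ℤ) * x + (d : ℤ) * y = 1 := by
    refine ⟨Nat.gcdA N d, Nat.gcdB N d, ?_⟩
    rw [← Nat.gcd_eq_gcd_ab, hcop]
    rfl
  have h4 : t = (t ^ N) ^ x * (t ^ d) ^ y := by
    rw [← zpow_natCast, ← zpow_natCast, ← zpow_mul, ← zpow_mul, ← zpow_add, hxy, zpow_one]
  obtain ⟨b, hb⟩ := hd
  obtain ⟨v, hv⟩ : ∃ v, v = (t ^ N) ^ x := ⟨_, rfl⟩
  have hφv : φ v = v := by rw [hv, map_zpow, h3]
  have hφj : ∀ j : ℕ, (φ ^ j) v = v := by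
    intro j
    induction j with
    | zero => rfl
    | succ j ih => rw [pow_succ', MulAut.mul_apply, ih, hφv]
  have hσv : σ v⁻¹ = v⁻¹ := by rw [map_inv, ← hpow, hφj]
  obtain ⟨c, hc⟩ := hnorm _ hσv a
  refine ⟨v, c * b ^ y, hφv, ?_⟩
  rw [map_mul, hc, map_zpow, hb, hu]
  conv_lhs => rw [h4, ← hv]
  group

variable {D : ChevalleyDatum} {l : ℕ} {M : CoxeterMatrix (Fin l)} (hp : IsType D l M)

/-- **The frame.** -/
theorem std_untw {k : Type} [Field k] [IsAlgClosed k] (hk : LocFin k) {F : Type} [Field F] [Finite F] (f : F →+* k)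
    (r : ℕ) [Fact r.Prime] [CharP k r] [CharP F r] {d : ℕ} {B : Fin l → Fin l → ℤ} (hB : InvC D l d B)
    (hd : d = 1 ∨ d = 2 ∨ d = 3) (hZ : center ↥(D.group k) = ⊥) {p : ℕ} (hpp : p.Prime) (hp2 : p ≠ 2)
    (hpd : d.Coprime p) {n m : ℕ} (hn : Nat.card F = r ^ n) (hm : 0 < m) (hmn : m * p = n) :
    Std p (emb hp.inList f) (phi D k r n) (phi D k r m) where
  inj := emb_injective hp.inList f
  cent z hz := eq_one_of_comm hp hk r f hZ hz
  fixι a := phi_emb hp r f hn a
  pow := by rw [phi_pow, hmn]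
  lang h := by
    obtain ⟨z, hz⟩ := lang_all hp M.toCoxeterSystem hm (phi_isFrob r m) (phi_fr hp M.toCoxeterSystem r hk m) 1 h
    rw [map_one, one_mul] at hz
    exact ⟨z, hz⟩
  cov u hu := by
    obtain ⟨a, ⟨a', ha⟩, t, ht, hσt, e⟩ := H378.TorFin.exists_split hp f r hn hu
    have hd0 : d ≠ 0 := by rcases hd with h | h | h <;> omega
    obtain ⟨s, -, hs⟩ := H378.TorFin.tor_pow_mem hp f r hn hB hd0 ht hσt
    refine cov_of (fun y hy a => ?_) (by rw [phi_pow, hmn]) (a := a') (t := t)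
      (by rw [ha, e]) hσt (phi_TT hp m ht) ⟨s, hs⟩ (coprime_geom hpp hp2 hd hpd)
    obtain ⟨b, hb⟩ := H378.TorFin.conj_range hp f r hn hy ⟨a, rfl⟩
    exact ⟨b, hb⟩

section Main

variable {r : ℕ} [Fact r.Prime] {F : Type} [Field F] [Fintype F] [CharP F r] {d : ℕ} {B : Fin l → Fin l → ℤ}
  (hB : InvC D l d B) (hd : d = 1 ∨ d = 2 ∨ d = 3) (hM : SymTwo M)
  (hk1 : IsSimpleGroup ↥(D.group (AlgebraicClosure (ZMod r))) ∧
    ¬ IsMulCommutative ↥(D.group (AlgebraicClosure (ZMod r))))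
  (hF1 : IsSimpleGroup ↥(D.group F) ∧ ¬ IsMulCommutative ↥(D.group F))
  {p : ℕ} (hpp : p.Prime) (hp2 : p ≠ 2) (hpd : d.Coprime p) (f : F →+* AlgebraicClosure (ZMod r)) {n : ℕ}
  (hn : Nat.card F = r ^ n)

include hp hB hd hM hk1 hF1 hpp hp2 hpd hn in
theorem outer_cases (x : MulAut ↥(D.group F)) (hx : orderOf x = p) (hx1 : ¬ ∃ g, x = MulAut.conj g) :
    0 < n / p ∧ n / p * p = n ∧ ∃ (i : ℕ) (y : ↥(D.group (AlgebraicClosure (ZMod r)))), i.Coprime p ∧
      ∀ a, emb hp.inList f ((x ^ i) a) =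
        (MulAut.conj y * phi D (AlgebraicClosure (ZMod r)) r (n / p)) (emb hp.inList f a) := by
  have hd0 : d ≠ 0 := by rcases hd with h | h | h <;> omega
  have hFs := hF1.1
  have hk : LocFin (AlgebraicClosure (ZMod r)) := locFin_of_isAlgebraic r _
  have hcent : ∀ {G : Type} [Group G], IsSimpleGroup G → ¬ IsMulCommutative G → center G = ⊥ := by
    intro G _ h1 h2
    have := h1
    refine KFacts.RgdLieCharP.center_eq_bot ?_
    by_contra hcon
    push Not at hcon
    exact h2 ⟨⟨hcon⟩⟩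
  have hZ := hcent hk1.1 hk1.2
  have hZF := hcent hF1.1 hF1.2
  have hW := finite_W hp M.toCoxeterSystem
  have R := rgd (K := F) hp M.toCoxeterSystem r
  have hG1 : RGD.Sup (XX D l F) {x | IsRoot M.toCoxeterSystem hp.isCartan x} = ⊤ := G1_eq_top hp M.toCoxeterSystem
  have hconn := KFacts.RgdLieCharP.conn_of_simple R hG1 hZF
  have hl : Nonempty (Fin l) := by
    rw [← Fin.pos_iff_nonempty]
    rcases Nat.eq_zero_or_pos l with h0 | h0
    · exfalso
      subst h0
      have h1 : (⊤ : Subgroup ↥(D.group F)) = ⊥ := by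
        rw [← hG1, eq_bot_iff]
        refine RGD.Sup_le fun x hx => ?_
        obtain ⟨w, i, -⟩ := hx
        exact i.elim0
      apply hF1.2
      have h2 : ∀ g : ↥(D.group F), g = 1 := fun g => by
        have : g ∈ (⊤ : Subgroup ↥(D.group F)) := Subgroup.mem_top g
        rwa [h1, Subgroup.mem_bot] at this
      exact ⟨⟨fun a b => by rw [h2 a, h2 b]⟩⟩
    · exact h0
  have hxp : x ^ p = 1 := by rw [← hx, pow_orderOf_eq_one]
  have hroots : ∀ c : F, c ≠ 0 → ∃ b : AlgebraicClosure (ZMod r), b ^ d = f c := fun c _ =>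
    IsAlgClosed.exists_pow_nat_eq (f c) (Nat.pos_of_ne_zero hd0)
  rcases BpExc.FamUntw.cases hp hk r f hB hd0 hroots hl hconn hZ hpp (hM.eq_one hpp hp2) hn hxp with h | h
  · exfalso
    obtain ⟨y, hyp, hy, h⟩ := h
    have h1 : y ∈ (emb hp.inList f).range := by
      have h2 := H378.TorFin.fix_pow_mem hp f r hn hB hd0 hy
      obtain ⟨j, -, hj⟩ := Nat.exists_mul_mod_eq_one_of_coprime hpd hpp.one_lt
      have h3 : y = (y ^ d) ^ j := by
        rw [← pow_mul, ← Nat.div_add_mod (d * j) p, pow_add, pow_mul, hyp, one_pow, one_mul, hj, pow_one]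
      rw [h3]
      exact pow_mem h2 j
    obtain ⟨g, rfl⟩ := h1
    refine hx1 ⟨g, MulEquiv.ext fun a => ?_⟩
    apply emb_injective hp.inList f
    rw [h, MulAut.conj_apply, map_mul, map_mul, map_inv]
  · obtain ⟨i, m, hi, hm0, hmn, y, -, h⟩ := h
    have e : n / p = m := by rw [← hmn, Nat.mul_div_cancel _ hpp.pos]
    rw [e]
    exact ⟨hm0, hmn, i, y, hi, h⟩

theorem center_bot (hk1 : IsSimpleGroup ↥(D.group (AlgebraicClosure (ZMod r))) ∧
    ¬ IsMulCommutative ↥(D.group (AlgebraicClosure (ZMod r)))) : center ↥(D.group (AlgebraicClosure (ZMod r))) = ⊥ := by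
  have := hk1.1
  refine KFacts.RgdLieCharP.center_eq_bot ?_
  by_contra hcon
  push Not at hcon
  exact hk1.2 ⟨⟨hcon⟩⟩

include hp hB hd hM hk1 hF1 hpp hp2 hpd in
/-- **Outer automorphisms of order `p` have powers conjugate under inner automorphisms.** -/
theorem untw_conj (x y : MulAut ↥(D.group F)) (hx : orderOf x = p) (hy : orderOf y = p)
    (hx1 : ¬ ∃ g, x = MulAut.conj g) (hy1 : ¬ ∃ g, y = MulAut.conj g) :
    ∃ s ∈ (MulAut.conj : ↥(D.group F) →* MulAut ↥(D.group F)).range, ∃ j : ℤ, (s * y * s⁻¹) ^ j = x := by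
  have hk : LocFin (AlgebraicClosure (ZMod r)) := locFin_of_isAlgebraic r _
  obtain ⟨f⟩ := BpExc.RowsUntw.exists_emb r F
  obtain ⟨n, -, hn⟩ := exists_card (F := F) r
  obtain ⟨h1, h2, h3⟩ := outer_cases hp hB hd hM hk1 hF1 hpp hp2 hpd f hn x hx hx1
  obtain ⟨-, -, h4⟩ := outer_cases hp hB hd hM hk1 hF1 hpp hp2 hpd f hn y hy hy1
  exact (std_untw hp hk f r hB hd (center_bot hk1) hpp hp2 hpd hn h1 h2).conj_outer hpp hx hy h3 h4

include hp hB hd hM hk1 hF1 hpp hp2 hpd in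
/-- **Outer automorphisms of order `p` centralise `Ω₁(E)`.** -/
theorem untw_hom {dd : ℕ → ℕ} {N : ℕ} {ds : List ℕ} (h : H172.SI.Deg D dd N ds) (hpr : p ≠ r)
    (hds : ∀ x ∈ ds, ¬ p ∣ x) (x : MulAut ↥(D.group F)) (hx : orderOf x = p) (hx1 : ¬ ∃ g, x = MulAut.conj g)
    (E : Subgroup ↥(D.group F)) (hE : IsPGroup p E) (hxE : ∀ e ∈ E, x e ∈ E) :
    ∀ e ∈ E, e ^ p = 1 → x e = e := by
  have hk : LocFin (AlgebraicClosure (ZMod r)) := locFin_of_isAlgebraic r _
  have : Fact p.Prime := ⟨hpp⟩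
  obtain ⟨f⟩ := BpExc.RowsUntw.exists_emb r F
  obtain ⟨n, hn0, hn⟩ := exists_card (F := F) r
  obtain ⟨h1, h2, i, y, hi, h3⟩ := outer_cases hp hB hd hM hk1 hF1 hpp hp2 hpd f hn x hx hx1
  have hS := std_untw hp hk f r hB hd (center_bot hk1) hpp hp2 hpd hn h1 h2
  have hF := fus hp hk (r := r) h hpp hpr hds
  have hpr' : ¬ p ∣ r ^ (n / p) := fun h4 => hpr
    ((Nat.prime_dvd_prime_iff_eq hpp (Fact.out : r.Prime)).1 (hpp.dvd_of_dvd_pow h4))
  have hpF : ¬ p ∣ Fintype.card F := by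
    rw [← Nat.card_eq_fintype_card, hn]
    intro h4
    exact hpr ((Nat.prime_dvd_prime_iff_eq hpp (Fact.out : r.Prime)).1 (hpp.dvd_of_dvd_pow h4))
  have hxp : x ^ p = 1 := by rw [← hx, pow_orderOf_eq_one]
  intro e he hep
  have hcE : ∀ m : ℕ, ∀ e ∈ E, (x ^ m) e ∈ E := by
    intro m
    induction m with
    | zero => intro e he; exact he
    | succ m ih => intro e he; rw [pow_succ', MulAut.mul_apply]; exact hxE _ (ih e he)
  have h4 := fix_of_frob hpp hS.inj hS.lang hF (s := 1) (Nat.coprime_one_left p) hpr'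
    (fun t ht => by rw [pow_one]; exact phi_TT hp _ ht) h3 (by rw [← pow_mul, mul_comm, pow_mul, hxp, one_pow]) hE
    (h.comm hds hpF E hE) (hcE i) he hep
  obtain ⟨j, -, hj⟩ := Nat.exists_mul_mod_eq_one_of_coprime hi hpp.one_lt
  have h5 : x = (x ^ i) ^ j := by
    rw [← pow_mul, ← Nat.div_add_mod (i * j) p, pow_add, pow_mul, hxp, one_pow, one_mul, hj, pow_one]
  have h6 : ∀ j : ℕ, ((x ^ i) ^ j) e = e := by
    intro j
    induction j with
    | zero => rfl
    | succ j ih => rw [pow_succ', MulAut.mul_apply, ih, h4]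
  rw [h5]
  exact h6 j

include hp hB hd hM hk1 hF1 hpp hp2 hpd in
/-- **The weak row.** -/
theorem untw_wrow {dd : ℕ → ℕ} {N : ℕ} {ds : List ℕ} (h : H172.SI.Deg D dd N ds) (hpr : p ≠ r)
    (hds : ∀ x ∈ ds, ¬ p ∣ x) : WRow p ↥(D.group F) := by
  have hk : LocFin (AlgebraicClosure (ZMod r)) := locFin_of_isAlgebraic r _
  have : Fact p.Prime := ⟨hpp⟩
  have := hF1.1
  obtain ⟨f⟩ := BpExc.RowsUntw.exists_emb r F
  obtain ⟨n, hn0, hn⟩ := exists_card (F := F) r
  have hpF : ¬ p ∣ Fintype.card F := by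
    rw [← Nat.card_eq_fintype_card, hn]
    intro h4
    exact hpr ((Nat.prime_dvd_prime_iff_eq hpp (Fact.out : r.Prime)).1 (hpp.dvd_of_dvd_pow h4))
  have hd0 : d ≠ 0 := by rcases hd with h | h | h <;> omega
  -- the inner-diagonal automorphisms
  let DD : Subgroup (MulAut ↥(D.group F)) :=
    { carrier := {z | ∃ y : ↥(D.group (AlgebraicClosure (ZMod r))), ∀ a,
        emb hp.inList f (z a) = y * emb hp.inList f a * y⁻¹}
      mul_mem' := by
        rintro z z' ⟨y, hy⟩ ⟨y', hy'⟩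
        refine ⟨y * y', fun a => ?_⟩
        rw [MulAut.mul_apply, hy, hy']
        group
      one_mem' := ⟨1, fun a => by simp⟩
      inv_mem' := by
        rintro z ⟨y, hy⟩
        refine ⟨y⁻¹, fun a => ?_⟩
        have h1 := hy (z⁻¹ a)
        rw [MulAut.apply_inv_self] at h1
        rw [h1]
        group }
  have hcen : ∀ z : ↥(D.group (AlgebraicClosure (ZMod r))), (∀ a, z * emb hp.inList f a = emb hp.inList f a * z) →
      z = 1 := fun z hz => eq_one_of_comm hp hk r f (center_bot hk1) hz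
  refine wrow_of_comm hF1.2 hpp hp2 (fun Q hQ => h.comm hds hpF Q hQ) ?_ DD
    (fun g => ⟨emb hp.inList f g, fun a => by simp⟩) ?_ ?_
  · intro c hc hco E hE hcE e he hep
    exact untw_hom hp hB hd hM hk1 hF1 hpp hp2 hpd h hpr hds c hco hc E hE hcE e he hep
  · rintro z ⟨y, hy⟩ ⟨j, hj⟩
    have h1 : phi D (AlgebraicClosure (ZMod r)) r n y = y := by
      have h2 : y⁻¹ * phi D (AlgebraicClosure (ZMod r)) r n y = 1 := by
        apply hcen
        intro a
        have h3 : phi D (AlgebraicClosure (ZMod r)) r n y * emb hp.inList f a *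
            (phi D (AlgebraicClosure (ZMod r)) r n y)⁻¹ = y * emb hp.inList f a * y⁻¹ := by
          rw [← hy, ← phi_emb hp r f hn (z a), hy, map_mul, map_mul, map_inv, phi_emb hp r f hn]
        calc y⁻¹ * phi D (AlgebraicClosure (ZMod r)) r n y * emb hp.inList f a
            = y⁻¹ * (phi D (AlgebraicClosure (ZMod r)) r n y * emb hp.inList f a *
              (phi D (AlgebraicClosure (ZMod r)) r n y)⁻¹) * phi D (AlgebraicClosure (ZMod r)) r n y := by group
          _ = y⁻¹ * (y * emb hp.inList f a * y⁻¹) * phi D (AlgebraicClosure (ZMod r)) r n y := by rw [h3]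
          _ = emb hp.inList f a * (y⁻¹ * phi D (AlgebraicClosure (ZMod r)) r n y) := by group
      exact (inv_mul_eq_one.1 h2).symm
    have h2 : y ^ p ^ j = 1 := by
      have h3 : ∀ m : ℕ, ∀ a, emb hp.inList f ((z ^ m) a) = y ^ m * emb hp.inList f a * (y ^ m)⁻¹ := by
        intro m
        induction m with
        | zero => intro a; simp
        | succ m ih =>
          intro a
          rw [pow_succ', MulAut.mul_apply, hy, ih, pow_succ']
          group
      apply hcen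
      intro a
      have h4 := h3 (p ^ j) a
      rw [hj, MulAut.one_apply] at h4
      exact (eq_mul_inv_iff_mul_eq.1 h4).symm
    have h3 := H378.TorFin.fix_pow_mem hp f r hn hB hd0 h1
    obtain ⟨g, hg⟩ : y ∈ (emb hp.inList f).range := by
      have hcop : d.Coprime (p ^ (j + 1)) := hpd.pow_right _
      obtain ⟨i, -, hi⟩ := Nat.exists_mul_mod_eq_one_of_coprime hcop (Nat.one_lt_pow (Nat.succ_ne_zero j) hpp.one_lt)
      have h4 : y ^ p ^ (j + 1) = 1 := by rw [pow_succ, pow_mul, h2, one_pow]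
      have h5 : y = (y ^ d) ^ i := by
        rw [← pow_mul, ← Nat.div_add_mod (d * i) (p ^ (j + 1)), pow_add, pow_mul, h4, one_pow, one_mul, hi, pow_one]
      rw [h5]
      exact pow_mem h3 i
    refine ⟨g, MulEquiv.ext fun a => ?_⟩
    apply emb_injective hp.inList f
    rw [hy, MulAut.conj_apply, map_mul, map_mul, map_inv, hg]
  · intro c c' hc hc' hco hco'
    obtain ⟨-, -, i, y, hi, hy⟩ := outer_cases hp hB hd hM hk1 hF1 hpp hp2 hpd f hn c hco hc
    obtain ⟨-, -, j, y', hj, hy'⟩ := outer_cases hp hB hd hM hk1 hF1 hpp hp2 hpd f hn c' hco' hc'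
    refine ⟨j, i, hj, hi, y' * y⁻¹, fun a => ?_⟩
    rw [MulAut.mul_apply, hy', MulAut.mul_apply, MulAut.conj_apply]
    have h1 := hy ((c ^ i)⁻¹ a)
    rw [MulAut.apply_inv_self, MulAut.mul_apply, MulAut.conj_apply] at h1
    rw [h1]
    group

end Main

end Cfsg.Agent.H28.T5Untw
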