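import Cfsg.Agent.H28.T5Ok
import Cfsg.Agent.H28.T5Untw
import Cfsg.Agent.H897.T5Sub

/-!
# T5 rows: `G₂(q)`, `F₄(q)`, `E₆(q)`, `E₇(q)`, `E₈(q)` in cross characteristic

`F` finite, `p` prime, `p ∤ |F|`, `e : S ≃* D.group F`.

* `outerOk_of` and `outerOk_g2` ... : `OuterOk p S` for all `p ≥ 5` (also `p = |F|`'s prime);
* `homOk_*` : `HomOk p S` if `p` divides no degree;
* `wrow_*` : the weak rows; `mrow_*` : the middle rows, from the pairs of elements of `S` (`hin`) and the AA-theorem.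
-/

set_option autoImplicit false
set_option linter.unusedSectionVars false

namespace Cfsg.Agent.H28.T5RowsUntw

open CoxeterSystem Subgroup Cfsg Cfsg.Lie Cfsg.Lie.ChevalleyDatum
open Cfsg.Agent.ChevalleyStructure Cfsg.Agent.ChevalleyStructure.Elts Cfsg.Agent.ChevalleyStructure.CoxeterGeom
  Cfsg.Agent.ChevalleyStructure.CoxeterGeomTypes Cfsg.Agent.ChevalleyStructure.NPerm
open Cfsg.Agent.Tits.Roots Cfsg.Agent.Tits.Core Cfsg.Agent.Nodes.Reps Cfsg.Agent.Nodes.BNOf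
  Cfsg.Agent.Nodes.RGDChev
open Cfsg.Agent.BpExc Cfsg.Agent.BpExc.FamExt Cfsg.Agent.BpExc.FamUntw Cfsg.Agent.BpExc.FamInst Cfsg.Agent.BpExc.FamField
open Cfsg.Agent.CpAut.RgdUntw
open Cfsg.Agent.H172.SI (Deg deg_G2 deg_F4 deg_E6 deg_E7 deg_E8)
open Cfsg.Agent.H533.T5 Cfsg.Agent.H957.T5M Cfsg.Agent.H106.MT Cfsg.Agent.H106.MB
open Cfsg.Agent.H28.T5Mid Cfsg.Agent.H28.T5Untw Cfsg.Agent.H28.T5Ok

universe u

section Gen

variable {D : ChevalleyDatum} {l : ℕ} {M : CoxeterMatrix (Fin l)} (hp : IsType D l M) {F : Type} [Field F] [Fintype F]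
  {d : ℕ} {B : Fin l → Fin l → ℤ} (hB : InvC D l d B) (hd : d = 1 ∨ d = 2 ∨ d = 3) (hM : SymTwo M)
  (hk1 : ∀ (k : Type) [Field k] [IsAlgClosed k], IsSimpleGroup ↥(D.group k) ∧ ¬ IsMulCommutative ↥(D.group k))
  (hF1 : IsSimpleGroup ↥(D.group F) ∧ ¬ IsMulCommutative ↥(D.group F))
  {p : ℕ} (hpp : p.Prime) (hp2 : p ≠ 2) (hpd : d.Coprime p)

include hp hB hd hM hk1 hF1 hpp hp2 hpd in
theorem outerOk_of (hN : ∀ (F₀ : Type) [Field F₀] [Finite F₀], ∃ N₀ : Subgroup ↥(D.group F₀), N₀.Characteristic ∧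
      IsSimpleGroup ↥N₀ ∧ (¬ IsMulCommutative ↥N₀) ∧ ((∀ y : ↥(D.group F₀), (∀ z, y * z = z * y) → y = 1) →
        ∀ w, w ∈ Subgroup.centralizer (N₀ : Set ↥(D.group F₀)) → w = 1)) : OuterOk p ↥(D.group F) := by
  have : Fact p.Prime := ⟨hpp⟩
  obtain ⟨r, hr', hFr⟩ := RowsUntw.exists_char F
  have : Fact r.Prime := ⟨hr'⟩
  constructor
  · intro x hx hx1 _
    have hd0 : d ≠ 0 := by rcases hd with h | h | h <;> omega
    obtain ⟨F₀, h1, h2, h3⟩ := H192.Fc.sb_untw (r := r) hp hB hd0 hpd hM (hk1 _) hF1 hp2 hx hx1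
    obtain ⟨N₀, h4, h5, h6, h7⟩ := hN ↥F₀
    obtain ⟨N, h8, h9, ⟨e⟩, h10⟩ := h3 N₀ h4 (h7 h2)
    refine ⟨N, h8, h9, e.isSimpleGroup, ?_, h10⟩
    intro hc
    refine h6 ⟨⟨fun a b => e.symm.injective ?_⟩⟩
    rw [map_mul, map_mul]
    exact hc.is_comm.comm _ _
  · intro c d hc hd' hc1 hd1
    exact untw_conj hp (r := r) hB hd hM (hk1 _) hF1 hpp hp2 hpd c d hc hd' hc1 hd1

theorem hN_top (hs : ∀ (F₀ : Type) [Field F₀], IsSimpleGroup ↥(D.group F₀) ∧ ¬ IsMulCommutative ↥(D.group F₀)) :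
    ∀ (F₀ : Type) [Field F₀] [Finite F₀], ∃ N₀ : Subgroup ↥(D.group F₀), N₀.Characteristic ∧
      IsSimpleGroup ↥N₀ ∧ (¬ IsMulCommutative ↥N₀) ∧ ((∀ y : ↥(D.group F₀), (∀ z, y * z = z * y) → y = 1) →
        ∀ w, w ∈ Subgroup.centralizer (N₀ : Set ↥(D.group F₀)) → w = 1) := by
  intro F₀ _ _
  have h1 := hs F₀
  refine ⟨⊤, inferInstance, ?_, ?_, fun h w hw => h w fun z => (mem_centralizer_iff.1 hw z (mem_top z)).symm⟩
  · have := h1.1
    exact (topEquiv (G := ↥(D.group F₀))).isSimpleGroup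
  · intro hcm
    refine h1.2 ⟨⟨fun a b => topEquiv.symm.injective ?_⟩⟩
    rw [map_mul, map_mul]
    exact hcm.is_comm.comm _ _

include hp hB hd hM hk1 hF1 hpp hp2 hpd in
theorem homOk_of {dd : ℕ → ℕ} {N : ℕ} {ds : List ℕ} (h : Deg D dd N ds) (hpF : ¬ p ∣ Fintype.card F)
    (hds : ∀ x ∈ ds, ¬ p ∣ x) : HomOk p ↥(D.group F) := by
  obtain ⟨r, hr', hFr⟩ := RowsUntw.exists_char F
  have : Fact r.Prime := ⟨hr'⟩
  obtain ⟨n, hn0, hn⟩ := exists_card (F := F) r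
  have hpr : p ≠ r := by
    rintro rfl
    apply hpF
    rw [← Nat.card_eq_fintype_card, hn]
    exact dvd_pow_self _ hn0.ne'
  intro x hx hx1 E hE hxE
  exact untw_hom hp (r := r) hB hd hM (hk1 _) hF1 hpp hp2 hpd h hpr hds x hx hx1 E hE hxE

include hp hB hd hM hk1 hF1 hpp hp2 hpd in
theorem wrow_of {dd : ℕ → ℕ} {N : ℕ} {ds : List ℕ} (h : Deg D dd N ds) (hpF : ¬ p ∣ Fintype.card F)
    (hds : ∀ x ∈ ds, ¬ p ∣ x) : WRow p ↥(D.group F) := by
  obtain ⟨r, hr', hFr⟩ := RowsUntw.exists_char F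
  have : Fact r.Prime := ⟨hr'⟩
  obtain ⟨n, hn0, hn⟩ := exists_card (F := F) r
  have hpr : p ≠ r := by
    rintro rfl
    apply hpF
    rw [← Nat.card_eq_fintype_card, hn]
    exact dvd_pow_self _ hn0.ne'
  exact untw_wrow hp (r := r) hB hd hM (hk1 _) hF1 hpp hp2 hpd h hpr hds

end Gen

/-! ### the families -/

theorem hN_g2 : ∀ (F₀ : Type) [Field F₀] [Finite F₀], ∃ N₀ : Subgroup ↥(chevG2.group F₀), N₀.Characteristic ∧
      IsSimpleGroup ↥N₀ ∧ (¬ IsMulCommutative ↥N₀) ∧ ((∀ y : ↥(chevG2.group F₀), (∀ z, y * z = z * y) → y = 1) →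
        ∀ w, w ∈ Subgroup.centralizer (N₀ : Set ↥(chevG2.group F₀)) → w = 1) := by
  intro F₀ _ _
  have := Fintype.ofFinite F₀
  by_cases h3' : 3 ≤ Fintype.card F₀
  · have hs₀ := Cfsg.Agent.S1055.result (F := F₀) (RowsUntw.exists_ne h3')
    refine ⟨⊤, inferInstance, ?_, ?_, fun h w hw => h w fun z => (mem_centralizer_iff.1 hw z (mem_top z)).symm⟩
    · have := hs₀.1
      exact (topEquiv (G := ↥(chevG2.group F₀))).isSimpleGroup
    · intro hcm
      refine hs₀.2 ⟨⟨fun a b => topEquiv.symm.injective ?_⟩⟩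
      rw [map_mul, map_mul]
      exact hcm.is_comm.comm _ _
  · have hE : Fintype.card F₀ = 2 := by
      have := Fintype.one_lt_card (α := F₀)
      omega
    -- the field with nine elements
    have : Fact (Nat.Prime 3) := ⟨Nat.prime_three⟩
    have := Fintype.ofFinite (GaloisField 3 2)
    have hK : Fintype.card (GaloisField 3 2) = 9 := by
      rw [← Nat.card_eq_fintype_card, GaloisField.card 3 2 (by norm_num)]
      norm_num
    obtain ⟨e'⟩ := Cfsg.Agent.S1057.result hE hK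
    have hsP := Cfsg.Agent.S0283.result (F := GaloisField 3 2) (q := 3) (by rw [hK]; norm_num) 3 le_rfl (by omega)
    have hcP := SmallSimple.PSLFacts.card_psu_three_three hK
    have hsM : IsSimpleGroup ↥(commutator ↥(chevG2.group F₀)) := e'.isSimpleGroup
    have hcM : Nat.card ↥(commutator ↥(chevG2.group F₀)) = 6048 := by
      rw [← hcP]; exact Nat.card_congr e'.toEquiv
    have hnaM : ¬ IsMulCommutative ↥(commutator ↥(chevG2.group F₀)) := by
      intro hc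
      let _ : CommGroup ↥(commutator ↥(chevG2.group F₀)) :=
        { (inferInstance : Group ↥(commutator ↥(chevG2.group F₀))) with mul_comm := hc.is_comm.comm }
      have h3 := IsSimpleGroup.prime_card (α := ↥(commutator ↥(chevG2.group F₀)))
      rw [hcM] at h3
      norm_num at h3
    exact ⟨commutator ↥(chevG2.group F₀), inferInstance, hsM, hnaM, H192.Fc.cent_commutator hsM hnaM⟩

section Fam

variable {S : Type u} [Group S] {F : Type} [Field F] [Fintype F] {p : ℕ} (hpp : p.Prime)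

include hpp in
theorem cop_of (h5 : 5 ≤ p) {d : ℕ} (h0 : 0 < d) (hd : d < 5) : d.Coprime p :=
  (Nat.coprime_of_lt_prime (by omega) (by omega) hpp).symm

include hpp in
theorem ndvd_of {m : ℕ} (h5 : m + 1 ≤ p) {ds : List ℕ} (h : ∀ x ∈ ds, x ∣ m.factorial ^ 3) : ∀ x ∈ ds, ¬ p ∣ x := by
  intro x hx h1
  have h2 := (hpp.dvd_factorial).1 (hpp.dvd_of_dvd_pow (h1.trans (h x hx)))
  omega

/-- pairs of elements of the isomorphic group -/
theorem hin_congr {T : Type*} [Group T] (e : S ≃* T)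
    (hin : ∀ x y : S, orderOf x = p → orderOf y = p → MPair p (⊤ : Subgroup S) x y) :
    ∀ x y : T, orderOf x = p → orderOf y = p → MPair p (⊤ : Subgroup T) x y := by
  intro x y hx hy
  refine MPair.of_hom e.symm.toMonoidHom (T := (⊤ : Subgroup S)) ?_ (hin _ _ ?_ ?_)
  · intro s _
    exact ⟨e s, mem_top _, e.symm_apply_apply s⟩
  · show orderOf (e.symm x) = p
    rw [MulEquiv.orderOf_eq, hx]
  · show orderOf (e.symm y) = p
    rw [MulEquiv.orderOf_eq, hy]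

include hpp in
theorem ndvd_g2 (h5 : 5 ≤ p) : ∀ x ∈ [2, 6], ¬ p ∣ x := by
  exact ndvd_of hpp h5 (by decide)

include hpp in
theorem outerOk_g2 (h5 : 5 ≤ p) (hF : 3 ≤ Fintype.card F) (e : S ≃* ↥(chevG2.group F)) : OuterOk p S :=
  OuterOk.congr e (outerOk_of RowsUntw.g2T inv_G2 (Or.inl rfl) symTwo_G2 (fun k _ _ => S1055.result (exists_ne_algClosed k))
    (S1055.result (RowsUntw.exists_ne hF)) hpp (by omega) (cop_of hpp h5 (by norm_num) (by norm_num)) hN_g2)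

include hpp in
theorem homOk_g2 (h5 : 5 ≤ p) (hF : 3 ≤ Fintype.card F) (hpF : ¬ p ∣ Fintype.card F) (e : S ≃* ↥(chevG2.group F)) : HomOk p S :=
  HomOk.congr e (homOk_of RowsUntw.g2T inv_G2 (Or.inl rfl) symTwo_G2 (fun k _ _ => S1055.result (exists_ne_algClosed k))
    (S1055.result (RowsUntw.exists_ne hF)) hpp (by omega) (cop_of hpp (by omega) (by norm_num) (by norm_num)) deg_G2 hpF
    (ndvd_g2 hpp h5))

include hpp in
theorem wrow_g2 (h5 : 5 ≤ p) (hF : 3 ≤ Fintype.card F) (hpF : ¬ p ∣ Fintype.card F) (e : S ≃* ↥(chevG2.group F)) : WRow p S :=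
  H897.T5Sub.WRow.congr e.symm (wrow_of RowsUntw.g2T inv_G2 (Or.inl rfl) symTwo_G2 (fun k _ _ => S1055.result (exists_ne_algClosed k))
    (S1055.result (RowsUntw.exists_ne hF)) hpp (by omega) (cop_of hpp (by omega) (by norm_num) (by norm_num)) deg_G2 hpF
    (ndvd_g2 hpp h5))

include hpp in
theorem mrow_g2 [Finite S] (hAA : AAHyp.{u} p) (h5 : 5 ≤ p) (hF : 3 ≤ Fintype.card F) (hpF : ¬ p ∣ Fintype.card F)
    (e : S ≃* ↥(chevG2.group F)) (hin : ∀ x y : S, orderOf x = p → orderOf y = p → MPair p (⊤ : Subgroup S) x y) :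
    MRow p S := by
  have hs : IsSimpleGroup ↥(chevG2.group F) ∧ ¬ IsMulCommutative ↥(chevG2.group F) :=
    (S1055.result (RowsUntw.exists_ne hF))
  have := hs.1
  have := e.isSimpleGroup
  refine mrow_of_ok hAA hpp (fun hc => hs.2 ⟨⟨fun a b => e.symm.injective ?_⟩⟩) (outerOk_g2 hpp (by omega) hF e)
    (homOk_g2 hpp h5 hF hpF e) hin
  rw [map_mul, map_mul]
  exact hc.is_comm.comm _ _

include hpp in
theorem ndvd_f4 (h5 : 5 ≤ p) : ∀ x ∈ [2, 6, 8, 12], ¬ p ∣ x := by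
  exact ndvd_of hpp h5 (by decide)

include hpp in
theorem outerOk_f4 (h5 : 5 ≤ p) (e : S ≃* ↥(chevF4.group F)) : OuterOk p S :=
  OuterOk.congr e (outerOk_of RowsUntw.f4T inv_F4 (Or.inl rfl) symTwo_F4 (fun k _ _ => S1054.result chevF4 (by simp))
    (S1054.result chevF4 (by simp)) hpp (by omega) (cop_of hpp h5 (by norm_num) (by norm_num)) (hN_top fun F₀ _ => S1054.result chevF4 (by simp)))

include hpp in
theorem homOk_f4 (h5 : 5 ≤ p) (hpF : ¬ p ∣ Fintype.card F) (e : S ≃* ↥(chevF4.group F)) : HomOk p S :=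
  HomOk.congr e (homOk_of RowsUntw.f4T inv_F4 (Or.inl rfl) symTwo_F4 (fun k _ _ => S1054.result chevF4 (by simp))
    (S1054.result chevF4 (by simp)) hpp (by omega) (cop_of hpp (by omega) (by norm_num) (by norm_num)) deg_F4 hpF
    (ndvd_f4 hpp h5))

include hpp in
theorem wrow_f4 (h5 : 5 ≤ p) (hpF : ¬ p ∣ Fintype.card F) (e : S ≃* ↥(chevF4.group F)) : WRow p S :=
  H897.T5Sub.WRow.congr e.symm (wrow_of RowsUntw.f4T inv_F4 (Or.inl rfl) symTwo_F4 (fun k _ _ => S1054.result chevF4 (by simp))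
    (S1054.result chevF4 (by simp)) hpp (by omega) (cop_of hpp (by omega) (by norm_num) (by norm_num)) deg_F4 hpF
    (ndvd_f4 hpp h5))

include hpp in
theorem mrow_f4 [Finite S] (hAA : AAHyp.{u} p) (h5 : 5 ≤ p) (hpF : ¬ p ∣ Fintype.card F)
    (e : S ≃* ↥(chevF4.group F)) (hin : ∀ x y : S, orderOf x = p → orderOf y = p → MPair p (⊤ : Subgroup S) x y) :
    MRow p S := by
  have hs : IsSimpleGroup ↥(chevF4.group F) ∧ ¬ IsMulCommutative ↥(chevF4.group F) :=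
    (S1054.result chevF4 (by simp))
  have := hs.1
  have := e.isSimpleGroup
  refine mrow_of_ok hAA hpp (fun hc => hs.2 ⟨⟨fun a b => e.symm.injective ?_⟩⟩) (outerOk_f4 hpp (by omega) e)
    (homOk_f4 hpp h5 hpF e) hin
  rw [map_mul, map_mul]
  exact hc.is_comm.comm _ _

include hpp in
theorem ndvd_e6 (h5 : 7 ≤ p) : ∀ x ∈ [2, 5, 6, 8, 9, 12], ¬ p ∣ x := by
  exact ndvd_of hpp h5 (by decide)

include hpp in
theorem outerOk_e6 (h5 : 5 ≤ p) (e : S ≃* ↥(chevE6.group F)) : OuterOk p S :=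
  OuterOk.congr e (outerOk_of RowsUntw.e6T inv_E6 (Or.inr (Or.inr rfl)) symTwo_E6 (fun k _ _ => S1054.result chevE6 (by simp))
    (S1054.result chevE6 (by simp)) hpp (by omega) (cop_of hpp h5 (by norm_num) (by norm_num)) (hN_top fun F₀ _ => S1054.result chevE6 (by simp)))

include hpp in
theorem homOk_e6 (h5 : 7 ≤ p) (hpF : ¬ p ∣ Fintype.card F) (e : S ≃* ↥(chevE6.group F)) : HomOk p S :=
  HomOk.congr e (homOk_of RowsUntw.e6T inv_E6 (Or.inr (Or.inr rfl)) symTwo_E6 (fun k _ _ => S1054.result chevE6 (by simp))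
    (S1054.result chevE6 (by simp)) hpp (by omega) (cop_of hpp (by omega) (by norm_num) (by norm_num)) deg_E6 hpF
    (ndvd_e6 hpp h5))

include hpp in
theorem wrow_e6 (h5 : 7 ≤ p) (hpF : ¬ p ∣ Fintype.card F) (e : S ≃* ↥(chevE6.group F)) : WRow p S :=
  H897.T5Sub.WRow.congr e.symm (wrow_of RowsUntw.e6T inv_E6 (Or.inr (Or.inr rfl)) symTwo_E6 (fun k _ _ => S1054.result chevE6 (by simp))
    (S1054.result chevE6 (by simp)) hpp (by omega) (cop_of hpp (by omega) (by norm_num) (by norm_num)) deg_E6 hpF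
    (ndvd_e6 hpp h5))

include hpp in
theorem mrow_e6 [Finite S] (hAA : AAHyp.{u} p) (h5 : 7 ≤ p) (hpF : ¬ p ∣ Fintype.card F)
    (e : S ≃* ↥(chevE6.group F)) (hin : ∀ x y : S, orderOf x = p → orderOf y = p → MPair p (⊤ : Subgroup S) x y) :
    MRow p S := by
  have hs : IsSimpleGroup ↥(chevE6.group F) ∧ ¬ IsMulCommutative ↥(chevE6.group F) :=
    (S1054.result chevE6 (by simp))
  have := hs.1
  have := e.isSimpleGroup
  refine mrow_of_ok hAA hpp (fun hc => hs.2 ⟨⟨fun a b => e.symm.injective ?_⟩⟩) (outerOk_e6 hpp (by omega) e)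
    (homOk_e6 hpp h5 hpF e) hin
  rw [map_mul, map_mul]
  exact hc.is_comm.comm _ _

include hpp in
theorem ndvd_e7 (h5 : 11 ≤ p) : ∀ x ∈ [2, 6, 8, 10, 12, 14, 18], ¬ p ∣ x := by
  exact ndvd_of hpp h5 (by decide)

include hpp in
theorem outerOk_e7 (h5 : 5 ≤ p) (e : S ≃* ↥(chevE7.group F)) : OuterOk p S :=
  OuterOk.congr e (outerOk_of RowsUntw.e7T inv_E7 (Or.inr (Or.inl rfl)) symTwo_E7 (fun k _ _ => S1054.result chevE7 (by simp))
    (S1054.result chevE7 (by simp)) hpp (by omega) (cop_of hpp h5 (by norm_num) (by norm_num)) (hN_top fun F₀ _ => S1054.result chevE7 (by simp)))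

include hpp in
theorem homOk_e7 (h5 : 11 ≤ p) (hpF : ¬ p ∣ Fintype.card F) (e : S ≃* ↥(chevE7.group F)) : HomOk p S :=
  HomOk.congr e (homOk_of RowsUntw.e7T inv_E7 (Or.inr (Or.inl rfl)) symTwo_E7 (fun k _ _ => S1054.result chevE7 (by simp))
    (S1054.result chevE7 (by simp)) hpp (by omega) (cop_of hpp (by omega) (by norm_num) (by norm_num)) deg_E7 hpF
    (ndvd_e7 hpp h5))

include hpp in
theorem wrow_e7 (h5 : 11 ≤ p) (hpF : ¬ p ∣ Fintype.card F) (e : S ≃* ↥(chevE7.group F)) : WRow p S :=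
  H897.T5Sub.WRow.congr e.symm (wrow_of RowsUntw.e7T inv_E7 (Or.inr (Or.inl rfl)) symTwo_E7 (fun k _ _ => S1054.result chevE7 (by simp))
    (S1054.result chevE7 (by simp)) hpp (by omega) (cop_of hpp (by omega) (by norm_num) (by norm_num)) deg_E7 hpF
    (ndvd_e7 hpp h5))

include hpp in
theorem mrow_e7 [Finite S] (hAA : AAHyp.{u} p) (h5 : 11 ≤ p) (hpF : ¬ p ∣ Fintype.card F)
    (e : S ≃* ↥(chevE7.group F)) (hin : ∀ x y : S, orderOf x = p → orderOf y = p → MPair p (⊤ : Subgroup S) x y) :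
    MRow p S := by
  have hs : IsSimpleGroup ↥(chevE7.group F) ∧ ¬ IsMulCommutative ↥(chevE7.group F) :=
    (S1054.result chevE7 (by simp))
  have := hs.1
  have := e.isSimpleGroup
  refine mrow_of_ok hAA hpp (fun hc => hs.2 ⟨⟨fun a b => e.symm.injective ?_⟩⟩) (outerOk_e7 hpp (by omega) e)
    (homOk_e7 hpp h5 hpF e) hin
  rw [map_mul, map_mul]
  exact hc.is_comm.comm _ _

include hpp in
theorem ndvd_e8 (h5 : 11 ≤ p) : ∀ x ∈ [2, 8, 12, 14, 18, 20, 24, 30], ¬ p ∣ x := by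
  exact ndvd_of hpp h5 (by decide)

include hpp in
theorem outerOk_e8 (h5 : 5 ≤ p) (e : S ≃* ↥(chevE8.group F)) : OuterOk p S :=
  OuterOk.congr e (outerOk_of RowsUntw.e8T inv_E8 (Or.inl rfl) symTwo_E8 (fun k _ _ => S1054.result chevE8 (by simp))
    (S1054.result chevE8 (by simp)) hpp (by omega) (cop_of hpp h5 (by norm_num) (by norm_num)) (hN_top fun F₀ _ => S1054.result chevE8 (by simp)))

include hpp in
theorem homOk_e8 (h5 : 11 ≤ p) (hpF : ¬ p ∣ Fintype.card F) (e : S ≃* ↥(chevE8.group F)) : HomOk p S :=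
  HomOk.congr e (homOk_of RowsUntw.e8T inv_E8 (Or.inl rfl) symTwo_E8 (fun k _ _ => S1054.result chevE8 (by simp))
    (S1054.result chevE8 (by simp)) hpp (by omega) (cop_of hpp (by omega) (by norm_num) (by norm_num)) deg_E8 hpF
    (ndvd_e8 hpp h5))

include hpp in
theorem wrow_e8 (h5 : 11 ≤ p) (hpF : ¬ p ∣ Fintype.card F) (e : S ≃* ↥(chevE8.group F)) : WRow p S :=
  H897.T5Sub.WRow.congr e.symm (wrow_of RowsUntw.e8T inv_E8 (Or.inl rfl) symTwo_E8 (fun k _ _ => S1054.result chevE8 (by simp))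
    (S1054.result chevE8 (by simp)) hpp (by omega) (cop_of hpp (by omega) (by norm_num) (by norm_num)) deg_E8 hpF
    (ndvd_e8 hpp h5))

include hpp in
theorem mrow_e8 [Finite S] (hAA : AAHyp.{u} p) (h5 : 11 ≤ p) (hpF : ¬ p ∣ Fintype.card F)
    (e : S ≃* ↥(chevE8.group F)) (hin : ∀ x y : S, orderOf x = p → orderOf y = p → MPair p (⊤ : Subgroup S) x y) :
    MRow p S := by
  have hs : IsSimpleGroup ↥(chevE8.group F) ∧ ¬ IsMulCommutative ↥(chevE8.group F) :=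
    (S1054.result chevE8 (by simp))
  have := hs.1
  have := e.isSimpleGroup
  refine mrow_of_ok hAA hpp (fun hc => hs.2 ⟨⟨fun a b => e.symm.injective ?_⟩⟩) (outerOk_e8 hpp (by omega) e)
    (homOk_e8 hpp h5 hpF e) hin
  rw [map_mul, map_mul]
  exact hc.is_comm.comm _ _

end Fam

end Cfsg.Agent.H28.T5RowsUntw
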