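import Cfsg.Agent.H28.Frob
import Cfsg.Agent.H378.TorFin
import Cfsg.Agent.BpExc.RowsUntw

/-!
# Automorphisms of prime order of the untwisted exceptional groups (`Z*_p`)

`main` : an automorphism of odd prime order `p` of `D.group F`, `p` prime to the index of connection `d`, is inner or
satisfies `LangAt`.
-/

set_option autoImplicit false
set_option linter.unusedSectionVars false

namespace Cfsg.Agent.H28.OutUntw

open CoxeterSystem Subgroup Cfsg Cfsg.Lie Cfsg.Lie.ChevalleyDatum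
open Cfsg.Agent.ChevalleyStructure Cfsg.Agent.ChevalleyStructure.Elts Cfsg.Agent.ChevalleyStructure.CoxeterGeom
  Cfsg.Agent.ChevalleyStructure.CoxeterGeomTypes Cfsg.Agent.ChevalleyStructure.NPerm
open Cfsg.Agent.Tits.Roots Cfsg.Agent.Tits.Core Cfsg.Agent.Nodes.Reps Cfsg.Agent.Nodes.BNOf
  Cfsg.Agent.Nodes.RGDChev Cfsg.Agent.Nodes.Bruhat
open Cfsg.Agent.CpAut.RgdUntw Cfsg.Agent.KFacts.RgdField Cfsg.Agent.KFacts.RgdChevCoord Cfsg.Agent.BpExc.TorCent Cfsg.Agent.BpExc.TorChev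
open Cfsg.Agent.BpExc.Tow Cfsg.Agent.BpExc.TowChev Cfsg.Agent.BpExc.FamExt Cfsg.Agent.BpExc.FamUntw
  Cfsg.Agent.BpExc.FamInst Cfsg.Agent.BpExc.LangFr Cfsg.Agent.BpExc.FamField
open Cfsg.Agent.GpExc.Field (glMap emb coe_emb glMap_xG emb_injective coe_glMap)
open Cfsg.Agent.H28.ZIso Cfsg.Agent.H28.Frob

universe u v

variable {D : ChevalleyDatum} {l : ℕ} {M : CoxeterMatrix (Fin l)} (hp : IsType D l M)

section

variable {k : Type u} [Field k] [IsAlgClosed k] (hk : LocFin k) {F : Type u} [Field F] [Finite F] (f : F →+* k)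
  (r : ℕ) [Fact r.Prime] [CharP k r] [CharP F r]

include hp hk f in
theorem main' {d : ℕ} {B : Fin l → Fin l → ℤ} (hB : InvC D l d B) (hd : d ≠ 0) (hM : SymTwo M)
    (hk1 : IsSimpleGroup ↥(D.group k) ∧ ¬ IsMulCommutative ↥(D.group k))
    (hF1 : IsSimpleGroup ↥(D.group F) ∧ ¬ IsMulCommutative ↥(D.group F))
    {p : ℕ} (hpp : p.Prime) (hp2 : p ≠ 2) (hpd : d.Coprime p) {n : ℕ} (hn : Nat.card F = r ^ n)
    (x : MulAut ↥(D.group F)) (hx : orderOf x = p) : (∃ g, x = MulAut.conj g) ∨ LangAt p x := by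
  have hperf : PerfectRing k r := inferInstance
  obtain ⟨hks, hkc⟩ := hk1
  obtain ⟨hFs, hFc⟩ := hF1
  have hcent : ∀ {G : Type u} [Group G], IsSimpleGroup G → ¬ IsMulCommutative G → center G = ⊥ := by
    intro G _ h1 h2
    refine KFacts.RgdLieCharP.center_eq_bot ?_
    by_contra hcon
    push Not at hcon
    exact h2 ⟨⟨hcon⟩⟩
  have hZ := hcent hks hkc
  have hZF := hcent hFs hFc
  have hW := finite_W hp M.toCoxeterSystem
  have R := rgd (K := F) hp M.toCoxeterSystem r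
  have hG1 : RGD.Sup (XX D l F) {x | IsRoot M.toCoxeterSystem hp.isCartan x} = ⊤ := G1_eq_top hp M.toCoxeterSystem
  have hconn := KFacts.RgdLieCharP.conn_of_simple R hG1 hZF
  have hl : Nonempty (Fin l) := by
    rw [← Fin.pos_iff_nonempty]
    rcases Nat.eq_zero_or_pos l with h0 | h0
    · exfalso
      subst h0
      have h1 : (⊤ : Subgroup ↥(D.group F)) = ⊥ := by
        rw [← hG1, eq_bot_iff]
        refine RGD.Sup_le fun x hx => ?_
        obtain ⟨w, i, -⟩ := hx
        exact i.elim0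
      apply hFc
      have h2 : ∀ g : ↥(D.group F), g = 1 := fun g => by
        have : g ∈ (⊤ : Subgroup ↥(D.group F)) := Subgroup.mem_top g
        rwa [h1, Subgroup.mem_bot] at this
      exact ⟨⟨fun a b => by rw [h2 a, h2 b]⟩⟩
    · exact h0
  have hxp : x ^ p = 1 := by rw [← hx, pow_orderOf_eq_one]
  have hroots : ∀ c : F, c ≠ 0 → ∃ b : k, b ^ d = f c := fun c _ =>
    IsAlgClosed.exists_pow_nat_eq (f c) (Nat.pos_of_ne_zero hd)
  have hcen : ∀ z : ↥(D.group k), (∀ a, z * emb hp.inList f a = emb hp.inList f a * z) → z = 1 := fun z hz =>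
    eq_one_of_comm hp hk r f hZ hz
  rcases BpExc.FamUntw.cases hp hk r f hB hd hroots hl hconn hZ hpp (hM.eq_one hpp hp2) hn hxp with h | h
  · left
    obtain ⟨y, hyp, hy, h⟩ := h
    -- `y ∈ K`
    have h1 : y ∈ (emb hp.inList f).range := by
      have h2 := H378.TorFin.fix_pow_mem hp f r hn hB hd hy
      obtain ⟨j, -, hj⟩ := Nat.exists_mul_mod_eq_one_of_coprime hpd hpp.one_lt
      have h3 : y = (y ^ d) ^ j := by
        rw [← pow_mul, ← Nat.div_add_mod (d * j) p, pow_add, pow_mul, hyp, one_pow, one_mul, hj, pow_one]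
      rw [h3]
      exact pow_mem h2 j
    obtain ⟨g, rfl⟩ := h1
    refine ⟨g, ?_⟩
    refine MulEquiv.ext fun a => ?_
    apply emb_injective hp.inList f
    rw [h, MulAut.conj_apply, map_mul, map_mul, map_inv]
  · right
    obtain ⟨i, m, hi, hm0, hmn, y, hy, h⟩ := h
    refine langAt_of_frob (emb_injective hp.inList f) hcen hy (fun a => phi_emb hp r f hn a) (fun z hz a => ?_)
      (fun c => lang_all hp M.toCoxeterSystem hm0 (phi_isFrob r m) (phi_fr hp M.toCoxeterSystem r hk m) y c)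
      hpp hxp hi h
    obtain ⟨b, hb⟩ := H378.TorFin.conj_range hp f r hn hz ⟨a, rfl⟩
    exact ⟨b, hb.symm⟩

end

/-- transport of the conclusion -/
theorem congr {p : ℕ} {L : Type u} [Group L] {N : Type v} [Group N] (e : L ≃* N) {X : MulAut L}
    (h : (∃ g, MulAut.congr e X = MulAut.conj g) ∨ LangAt p (MulAut.congr e X)) :
    (∃ g, X = MulAut.conj g) ∨ LangAt p X := by
  rcases h with ⟨g, hg⟩ | h
  · left
    refine ⟨e.symm g, ?_⟩
    ext y
    have h1 := congrArg (fun β : MulAut N => e.symm (β (e y))) hg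
    simp only [MulAut.congr, MulEquiv.coe_mk, Equiv.coe_fn_mk, MulEquiv.trans_apply,
      MulEquiv.symm_apply_apply, MulAut.conj_apply, map_mul, map_inv] at h1
    rw [h1, MulAut.conj_apply]
  · exact Or.inr (langAt_of_congr e h)

include hp in
theorem main {F : Type} [Field F] [Fintype F] {d : ℕ} {B : Fin l → Fin l → ℤ} (hB : InvC D l d B) (hd : d ≠ 0)
    (hM : SymTwo M)
    (hk1 : ∀ (k : Type) [Field k] [IsAlgClosed k], IsSimpleGroup ↥(D.group k) ∧ ¬ IsMulCommutative ↥(D.group k))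
    (hF1 : IsSimpleGroup ↥(D.group F) ∧ ¬ IsMulCommutative ↥(D.group F))
    {p : ℕ} (hpp : p.Prime) (hp2 : p ≠ 2) (hpd : d.Coprime p) {L : Type v} [Group L] (e : L ≃* ↥(D.group F))
    (X : MulAut L) (hX : orderOf X = p) : (∃ g, X = MulAut.conj g) ∨ LangAt p X := by
  obtain ⟨r, hr⟩ := CharP.exists F
  have : Fact r.Prime := ⟨CharP.char_is_prime F r⟩
  obtain ⟨f⟩ := BpExc.RowsUntw.exists_emb r F
  obtain ⟨n, -, hn⟩ := exists_card (F := F) r
  exact congr e (main' hp (locFin_of_isAlgebraic r (AlgebraicClosure (ZMod r))) f r hB hd hM (hk1 _) hF1 hpp hp2 hpd hn _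
    (by rw [MulEquiv.orderOf_eq, hX]))

/-- **Automorphisms of prime order `p ≥ 5` of the untwisted exceptional groups.** -/
theorem out_exc {p : ℕ} (hpp : p.Prime) (hp5 : 5 ≤ p) {L : Type v} [Group L]
    (h : IsoChevG2 L ∨ IsoF4 L ∨ IsoChevE6 L ∨ IsoE7 L ∨ IsoE8 L) (X : MulAut L) (hX : orderOf X = p) :
    (∃ g, X = MulAut.conj g) ∨ LangAt p X := by
  have hp2 : p ≠ 2 := by omega
  have hcop : ∀ d : ℕ, 0 < d → d < 5 → d.Coprime p := fun d h0 h5 =>
    (Nat.coprime_of_lt_prime (by omega) (by omega) hpp).symm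
  rcases h with h | h | h | h | h
  · obtain ⟨K, _, _, h3, ⟨e⟩⟩ := h
    exact main BpExc.RowsUntw.g2T inv_G2 one_ne_zero symTwo_G2 (fun k _ _ => S1055.result (exists_ne_algClosed k))
      (S1055.result (BpExc.RowsUntw.exists_ne h3)) hpp hp2 (hcop 1 (by norm_num) (by norm_num)) e X hX
  · obtain ⟨K, _, _, ⟨e⟩⟩ := h
    exact main BpExc.RowsUntw.f4T inv_F4 one_ne_zero symTwo_F4 (fun k _ _ => S1054.result chevF4 (by simp))
      (S1054.result chevF4 (by simp)) hpp hp2 (hcop 1 (by norm_num) (by norm_num)) e X hX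
  · obtain ⟨K, _, _, ⟨e⟩⟩ := h
    exact main BpExc.RowsUntw.e6T inv_E6 three_ne_zero symTwo_E6 (fun k _ _ => S1054.result chevE6 (by simp))
      (S1054.result chevE6 (by simp)) hpp hp2 (hcop 3 (by norm_num) (by norm_num)) e X hX
  · obtain ⟨K, _, _, ⟨e⟩⟩ := h
    exact main BpExc.RowsUntw.e7T inv_E7 two_ne_zero symTwo_E7 (fun k _ _ => S1054.result chevE7 (by simp))
      (S1054.result chevE7 (by simp)) hpp hp2 (hcop 2 (by norm_num) (by norm_num)) e X hX
  · obtain ⟨K, _, _, ⟨e⟩⟩ := h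
    exact main BpExc.RowsUntw.e8T inv_E8 one_ne_zero symTwo_E8 (fun k _ _ => S1054.result chevE8 (by simp))
      (S1054.result chevE8 (by simp)) hpp hp2 (hcop 1 (by norm_num) (by norm_num)) e X hX

end Cfsg.Agent.H28.OutUntw
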