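import Cfsg.Agent.H28.FamFour
import Cfsg.Agent.H28.OutUntw
import Cfsg.Agent.H720.TwFr
import Cfsg.Agent.H27.Exc.Inst

/-!
# Automorphisms of prime order `p ≥ 5` of `²E₆(q)` and `³D₄(q)` (`Z*_p`)

`out_tw` : such an automorphism is inner or satisfies `LangAt`.
-/

set_option autoImplicit false
set_option linter.unusedSectionVars false

namespace Cfsg.Agent.H28.OutTw

open CoxeterSystem Subgroup Cfsg Cfsg.Lie Cfsg.Lie.ChevalleyDatum
open Cfsg.Agent.ChevalleyStructure Cfsg.Agent.ChevalleyStructure.Elts Cfsg.Agent.ChevalleyStructure.CoxeterGeom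
  Cfsg.Agent.ChevalleyStructure.CoxeterGeomTypes Cfsg.Agent.ChevalleyStructure.NPerm
open Cfsg.Agent.Nodes.RGDChev Cfsg.Agent.KFacts.RgdChevCoord
open Cfsg.Agent.BpExc.TowChev Cfsg.Agent.BpExc.FamUntw Cfsg.Agent.BpExc.LangFr Cfsg.Agent.BpExc.FamField
  Cfsg.Agent.BpExc.RowsUntw
open Cfsg.Agent.H28.ZIso Cfsg.Agent.H28.Frob Cfsg.Agent.H28.OutUntw
open Cfsg.Agent.ChevalleyStructure.GraphSymm (symmE6 symmD4a)

universe u v

/-- a root of a power prime to the order -/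
theorem mem_of_pow {Y : Type*} [Group Y] {R : Subgroup Y} {y : Y} {d p : ℕ} (hpp : p.Prime) (hpd : d.Coprime p)
    (hyp : y ^ p = 1) (h : y ^ d ∈ R) : y ∈ R := by
  obtain ⟨j, -, hj⟩ := Nat.exists_mul_mod_eq_one_of_coprime hpd hpp.one_lt
  have h3 : y = (y ^ d) ^ j := by
    rw [← pow_mul, ← Nat.div_add_mod (d * j) p, pow_add, pow_mul, hyp, one_pow, one_mul, hj, pow_one]
  rw [h3]
  exact pow_mem h j

/-- an automorphism induced by an element of the image is inner -/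
theorem inner_of {Y : Type*} [Group Y] {L : Type v} [Group L] {ι : L →* Y} (hι : Function.Injective ι)
    {X : MulAut L} {y : Y} (hy : y ∈ ι.range) (h : ∀ a, ι (X a) = y * ι a * y⁻¹) : ∃ g, X = MulAut.conj g := by
  obtain ⟨g, rfl⟩ := hy
  refine ⟨g, MulEquiv.ext fun a => ?_⟩
  apply hι
  rw [h, MulAut.conj_apply, map_mul, map_mul, map_inv]

theorem out_twE6 {p : ℕ} (hpp : p.Prime) (hp5 : 5 ≤ p) {L : Type v} [Group L] (h : Iso2E6 L) (X : MulAut L)
    (hX : orderOf X = p) : (∃ g, X = MulAut.conj g) ∨ LangAt p X := by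
  obtain ⟨K, _, _, q, hq, hK, ⟨e⟩⟩ := h
  refine congr e ?_
  obtain ⟨x, hx⟩ : ∃ x, x = MulAut.congr e X := ⟨_, rfl⟩
  have hxo : orderOf x = p := by rw [hx, MulEquiv.orderOf_eq, hX]
  have hxp : x ^ p = 1 := by rw [← hxo, pow_orderOf_eq_one]
  rw [← hx]
  clear hx
  obtain ⟨r, hr⟩ := CharP.exists K
  have : Fact r.Prime := ⟨CharP.char_is_prime K r⟩
  obtain ⟨n, hn0, hn⟩ := H27.Exc.exists_pow (r := r) two_pos hq hK
  obtain ⟨f⟩ := exists_emb r K
  have hk : LocFin (AlgebraicClosure (ZMod r)) := locFin_of_isAlgebraic r _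
  obtain ⟨φ, hφ, hqq⟩ := TwE6Basic.exists_frob hq hK
  have hp6 : IsType chevE6 6 CoxeterMatrix.E₆ := e6T
  have hφk : ∀ t, ((frb (AlgebraicClosure (ZMod r)) r n : AlgebraicClosure (ZMod r) ≃+* AlgebraicClosure (ZMod r)) :
      AlgebraicClosure (ZMod r) →+* AlgebraicClosure (ZMod r)) t = t ^ q := by
    intro t
    rw [hn]
    exact frb_apply _ r n t
  rcases H522.FamTw.Six.cases f r hφ hqq (fun a => IsAlgClosed.exists_pow_nat_eq (f a) (by norm_num)) hn hq.one_lt hK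
    hpp (by omega) hxp with h | h
  · left
    obtain ⟨y, hyp, hy, h⟩ := h
    refine inner_of (BpExc.FamTw.Six.em_injective f) (mem_of_pow (d := Nat.gcd 3 (q + 1)) hpp ?_ hyp
      (H720.TwFr.desc6 f r hk hn0 hn hK hy)) h
    have h1 : (3 : ℕ).Coprime p := (Nat.coprime_of_lt_prime (by omega) (by omega) hpp).symm
    exact Nat.Coprime.coprime_dvd_left (Nat.gcd_dvd_left _ _) h1
  · right
    obtain ⟨i, m, hi, hm0, hmn, y, hy, h⟩ := h
    exact langAt_of_frob (BpExc.FamTw.Six.em_injective f) (H522.FamTw.Six.eq_one_of_comm hφ hqq f) hy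
      (fun a => H522.FamTw.Six.sig6_em f r hφ hqq hn a) (fun z hz a => by
        obtain ⟨b, hb⟩ := H27.Exc.conj_mem (BpExc.FamTw.Six.coe_em f)
          (BpExc.EmbInst.twE6_normalizer hq hK hφk z.2 (congrArg Subtype.val hz)) _ ⟨a, rfl⟩
        exact ⟨b, hb.symm⟩)
      (fun c => lang_all hp6 CoxeterMatrix.E₆.toCoxeterSystem hm0 (H522.FamTw.Frame.isFrob_sig6 r m)
        (H522.FamTw.Frame.fr_sig6 hk r hp6 CoxeterMatrix.E₆.toCoxeterSystem m) y c)
      hpp hxp hi h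

theorem out_twD4 {p : ℕ} (hpp : p.Prime) (hp5 : 5 ≤ p) {L : Type v} [Group L] (h : Iso3D4 L) (X : MulAut L)
    (hX : orderOf X = p) : (∃ g, X = MulAut.conj g) ∨ LangAt p X := by
  obtain ⟨K, _, _, q, hq, hK, ⟨e⟩⟩ := h
  refine congr e ?_
  obtain ⟨x, hx⟩ : ∃ x, x = MulAut.congr e X := ⟨_, rfl⟩
  have hxo : orderOf x = p := by rw [hx, MulEquiv.orderOf_eq, hX]
  have hxp : x ^ p = 1 := by rw [← hxo, pow_orderOf_eq_one]
  rw [← hx]
  clear hx
  obtain ⟨r, hr⟩ := CharP.exists K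
  have : Fact r.Prime := ⟨CharP.char_is_prime K r⟩
  obtain ⟨n, hn0, hn⟩ := H27.Exc.exists_pow (r := r) three_pos hq hK
  obtain ⟨f⟩ := exists_emb r K
  have hk : LocFin (AlgebraicClosure (ZMod r)) := locFin_of_isAlgebraic r _
  obtain ⟨φ, hφ⟩ := D4Fixed.exists_frob hq hK
  have hφk : ∀ t, ((frb (AlgebraicClosure (ZMod r)) r n : AlgebraicClosure (ZMod r) ≃+* AlgebraicClosure (ZMod r)) :
      AlgebraicClosure (ZMod r) →+* AlgebraicClosure (ZMod r)) t = t ^ q := by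
    intro t
    rw [hn]
    exact frb_apply _ r n t
  rcases FamFour.fam hk hq hK f r coxeterD4.toCoxeterSystem (Φ := frb (AlgebraicClosure (ZMod r)) r n)
    (fun a => by rw [frb_apply, hn]) hpp (by omega) x hxo with h | h
  · left
    obtain ⟨y, hyp, hy, h⟩ := h
    refine inner_of (FamFour.em_injective f) ?_ h
    have h1 := H720.TwFr.desc4 f r (H27.Exc.twistedD4_le_group q) hk hn0 hn hK (y := y) hy
    exact h1
  · right
    obtain ⟨i, c, φ', g', e', hi, he', hF, hFr, hy, h⟩ := h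
    exact langAt_of_frob (FamFour.em_injective f) (fun z hz => FamFour.eq_one_of_comm hφ hK f hz) hy
      (fun a => FamFour.sig_em hφ hK f (Φ := frb (AlgebraicClosure (ZMod r)) r n)
        (fun a => by rw [frb_apply, hφ, map_pow, hn]) a) (fun z hz a => by
        obtain ⟨b, hb⟩ := H27.Exc.conj_mem (FamFour.coe_em f)
          (BpExc.EmbInst.twD4_normalizer hq hK hφk z.2 (congrArg Subtype.val hz)) _ ⟨a, rfl⟩
        exact ⟨b, hb.symm⟩)
      (fun c' => lang_all Nodes.RGDTwD4.hp coxeterD4.toCoxeterSystem he' hF hFr c c')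
      hpp hxp hi h

/-- **Automorphisms of prime order `p ≥ 5` of `²E₆(q)`, `³D₄(q)`.** -/
theorem out_tw {p : ℕ} (hpp : p.Prime) (hp5 : 5 ≤ p) {L : Type v} [Group L] (h : Iso2E6 L ∨ Iso3D4 L) (X : MulAut L)
    (hX : orderOf X = p) : (∃ g, X = MulAut.conj g) ∨ LangAt p X :=
  h.elim (fun h => out_twE6 hpp hp5 h X hX) fun h => out_twD4 hpp hp5 h X hX

end Cfsg.Agent.H28.OutTw
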