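import Cfsg.Agent.H28.T5Ok
import Cfsg.Agent.H28.T5Untw
import Cfsg.Agent.H28.OutTw
import Cfsg.Agent.H640.FC.TwSix
import Cfsg.Agent.H897.T5Sub

/-!
# T5 rows: `²E₆(q)` in cross characteristic

* `std6` : the frame `Std` for `²E₆(q) ≤ E₆(k)`;
* `outerOk_twE6`, `homOk_twE6`, `wrow_twE6`, `mrow_twE6`.
-/

set_option autoImplicit false
set_option linter.unusedSectionVars false

namespace Cfsg.Agent.H28.T5TwSix

open CoxeterSystem Subgroup Cfsg Cfsg.Lie Cfsg.Lie.ChevalleyDatum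
open Cfsg.Agent.ChevalleyStructure Cfsg.Agent.ChevalleyStructure.Elts Cfsg.Agent.ChevalleyStructure.CoxeterGeom
  Cfsg.Agent.ChevalleyStructure.CoxeterGeomTypes Cfsg.Agent.ChevalleyStructure.NPerm
open Cfsg.Agent.Nodes.RGDChev Cfsg.Agent.KFacts.RgdChevCoord
open Cfsg.Agent.BpExc.TowChev Cfsg.Agent.BpExc.FamUntw Cfsg.Agent.BpExc.LangFr Cfsg.Agent.BpExc.FamField
  Cfsg.Agent.BpExc.RowsUntw
open Cfsg.Agent.ChevalleyStructure.GraphSymm (symmE6)
open Cfsg.Agent.H522.FamTw.Frame (sig6 sig6_pow sig6_sq isFrob_sig6 fr_sig6)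
open Cfsg.Agent.BpExc.FamTw.Six (em em_injective coe_em)
open Cfsg.Agent.H533.T5 Cfsg.Agent.H957.T5M Cfsg.Agent.H106.MT
open Cfsg.Agent.H28.T5Frob Cfsg.Agent.H28.T5Mid Cfsg.Agent.H28.T5Fus Cfsg.Agent.H28.T5Abs Cfsg.Agent.H28.T5Untw
  Cfsg.Agent.H28.T5Ok

universe u

section

variable {K : Type} [Field K] [Fintype K] {q : ℕ} (hq : IsPrimePow q) (hK : Fintype.card K = q ^ 2)
  {r : ℕ} [Fact r.Prime] [CharP K r] (f : K →+* AlgebraicClosure (ZMod r)) {n : ℕ} (hn0 : 0 < n) (hn : q = r ^ n)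
  {p : ℕ} (hpp : p.Prime) (hp5 : 5 ≤ p)

include hpp hp5 in
theorem odd_of : p % 2 = 1 := hpp.eq_two_or_odd.resolve_left (by omega)

include hpp hp5 in
/-- `φ = sig6 m` is a power map on the `σ`-fixed points of the torus -/
theorem sig6_pow_map {m : ℕ} (hmn : m * p = n) {t : ↥(chevE6.group (AlgebraicClosure (ZMod r)))}
    (ht : t ∈ TT chevE6 (AlgebraicClosure (ZMod r))) (hσ : sig6 (AlgebraicClosure (ZMod r)) r n t = t) :
    sig6 (AlgebraicClosure (ZMod r)) r m t = t ^ r ^ (m * 2 * ((p + 1) / 2)) := by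
  have h1 : sig6 (AlgebraicClosure (ZMod r)) r m t = (sig6 (AlgebraicClosure (ZMod r)) r m ^ (p + 1)) t := by
    have h3 : (sig6 (AlgebraicClosure (ZMod r)) r m ^ (p + 1)) t =
        sig6 (AlgebraicClosure (ZMod r)) r m ((sig6 (AlgebraicClosure (ZMod r)) r m ^ p) t) := by
      rw [pow_succ']
      rfl
    rw [h3, sig6_pow r (odd_of hpp hp5), hmn, hσ]
  have h2 : p + 1 = 2 * ((p + 1) / 2) := by
    have := odd_of hpp hp5
    omega
  rw [h1, h2, pow_mul, sig6_sq, phi_pow, ← h2]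
  exact phi_TT e6T _ ht

include hq hK hn0 hn hpp hp5 in
/-- **The frame.** -/
theorem std6 {m : ℕ} (hm : 0 < m) (hmn : m * p = n) :
    T5Mid.Std p (em q f) (sig6 (AlgebraicClosure (ZMod r)) r n) (sig6 (AlgebraicClosure (ZMod r)) r m) := by
  have hk : LocFin (AlgebraicClosure (ZMod r)) := locFin_of_isAlgebraic r _
  obtain ⟨φ, hφ, hqq⟩ := TwE6Basic.exists_frob hq hK
  have hφk : ∀ t : AlgebraicClosure (ZMod r), iterateFrobenius (AlgebraicClosure (ZMod r)) r n t = t ^ q := fun t => by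
    rw [iterateFrobenius_def, hn]
  have hpow : sig6 (AlgebraicClosure (ZMod r)) r m ^ p = sig6 (AlgebraicClosure (ZMod r)) r n := by
    rw [sig6_pow r (odd_of hpp hp5), hmn]
  refine ⟨em_injective f, H522.FamTw.Six.eq_one_of_comm hφ hqq f, fun a => H522.FamTw.Six.sig6_em f r hφ hqq hn a,
    hpow, fun h => ?_, fun u hu => ?_⟩
  · obtain ⟨z, hz⟩ := lang_all e6T CoxeterMatrix.E₆.toCoxeterSystem hm (isFrob_sig6 r m)
      (fr_sig6 hk r e6T CoxeterMatrix.E₆.toCoxeterSystem m) 1 h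
    rw [map_one, one_mul] at hz
    exact ⟨z, hz⟩
  · obtain ⟨x, hx, t, ht, e⟩ := Cfsg.Agent.BpExc.EmbInst.twE6_split (f := f) hq hK hφk u.2
      (by rw [← H720.TwFr.coe_sig6, hu])
    obtain ⟨t', ht'⟩ : ∃ t' : ↥(chevE6.group (AlgebraicClosure (ZMod r))), t' = ⟨t, diagonal_le_group e6T.inList _ ht⟩ :=
      ⟨_, rfl⟩
    have htT : t' ∈ TT chevE6 (AlgebraicClosure (ZMod r)) := by rw [ht']; exact ht
    have e' : u = em q f ⟨x, hx⟩ * t' := by rw [ht']; exact Subtype.ext e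
    have hσt : sig6 (AlgebraicClosure (ZMod r)) r n t' = t' := by
      have h1 : t' = (em q f ⟨x, hx⟩)⁻¹ * u := by rw [e']; group
      rw [h1, map_mul, map_inv, hu, H522.FamTw.Six.sig6_em f r hφ hqq hn]
    have hgcd : Nat.gcd 3 (q + 1) = 1 ∨ Nat.gcd 3 (q + 1) = 2 ∨ Nat.gcd 3 (q + 1) = 3 := by
      have h1 : Nat.gcd 3 (q + 1) ∣ 3 := Nat.gcd_dvd_left _ _
      rcases (Nat.dvd_prime Nat.prime_three).1 h1 with h | h
      · exact Or.inl h
      · exact Or.inr (Or.inr h)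
    refine cov_of (fun y hy a => ?_) hpow e' hσt (sig6_pow_map hpp hp5 hmn htT hσt)
      (H720.TwFr.desc6 f r hk hn0 hn hK hσt) (coprime_geom hpp (by omega) hgcd ?_)
    · obtain ⟨b, hb⟩ := H27.Exc.conj_mem (coe_em f)
        (BpExc.EmbInst.twE6_normalizer hq hK hφk y.2 (by rw [← H720.TwFr.coe_sig6, hy])) _ ⟨a, rfl⟩
      exact ⟨b, hb⟩
    · have h1 : (3 : ℕ).Coprime p := (Nat.coprime_of_lt_prime (by omega) (by omega) hpp).symm
      exact Nat.Coprime.coprime_dvd_left (Nat.gcd_dvd_left _ _) h1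

include hq hK hn0 hn hpp hp5 in
theorem cases6 (x : MulAut ↥(twistedE6 K q)) (hx : orderOf x = p) (hxo : ¬ ∃ g, x = MulAut.conj g) :
    0 < n / p ∧ n / p * p = n ∧ ∃ (i : ℕ) (y : ↥(chevE6.group (AlgebraicClosure (ZMod r)))), i.Coprime p ∧
      ∀ a, em q f ((x ^ i) a) = (MulAut.conj y * sig6 (AlgebraicClosure (ZMod r)) r (n / p)) (em q f a) := by
  have hk : LocFin (AlgebraicClosure (ZMod r)) := locFin_of_isAlgebraic r _
  obtain ⟨φ, hφ, hqq⟩ := TwE6Basic.exists_frob hq hK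
  have hxp : x ^ p = 1 := by rw [← hx, pow_orderOf_eq_one]
  rcases H522.FamTw.Six.cases f r hφ hqq (fun a => IsAlgClosed.exists_pow_nat_eq (f a) (by norm_num)) hn hq.one_lt hK
    hpp (by omega) hxp with h | h
  · exfalso
    obtain ⟨y, hyp, hy, h⟩ := h
    refine hxo (H28.OutTw.inner_of (em_injective f) (H28.OutTw.mem_of_pow (d := Nat.gcd 3 (q + 1)) hpp ?_ hyp
      (H720.TwFr.desc6 f r hk hn0 hn hK hy)) h)
    have h1 : (3 : ℕ).Coprime p := (Nat.coprime_of_lt_prime (by omega) (by omega) hpp).symm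
    exact Nat.Coprime.coprime_dvd_left (Nat.gcd_dvd_left _ _) h1
  · obtain ⟨i, m, hi, hm0, hmn, y, -, h⟩ := h
    have e : n / p = m := by rw [← hmn, Nat.mul_div_cancel _ hpp.pos]
    rw [e]
    exact ⟨hm0, hmn, i, y, hi, h⟩

include hq hK hn0 hn hpp hp5 in
theorem outerOk6 (hpr : p ≠ r) : OuterOk p ↥(twistedE6 K q) := by
  refine OuterOk.of_exists fun hex => ?_
  have : Fact p.Prime := ⟨hpp⟩
  obtain ⟨x₀, hx₀, hxo₀⟩ := hex
  obtain ⟨f⟩ := exists_emb r K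
  obtain ⟨hm0, hmn, -⟩ := cases6 hq hK f hn0 hn hpp hp5 x₀ hx₀ hxo₀
  obtain ⟨m, hm⟩ : ∃ m, m = n / p := ⟨_, rfl⟩
  rw [← hm] at hm0 hmn
  obtain ⟨φ, hφ, hqq⟩ := TwE6Basic.exists_frob hq hK
  have hS := std6 hq hK f hn0 hn hpp hp5 hm0 hmn
  have hperf : PerfectRing K r := inferInstance
  have hθ : ∀ a, em q f (CpAut.RgdTwE6.st q (frb K r (m + n)) a) =
      sig6 (AlgebraicClosure (ZMod r)) r m (em q f a) := fun a =>
    H522.FamTw.Six.em_st_sig6 f r hφ hqq hn (fun b => frb_apply K r (m + n) b) a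
  have hcard : Nat.card K = r ^ (2 * n) := by
    rw [Nat.card_eq_fintype_card, hK, hn, ← pow_mul, mul_comm]
  have hτp : frb K r (m + n) ^ p = 1 := by
    rw [frb_pow]
    ext a
    rw [frb_apply, (forall_pow_iff r hcard ((m + n) * p)).2 ?_ a]
    · rfl
    · have h1 := odd_of hpp hp5
      refine ⟨(p + 1) / 2, ?_⟩
      have h2 : p + 1 = 2 * ((p + 1) / 2) := by omega
      have h3 : (m + n) * p = n * (p + 1) := by rw [add_mul, hmn]; ring
      rw [h3]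
      conv_lhs => rw [h2]
      ring
  have hcases : ∀ x : MulAut ↥(twistedE6 K q), orderOf x = p → (¬ ∃ g, x = MulAut.conj g) →
      ∃ (i : ℕ) (y : ↥(chevE6.group (AlgebraicClosure (ZMod r)))), i.Coprime p ∧
      ∀ a, em q f ((x ^ i) a) = (MulAut.conj y * sig6 (AlgebraicClosure (ZMod r)) r m) (em q f a) := by
    intro x hx hxo
    obtain ⟨-, -, h⟩ := cases6 hq hK f hn0 hn hpp hp5 x hx hxo
    rwa [← hm] at h
  refine OuterOk.of_std hpp hS hθ (fun hdvd => ?_) hcases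
  have hτ1 : frb K r (m + n) ≠ 1 := by
    intro h1
    obtain ⟨i, y, hi, hy⟩ := hcases x₀ hx₀ hxo₀
    have hxp : x₀ ^ p = 1 := by rw [← hx₀, pow_orderOf_eq_one]
    obtain ⟨s, hs⟩ := hS.conj (by rw [← pow_mul, mul_comm, pow_mul, hxp, one_pow]) hy
    have h2 : MulAut.conj s * x₀ ^ i * (MulAut.conj s)⁻¹ = 1 := MulEquiv.ext fun a => hS.inj (by
      rw [hs, ← hθ, h1, H522.FamTw.Six.st_one]
      rfl)
    have h3 : x₀ ^ i = 1 := by
      have h4 : x₀ ^ i = (MulAut.conj s)⁻¹ * (MulAut.conj s * x₀ ^ i * (MulAut.conj s)⁻¹) * MulAut.conj s := by group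
      rw [h4, h2]
      group
    have h4 : p ∣ i := by rw [← hx₀]; exact orderOf_dvd_of_pow_eq_one h3
    exact (Nat.Prime.coprime_iff_not_dvd hpp).1 hi.symm h4
  obtain ⟨N, h1, h2, h3, h4, -, h5, -⟩ := H640.FC.TwSix.good_st r hq hK hpp hp5 hpr hτp hτ1 hdvd
  exact ⟨N, h1, h2, h3, h4, h5⟩

include hpp in
theorem ndvd6 (hp7 : 7 ≤ p) : ∀ x ∈ [2, 5, 6, 8, 9, 12], ¬ p ∣ x := by
  intro x hx h1
  have h2 : ∀ x ∈ [2, 5, 6, 8, 9, 12], x ∣ (Nat.factorial 6) ^ 3 := by decide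
  have h3 := (hpp.dvd_factorial).1 (hpp.dvd_of_dvd_pow (h1.trans (h2 x hx)))
  omega

include hq hK hpp in
/-- the `p`-subgroups are commutative -/
theorem comm6 (hp7 : 7 ≤ p) (hpr : p ≠ r) (E : Subgroup ↥(twistedE6 K q)) (hE : IsPGroup p E) :
    ∀ a ∈ E, ∀ b ∈ E, a * b = b * a := by
  have : Fact p.Prime := ⟨hpp⟩
  have hpK : ¬ p ∣ Fintype.card K := by
    obtain ⟨j, hj⟩ := FiniteField.card K r
    rw [hj.2]
    intro h
    exact hpr ((Nat.prime_dvd_prime_iff_eq hpp (Fact.out : r.Prime)).1 (hpp.dvd_of_dvd_pow h))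
  obtain ⟨ι, hι⟩ : ∃ ι : ↥(twistedE6 K q) →* ↥(chevE6.group K), Function.Injective ι :=
    ⟨_, Subgroup.inclusion_injective (BpExc.FamTw.Six.twisted_le_group q)⟩
  intro a ha b hb
  have h1 := H172.SI.deg_E6.comm (p := p) (ndvd6 hpp hp7) hpK (E.map ι) (hE.map _) _ (mem_map_of_mem _ ha) _
    (mem_map_of_mem _ hb)
  rw [← map_mul, ← map_mul] at h1
  exact hι h1

include hq hK hn0 hn hpp in
theorem homOk6 (hp7 : 7 ≤ p) (hpr : p ≠ r) : HomOk p ↥(twistedE6 K q) := by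
  have hp5 : 5 ≤ p := by omega
  intro x hx hxo
  obtain ⟨f⟩ := exists_emb r K
  obtain ⟨hm0, hmn, -⟩ := cases6 hq hK f hn0 hn hpp hp5 x hx hxo
  have hk : LocFin (AlgebraicClosure (ZMod r)) := locFin_of_isAlgebraic r _
  have hS := std6 hq hK f hn0 hn hpp hp5 hm0 hmn
  refine HomOk.of_std hpp hS (fus e6T hk (r := r) H172.SI.deg_E6 hpp hpr (ndvd6 hpp hp7)) (s := 2)
    (Q := r ^ (n / p * 2)) ((Nat.coprime_primes Nat.prime_two hpp).2 (by omega)) (fun h => hpr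
      ((Nat.prime_dvd_prime_iff_eq hpp (Fact.out : r.Prime)).1 (hpp.dvd_of_dvd_pow h))) (fun t ht => ?_)
    (comm6 hq hK hpp hp7 hpr) (fun x hx hxo => (cases6 hq hK f hn0 hn hpp hp5 x hx hxo).2.2) x hx hxo
  rw [sig6_sq]
  exact phi_TT e6T _ ht

include hq hK hn0 hn hpp in
theorem wrow6 (hp7 : 7 ≤ p) (hpr : p ≠ r) : WRow p ↥(twistedE6 K q) := by
  have hp5 : 5 ≤ p := by omega
  obtain ⟨hs, hna⟩ := Cfsg.Agent.S1070.result hq hK
  refine wrow_of_exists hna hpp (by omega) (comm6 hq hK hpp hp7 hpr) ?_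
  rintro ⟨x, hx, hxo⟩
  obtain ⟨f⟩ := exists_emb r K
  obtain ⟨hm0, hmn, -⟩ := cases6 hq hK f hn0 hn hpp hp5 x hx hxo
  have hk : LocFin (AlgebraicClosure (ZMod r)) := locFin_of_isAlgebraic r _
  have hS := std6 hq hK f hn0 hn hpp hp5 hm0 hmn
  refine wrow_of_std hna hpp (by omega) hS (fun y hy hyp => ?_) (homOk6 hq hK hn0 hn hpp hp7 hpr)
    (comm6 hq hK hpp hp7 hpr) (fun x hx hxo => (cases6 hq hK f hn0 hn hpp hp5 x hx hxo).2.2)
  obtain ⟨j, hj⟩ := hyp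
  have h3 := H720.TwFr.desc6 f r hk hn0 hn hK hy
  have hcop : (Nat.gcd 3 (q + 1)).Coprime (p ^ (j + 1)) := by
    have h1 : (3 : ℕ).Coprime p := (Nat.coprime_of_lt_prime (by omega) (by omega) hpp).symm
    exact (Nat.Coprime.coprime_dvd_left (Nat.gcd_dvd_left _ _) h1).pow_right _
  obtain ⟨i, -, hi⟩ := Nat.exists_mul_mod_eq_one_of_coprime hcop (Nat.one_lt_pow (Nat.succ_ne_zero j) hpp.one_lt)
  have h4 : y ^ p ^ (j + 1) = 1 := by rw [pow_succ, pow_mul, hj, one_pow]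
  have h5 : y = (y ^ Nat.gcd 3 (q + 1)) ^ i := by
    rw [← pow_mul, ← Nat.div_add_mod (Nat.gcd 3 (q + 1) * i) (p ^ (j + 1)), pow_add, pow_mul, h4, one_pow, one_mul, hi,
      pow_one]
  rw [h5]
  exact pow_mem h3 i

end

/-! ### the rows -/

section Rows

variable {S : Type u} [Group S] {K : Type} [Field K] [Fintype K] {q : ℕ} (hq : IsPrimePow q)
  (hK : Fintype.card K = q ^ 2) {p : ℕ} (hpp : p.Prime) (hpq : ¬ p ∣ q) (e : S ≃* ↥(twistedE6 K q))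

include hq hK hpp hpq in
theorem exists_num : ∃ r n : ℕ, ∃ _ : Fact r.Prime, ∃ _ : CharP K r, 0 < n ∧ q = r ^ n ∧ p ≠ r := by
  obtain ⟨r, hr⟩ := CharP.exists K
  have : Fact r.Prime := ⟨CharP.char_is_prime K r⟩
  obtain ⟨n, hn0, hn⟩ := H27.Exc.exists_pow (r := r) two_pos hq hK
  refine ⟨r, n, this, hr, hn0, hn, ?_⟩
  rintro rfl
  apply hpq
  rw [hn]
  exact dvd_pow_self _ hn0.ne'

include hq hK hpp hpq e in
theorem outerOk_twE6 (hp5 : 5 ≤ p) : OuterOk p S := by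
  obtain ⟨r, n, _, _, hn0, hn, hpr⟩ := exists_num hq hK hpp hpq
  exact OuterOk.congr e (outerOk6 hq hK hn0 hn hpp hp5 hpr)

include hq hK hpp hpq e in
theorem homOk_twE6 (hp7 : 7 ≤ p) : HomOk p S := by
  obtain ⟨r, n, _, _, hn0, hn, hpr⟩ := exists_num hq hK hpp hpq
  exact HomOk.congr e (homOk6 hq hK hn0 hn hpp hp7 hpr)

include hq hK hpp hpq e in
/-- **The weak row of `²E₆(q)`, `p ≥ 7`.** -/
theorem wrow_twE6 (hp7 : 7 ≤ p) : WRow p S := by
  obtain ⟨r, n, _, _, hn0, hn, hpr⟩ := exists_num hq hK hpp hpq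
  exact H897.T5Sub.WRow.congr e.symm (wrow6 hq hK hn0 hn hpp hp7 hpr)

include hq hK hpp hpq e in
/-- **The middle row of `²E₆(q)`, `p ≥ 7`.** -/
theorem mrow_twE6 [Finite S] (hAA : AAHyp.{u} p) (hp7 : 7 ≤ p)
    (hin : ∀ x y : S, orderOf x = p → orderOf y = p → MPair p (⊤ : Subgroup S) x y) : MRow p S := by
  obtain ⟨hs, hna⟩ := Cfsg.Agent.S1070.result hq hK
  have := e.isSimpleGroup
  refine mrow_of_ok hAA hpp (fun hc => hna ⟨⟨fun a b => e.symm.injective ?_⟩⟩)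
    (outerOk_twE6 hq hK hpp hpq e (by omega)) (homOk_twE6 hq hK hpp hpq e hp7) hin
  rw [map_mul, map_mul]
  exact hc.is_comm.comm _ _

end Rows

end Cfsg.Agent.H28.T5TwSix
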