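import Cfsg.Agent.H28.T5RankOne

/-!
# T5 rows: `Sz(32)`, `p = 5`, inner against outer

`σ : x ↦ x ^ 2` of order `5`. `u = U(1, b)`, `g = w U(0, d)`, `x₀ = u σ(g) g⁻¹` of order `5`, and
`x₀ (g σ g⁻¹) = u σ`, `(u σ) ^ 5 = u σ(u) σ²(u) σ³(u) σ⁴(u)` of order `4`.
-/

set_option autoImplicit false

universe u

namespace Cfsg.Agent.H28.T5Sz32

open Polynomial in
/-- a root of `X ^ 5 + X ^ 2 + 1` in the field with `32` elements -/
theorem exists_root {F : Type*} [Field F] [Fintype F] (hF : Fintype.card F = 2 ^ 5) (h2 : (2 : F) = 0) :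
    ∃ α : F, α ^ 5 = α ^ 2 + 1 := by
  have h2' : (2 : F[X]) = 0 := by
    have : (2 : F[X]) = C (2 : F) := by rw [map_ofNat]
    rw [this, h2, C_0]
  have hdvd : (X ^ 5 + X ^ 2 + 1 : F[X]) ∣ X ^ (Nat.card F) - X := by
    rw [Nat.card_eq_fintype_card, hF]
    refine ⟨X + X^3 + X^5 + X^6 + X^7 + X^9 + X^10 + X^14 + X^15 + X^16 + X^17 + X^18 + X^21 + X^22 + X^24 + X^27, ?_⟩
    linear_combination (- X - X^3 - X^5 - X^6 - X^7 - X^8 - X^9 - X^10 - X^11 - X^12 - X^14 - X^15 - X^16 - X^17 -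
      X^18 - X^19 - X^20 - X^21 - X^22 - X^23 - X^24 - X^26 - X^27 - X^29 : F[X]) * h2'
  have hs := (Polynomial.splits_X_pow_nat_card_sub_X (K := F)).of_dvd
    (FiniteField.X_pow_card_sub_X_ne_zero F (by rw [Nat.card_eq_fintype_card, hF]; norm_num)) hdvd
  have hdeg : (X ^ 5 + X ^ 2 + 1 : F[X]).natDegree = 5 := by compute_degree!
  obtain ⟨a, ha⟩ := hs.exists_eval_eq_zero (by
    rw [Polynomial.degree_eq_natDegree (by
      intro h
      rw [h, natDegree_zero] at hdeg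
      exact absurd hdeg (by norm_num)), hdeg]
    norm_num)
  refine ⟨a, ?_⟩
  simp only [eval_add, eval_pow, eval_X, eval_one] at ha
  linear_combination ha - (a ^ 2 + 1) * h2

section Mat

open Cfsg.Agent.LieRecognition.SzMatrix
open scoped Matrix

variable {F : Type*} [Field F]

theorem mul_UL (h2 : (2 : F) = 0) {α : F} (hα : α ^ 5 = α ^ 2 + 1) :
    (!![1, 1, α ^ 2 + α + 1, α ^ 4 + 1;
    0, 1, 1, α ^ 2 + α;
    0, 0, 1, 1;
    0, 0, 0, 1] : Matrix (Fin 4) (Fin 4) F) *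
    !![1, 0, 0, 0;
    0, 1, 0, 0;
    α, 0, 1, 0;
    α ^ 3 + α ^ 2 + 1, α, 0, 1] =
    !![α ^ 3 + α ^ 2, α ^ 2 + α, α ^ 2 + α + 1, α ^ 4 + 1;
    α ^ 3 + 1, α ^ 3 + α ^ 2 + 1, 1, α ^ 2 + α;
    α ^ 3 + α ^ 2 + α + 1, α, 1, 1;
    α ^ 3 + α ^ 2 + 1, α, 0, 1] := by
  ext i j
  fin_cases i <;> fin_cases j
  · simp [Matrix.mul_apply, Fin.sum_univ_four]
    linear_combination (α + α ^ 2) * hα + (1 + α + α ^ 2 + α ^ 3 + α ^ 4) * h2
  · simp [Matrix.mul_apply, Fin.sum_univ_four]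
    linear_combination (1) * hα + (1) * h2
  · simp [Matrix.mul_apply, Fin.sum_univ_four]
  · simp [Matrix.mul_apply, Fin.sum_univ_four]
  · simp [Matrix.mul_apply, Fin.sum_univ_four]
    linear_combination (1) * hα + (α + α ^ 2 + α ^ 4) * h2
  · simp [Matrix.mul_apply, Fin.sum_univ_four]
    ring
  · simp [Matrix.mul_apply, Fin.sum_univ_four]
  · simp [Matrix.mul_apply, Fin.sum_univ_four]
  · simp [Matrix.mul_apply, Fin.sum_univ_four]
    ring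
  · simp [Matrix.mul_apply, Fin.sum_univ_four]
  · simp [Matrix.mul_apply, Fin.sum_univ_four]
  · simp [Matrix.mul_apply, Fin.sum_univ_four]
  · simp [Matrix.mul_apply, Fin.sum_univ_four]
  · simp [Matrix.mul_apply, Fin.sum_univ_four]
  · simp [Matrix.mul_apply, Fin.sum_univ_four]
  · simp [Matrix.mul_apply, Fin.sum_univ_four]

theorem mul_YY (h2 : (2 : F) = 0) {α : F} (hα : α ^ 5 = α ^ 2 + 1) :
    (!![α ^ 3 + α ^ 2 + 1, α ^ 2 + α + 1, 1, 0;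
    α ^ 3 + 1, α ^ 3 + α ^ 2, 0, 1;
    α ^ 3 + α ^ 2 + 1, 0, α ^ 3 + α ^ 2, α ^ 2 + α + 1;
    0, α ^ 3 + α ^ 2 + 1, α ^ 3 + 1, α ^ 3 + α ^ 2 + 1] : Matrix (Fin 4) (Fin 4) F) *
    !![α ^ 3 + α ^ 2 + 1, α ^ 2 + α + 1, 1, 0;
    α ^ 3 + 1, α ^ 3 + α ^ 2, 0, 1;
    α ^ 3 + α ^ 2 + 1, 0, α ^ 3 + α ^ 2, α ^ 2 + α + 1;
    0, α ^ 3 + α ^ 2 + 1, α ^ 3 + 1, α ^ 3 + α ^ 2 + 1] =
    !![α ^ 3 + α ^ 2, α ^ 2 + α + 1, 1, 0;
    α ^ 3 + 1, α ^ 3 + α ^ 2 + 1, 0, 1;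
    α ^ 3 + α ^ 2 + 1, 0, α ^ 3 + α ^ 2 + 1, α ^ 2 + α + 1;
    0, α ^ 3 + α ^ 2 + 1, α ^ 3 + 1, α ^ 3 + α ^ 2] := by
  ext i j
  fin_cases i <;> fin_cases j
  · simp [Matrix.mul_apply, Fin.sum_univ_four]
    linear_combination (1 + α) * hα + (2 * 1 + α + 2 * α ^ 2 + 2 * α ^ 3 + α ^ 4 + α ^ 5) * h2
  · simp [Matrix.mul_apply, Fin.sum_univ_four]
    linear_combination (0) * hα + (α ^ 2 + 2 * α ^ 3 + 2 * α ^ 4 + α ^ 5) * h2
  · simp [Matrix.mul_apply, Fin.sum_univ_four]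
    linear_combination (0) * hα + (α ^ 2 + α ^ 3) * h2
  · simp [Matrix.mul_apply, Fin.sum_univ_four]
    linear_combination (0) * hα + (1 + α + α ^ 2) * h2
  · simp [Matrix.mul_apply, Fin.sum_univ_four]
    linear_combination (0) * hα + (α ^ 2 + α ^ 3 + α ^ 5 + α ^ 6) * h2
  · simp [Matrix.mul_apply, Fin.sum_univ_four]
    linear_combination (1 + α) * hα + (1 + α + α ^ 2 + α ^ 3 + α ^ 4 + α ^ 5) * h2
  · simp [Matrix.mul_apply, Fin.sum_univ_four]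
    linear_combination (0) * hα + (1 + α ^ 3) * h2
  · simp [Matrix.mul_apply, Fin.sum_univ_four]
    linear_combination (0) * hα + (α ^ 2 + α ^ 3) * h2
  · simp [Matrix.mul_apply, Fin.sum_univ_four]
    linear_combination (0) * hα + (α ^ 2 + α ^ 3 + α ^ 4 + 2 * α ^ 5 + α ^ 6) * h2
  · simp [Matrix.mul_apply, Fin.sum_univ_four]
    linear_combination (0) * hα + (1 + α + 2 * α ^ 2 + 2 * α ^ 3 + 2 * α ^ 4 + α ^ 5) * h2
  · simp [Matrix.mul_apply, Fin.sum_univ_four]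
    linear_combination (1 + α) * hα + (1 + α + α ^ 2 + α ^ 3 + α ^ 4 + α ^ 5) * h2
  · simp [Matrix.mul_apply, Fin.sum_univ_four]
    linear_combination (0) * hα + (α ^ 2 + 2 * α ^ 3 + 2 * α ^ 4 + α ^ 5) * h2
  · simp [Matrix.mul_apply, Fin.sum_univ_four]
    linear_combination (0) * hα + (1 + α ^ 2 + 2 * α ^ 3 + α ^ 5 + α ^ 6) * h2
  · simp [Matrix.mul_apply, Fin.sum_univ_four]
    linear_combination (0) * hα + (α ^ 2 + α ^ 3 + α ^ 4 + 2 * α ^ 5 + α ^ 6) * h2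
  · simp [Matrix.mul_apply, Fin.sum_univ_four]
    linear_combination (0) * hα + (α ^ 2 + α ^ 3 + α ^ 5 + α ^ 6) * h2
  · simp [Matrix.mul_apply, Fin.sum_univ_four]
    linear_combination (1 + α) * hα + (2 * 1 + α + 2 * α ^ 2 + 2 * α ^ 3 + α ^ 4 + α ^ 5) * h2

theorem conjJ (A : Matrix (Fin 4) (Fin 4) F) : J F * Aᵀ * J F =
    !![A 3 3, A 2 3, A 1 3, A 0 3; A 3 2, A 2 2, A 1 2, A 0 2; A 3 1, A 2 1, A 1 1, A 0 1;
      A 3 0, A 2 0, A 1 0, A 0 0] := by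
  ext i j
  rw [Matrix.mul_apply, Fin.sum_univ_four, Matrix.mul_apply, Matrix.mul_apply, Matrix.mul_apply, Matrix.mul_apply,
    Fin.sum_univ_four, Fin.sum_univ_four, Fin.sum_univ_four, Fin.sum_univ_four]
  fin_cases i <;> fin_cases j <;> simp [J, Matrix.transpose_apply]

theorem add_Y (h2 : (2 : F) = 0) {α : F} :
    (!![α ^ 3 + α ^ 2, α ^ 2 + α, α ^ 2 + α + 1, α ^ 4 + 1;
    α ^ 3 + 1, α ^ 3 + α ^ 2 + 1, 1, α ^ 2 + α;
    α ^ 3 + α ^ 2 + α + 1, α, 1, 1;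
    α ^ 3 + α ^ 2 + 1, α, 0, 1] : Matrix (Fin 4) (Fin 4) F) +
    J F * (!![α ^ 3 + α ^ 2, α ^ 2 + α, α ^ 2 + α + 1, α ^ 4 + 1;
    α ^ 3 + 1, α ^ 3 + α ^ 2 + 1, 1, α ^ 2 + α;
    α ^ 3 + α ^ 2 + α + 1, α, 1, 1;
    α ^ 3 + α ^ 2 + 1, α, 0, 1] : Matrix (Fin 4) (Fin 4) F)ᵀ * J F =
    !![α ^ 3 + α ^ 2 + 1, α ^ 2 + α + 1, 1, 0;
    α ^ 3 + 1, α ^ 3 + α ^ 2, 0, 1;
    α ^ 3 + α ^ 2 + 1, 0, α ^ 3 + α ^ 2, α ^ 2 + α + 1;
    0, α ^ 3 + α ^ 2 + 1, α ^ 3 + 1, α ^ 3 + α ^ 2 + 1] := by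
  rw [conjJ]
  ext i j
  fin_cases i <;> fin_cases j
  · simp
  · simp
  · simp
    linear_combination (α + α ^ 2) * h2
  · simp
    linear_combination (1 + α ^ 4) * h2
  · simp
  · simp
    linear_combination (1) * h2
  · simp
    linear_combination (1) * h2
  · simp
    linear_combination (α + α ^ 2) * h2
  · simp
    linear_combination (α) * h2
  · simp
    linear_combination (α) * h2
  · simp
    linear_combination (1) * h2
  · simp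
    ring
  · simp
    linear_combination (1 + α ^ 2 + α ^ 3) * h2
  · simp
    linear_combination (α) * h2
  · simp
  · simp
    ring

theorem add_YI (h2 : (2 : F) = 0) {α : F} :
    (!![α ^ 3 + α ^ 2, α ^ 2 + α + 1, 1, 0;
    α ^ 3 + 1, α ^ 3 + α ^ 2 + 1, 0, 1;
    α ^ 3 + α ^ 2 + 1, 0, α ^ 3 + α ^ 2 + 1, α ^ 2 + α + 1;
    0, α ^ 3 + α ^ 2 + 1, α ^ 3 + 1, α ^ 3 + α ^ 2] : Matrix (Fin 4) (Fin 4) F) =
    !![α ^ 3 + α ^ 2 + 1, α ^ 2 + α + 1, 1, 0;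
    α ^ 3 + 1, α ^ 3 + α ^ 2, 0, 1;
    α ^ 3 + α ^ 2 + 1, 0, α ^ 3 + α ^ 2, α ^ 2 + α + 1;
    0, α ^ 3 + α ^ 2 + 1, α ^ 3 + 1, α ^ 3 + α ^ 2 + 1] + 1 := by
  ext i j
  fin_cases i <;> fin_cases j
  · simp
    linear_combination (-1) * h2
  · simp
  · simp
  · simp
  · simp
  · simp
  · simp
  · simp
  · simp
  · simp
  · simp
  · simp
  · simp
  · simp
  · simp
  · simp
    linear_combination (-1) * h2

end Mat

/-- `M ^ 5 = 1` from `Y = M + M⁻¹`, `Y² = Y + 1` in characteristic two -/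
theorem pow_five {R : Type*} [Ring R] (h2 : (2 : R) = 0) {M N : R} (h1 : M * N = 1) (h1' : N * M = 1)
    (h : (M + N) * (M + N) = M + N + 1) : M ^ 5 = 1 := by
  have hneg : ∀ x : R, x + x = 0 := fun x => by rw [← two_mul, h2, zero_mul]
  have e1 : M * M + N * N = M + N + 1 := by
    have h3 : (M + N) * (M + N) = M * M + N * N + (M * N + N * M) := by noncomm_ring
    rwa [h3, h1, h1', hneg, add_zero] at h
  have e2 : M ^ 4 + 1 = M ^ 3 + M + M ^ 2 := by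
    have h3 : (M * M + N * N) * (M * M) = M ^ 4 + N * (N * M) * M := by noncomm_ring
    have h4 : (M + N + 1) * (M * M) = M ^ 3 + N * M * M + M ^ 2 := by noncomm_ring
    rw [e1, h4, h1', one_mul, mul_one, h1'] at h3
    exact h3.symm
  have e3 : M ^ 5 + M = M ^ 4 + M ^ 2 + M ^ 3 := by
    have h3 : (M ^ 4 + 1) * M = M ^ 5 + M := by noncomm_ring
    have h4 : (M ^ 3 + M + M ^ 2) * M = M ^ 4 + M ^ 2 + M ^ 3 := by noncomm_ring
    rw [← h3, e2, h4]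
  have e4 : M ^ 5 = 1 + ((M ^ 3 + M ^ 3) + (M ^ 2 + M ^ 2) - (1 + 1)) := by
    have h3 : M ^ 5 = M ^ 4 + M ^ 2 + M ^ 3 - M := eq_sub_of_add_eq e3
    have h4 : M ^ 4 = M ^ 3 + M + M ^ 2 - 1 := eq_sub_of_add_eq e2
    rw [h3, h4]
    abel
  have e5 : (1 : R) + 1 = 0 := hneg 1
  rw [e4, hneg (M ^ 3), hneg (M ^ 2), e5]
  simp

/-- natural exponents -/
theorem exists_nat_pow {G : Type*} [Group G] {p : ℕ} (hp : 0 < p) {a : G} (h : a ^ p = 1) (j : ℤ) :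
    ∃ m : ℕ, a ^ j = a ^ m := by
  refine ⟨(j % (p : ℤ)).toNat, ?_⟩
  have h1 : ((j % (p : ℤ)).toNat : ℤ) = j % (p : ℤ) :=
    Int.toNat_of_nonneg (Int.emod_nonneg _ (by exact_mod_cast hp.ne'))
  rw [← zpow_natCast, h1]
  conv_lhs => rw [← Int.emod_add_mul_ediv j p]
  rw [zpow_add, zpow_mul, zpow_natCast, h, one_zpow, mul_one]

section Group

open Cfsg Cfsg.Agent.LieRecognition.SzMatrix Cfsg.Agent.H967.CopMat Cfsg.Agent.H967.CopSz
open Cfsg.Agent.H957.T5M Cfsg.Agent.H106.MT Cfsg.Agent.H533.T5 Cfsg.Agent.H28.T5RankOne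

variable {F : Type} [Field F] [Fintype F] (hF : Fintype.card F = 2 ^ (2 * 2 + 1))

theorem fieldAut_u (σ : F ≃+* F) (a b : F) :
    fieldAut (stab_sz hF) σ ((good hF).u a b) = (good hF).u (σ a) (σ b) :=
  H70.SzOut.fieldAut_u (good hF) σ a b

theorem fieldAut_w (σ : F ≃+* F) : fieldAut (stab_sz hF) σ (good hF).w = (good hF).w :=
  H70.SzOut.fieldAut_w (good hF) σ

open scoped Matrix in
/-- the element of order `5` -/
theorem x0_pow {α : F} (hα : α ^ 5 = α ^ 2 + 1) :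
    ((good hF).u 1 (α ^ 2 + α + 1) * ((good hF).w * (good hF).u 0 α * (good hF).w)) ^ 5 = 1 ∧
      (good hF).u 1 (α ^ 2 + α + 1) * ((good hF).w * (good hF).u 0 α * (good hF).w) ≠ 1 := by
  have h2 : (2 : F) = 0 := (good hF).two
  have hθ : theta hF α = α ^ 3 + α ^ 2 + 1 := by
    rw [theta_apply]
    linear_combination (α ^ 3 + 1) * hα
  obtain ⟨x, hx⟩ : ∃ x, x = (good hF).u 1 (α ^ 2 + α + 1) * ((good hF).w * (good hF).u 0 α * (good hF).w) := ⟨_, rfl⟩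
  have hU : Umat (theta hF) 1 (α ^ 2 + α + 1) = !![1, 1, α ^ 2 + α + 1, α ^ 4 + 1;
    0, 1, 1, α ^ 2 + α;
    0, 0, 1, 1;
    0, 0, 0, 1] := by
    have e1 : 1 * (α ^ 2 + α + 1) + 1 ^ 2 * theta hF 1 + theta hF (α ^ 2 + α + 1) = α ^ 4 + 1 := by
      rw [map_add, map_add, map_pow, map_one, hθ]
      linear_combination (α) * hα + (2 * 1 + α + 2 * α ^ 2 + 2 * α ^ 3 + α ^ 5) * h2
    have e2 : α ^ 2 + α + 1 + 1 * theta hF 1 = α ^ 2 + α := by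
      rw [map_one]
      linear_combination h2
    rw [Umat_def, e1, e2, map_one]
  have hL : J F * Umat (theta hF) 0 α * J F = !![1, 0, 0, 0;
    0, 1, 0, 0;
    α, 0, 1, 0;
    α ^ 3 + α ^ 2 + 1, α, 0, 1] := by
    rw [Umat_def]
    ext i j
    fin_cases i <;> fin_cases j <;> simp [J, Matrix.mul_apply, Fin.sum_univ_four, hθ]
  have hM : (x.1 : Matrix (Fin 4) (Fin 4) F) = !![α ^ 3 + α ^ 2, α ^ 2 + α, α ^ 2 + α + 1, α ^ 4 + 1;
    α ^ 3 + 1, α ^ 3 + α ^ 2 + 1, 1, α ^ 2 + α;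
    α ^ 3 + α ^ 2 + α + 1, α, 1, 1;
    α ^ 3 + α ^ 2 + 1, α, 0, 1] := by
    rw [hx]
    show Umat (theta hF) 1 (α ^ 2 + α + 1) * (J F * Umat (theta hF) 0 α * J F) = _
    rw [hU, hL, mul_UL h2 hα]
  have hsp : (x.1 : Matrix (Fin 4) (Fin 4) F)ᵀ * J F * (x.1 : Matrix (Fin 4) (Fin 4) F) = J F :=
    (mem_Sp4_iff _).1 ((good hF).mem_Sz.1 x.2).1
  obtain ⟨N, hN⟩ : ∃ N, N = J F * (x.1 : Matrix (Fin 4) (Fin 4) F)ᵀ * J F := ⟨_, rfl⟩
  have h1 : N * (x.1 : Matrix (Fin 4) (Fin 4) F) = 1 := by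
    rw [hN, Matrix.mul_assoc, Matrix.mul_assoc, ← Matrix.mul_assoc (_)ᵀ, hsp, J_mul_J]
  have h1' : (x.1 : Matrix (Fin 4) (Fin 4) F) * N = 1 := mul_eq_one_comm.1 h1
  have hY : (x.1 : Matrix (Fin 4) (Fin 4) F) + N = !![α ^ 3 + α ^ 2 + 1, α ^ 2 + α + 1, 1, 0;
    α ^ 3 + 1, α ^ 3 + α ^ 2, 0, 1;
    α ^ 3 + α ^ 2 + 1, 0, α ^ 3 + α ^ 2, α ^ 2 + α + 1;
    0, α ^ 3 + α ^ 2 + 1, α ^ 3 + 1, α ^ 3 + α ^ 2 + 1] := by
    rw [hN, hM, add_Y h2]
  have hm2 : (2 : Matrix (Fin 4) (Fin 4) F) = 0 := by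
    have h3 : (2 : Matrix (Fin 4) (Fin 4) F) = algebraMap F _ (2 : F) := (map_ofNat _ 2).symm
    rw [h3, h2, map_zero]
  have h5 := pow_five hm2 h1' h1 (by rw [hY, mul_YY h2 hα, add_YI h2])
  rw [← hx]
  refine ⟨Subtype.ext (Units.ext ?_), fun h => ?_⟩
  · rw [SubmonoidClass.coe_pow, Units.val_pow_eq_pow_val, h5]
    rfl
  · have h6 : (x.1 : Matrix (Fin 4) (Fin 4) F) 1 2 = 1 := by rw [hM]; rfl
    rw [h] at h6
    have h7 : ((1 : Matrix (Fin 4) (Fin 4) F)) 1 2 = 1 := h6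
    simp at h7

include hF in
/-- the automorphism of order `5` -/
theorem exists_frob {α : F} (hα : α ^ 5 = α ^ 2 + 1) : ∃ φ : F ≃+* F, orderOf φ = 5 ∧ ∀ a, φ a = a ^ 2 := by
  have h2p : Fact (Nat.Prime 2) := ⟨Nat.prime_two⟩
  have hcF : CharP F 2 := charP_of_card Nat.prime_two hF
  have hpf : PerfectRing F 2 := inferInstance
  have h5p : Fact (Nat.Prime 5) := ⟨Nat.prime_five⟩
  have hap : ∀ a : F, frobeniusEquiv F 2 a = a ^ 2 := fun a => frobeniusEquiv_def F 2 a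
  refine ⟨frobeniusEquiv F 2, orderOf_eq_prime ?_ ?_, hap⟩
  · rw [← iterateFrobeniusEquiv_eq_pow]
    ext a
    rw [iterateFrobeniusEquiv_def]
    have h1 := FiniteField.pow_card a
    rw [hF] at h1
    exact h1
  · intro h
    have h1 : α ^ 2 = α := by
      rw [← hap, h]
      rfl
    have h2 : (1 : F) = 0 := by linear_combination (α ^ 3 + α ^ 2 + α + 1 - 1) * h1 - hα
    exact one_ne_zero h2

/-- **The pair.** -/
theorem mpair_base {φ : F ≃+* F} (hφ : ∀ a, φ a = a ^ 2) {α : F} (hα : α ^ 5 = α ^ 2 + 1) :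
    MPair 5 (MulAut.conj : ↥(Cfsg.Lie.Sz F (2 ^ (2 + 1))) →* _).range
      (MulAut.conj ((good hF).u 1 (α ^ 2 + α + 1) * ((good hF).w * (good hF).u 0 α * (good hF).w)))
      (fieldAut (stab_sz hF) φ) := by
  have h2 : (2 : F) = 0 := (good hF).two
  have hs : IsSimpleGroup ↥(Cfsg.Lie.Sz F (2 ^ (2 + 1))) := Cfsg.Agent.S1162.result (by norm_num) hF
  have hinj := conj_injective_of_simple (S := ↥(Cfsg.Lie.Sz F (2 ^ (2 + 1)))) (sz_na (by norm_num) hF)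
  obtain ⟨Φ, hΦ⟩ : ∃ Φ, Φ = fieldAut (stab_sz hF) φ := ⟨_, rfl⟩
  rw [← hΦ]
  have hΦu : ∀ a b, Φ ((good hF).u a b) = (good hF).u (a ^ 2) (b ^ 2) := fun a b => by
    rw [hΦ, fieldAut_u, hφ, hφ]
  have hΦw : Φ (good hF).w = (good hF).w := by rw [hΦ, fieldAut_w]
  have hcg : ∀ y, Φ * MulAut.conj y = MulAut.conj (Φ y) * Φ := fun y => by
    refine MulEquiv.ext fun a => ?_
    rw [MulAut.mul_apply, MulAut.mul_apply, MulAut.conj_apply, MulAut.conj_apply, map_mul, map_mul, map_inv]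
  obtain ⟨g, hg⟩ : ∃ g, g = (good hF).w * (good hF).u 0 (α ^ 3) := ⟨_, rfl⟩
  -- `Φ g g⁻¹`
  have h3 : (good hF).w * (good hF).u 0 α * (good hF).w = Φ g * g⁻¹ := by
    have h4 : (good hF).u 0 ((α ^ 3) ^ 2) = (good hF).u 0 α * (good hF).u 0 (α ^ 3) := by
      rw [(good hF).u_mul, map_zero, mul_zero, add_zero, add_zero]
      congr 1
      linear_combination α * hα
    rw [hg, map_mul, hΦw, hΦu, zero_pow two_ne_zero, h4, mul_inv_rev, (good hF).w_inv]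
    group
  refine ⟨MulAut.conj g, ⟨g, rfl⟩, 1, 1, fun k hk => ?_⟩
  obtain ⟨u, hu⟩ : ∃ u, u = (good hF).u 1 (α ^ 2 + α + 1) := ⟨_, rfl⟩
  have h5 : MulAut.conj ((good hF).u 1 (α ^ 2 + α + 1) * ((good hF).w * (good hF).u 0 α * (good hF).w)) ^ 1 *
      (MulAut.conj g * Φ * (MulAut.conj g)⁻¹) ^ 1 = MulAut.conj u * Φ := by
    rw [pow_one, pow_one, h3, ← hu, ← map_inv, mul_assoc (MulAut.conj g), hcg, map_mul, map_mul, map_inv Φ]
    simp only [map_inv]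
    group
  rw [h5] at hk
  -- the fifth power
  have h6 : (MulAut.conj u * Φ) ^ 5 = MulAut.conj (u * Φ u * Φ (Φ u) * Φ (Φ (Φ u)) * Φ (Φ (Φ (Φ u)))) * Φ ^ 5 := by
    have h7 : ∀ y, Φ * MulAut.conj y = MulAut.conj (Φ y) * Φ := hcg
    calc (MulAut.conj u * Φ) ^ 5 = MulAut.conj u * (Φ * MulAut.conj u) * (Φ * MulAut.conj u) * (Φ * MulAut.conj u) *
          (Φ * MulAut.conj u) * Φ := by simp only [pow_succ, pow_zero, one_mul, mul_assoc]
      _ = MulAut.conj u * MulAut.conj (Φ u) * (Φ * MulAut.conj (Φ u)) * (Φ * MulAut.conj (Φ u)) *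
          (Φ * MulAut.conj (Φ u)) * Φ * Φ := by rw [h7]; simp only [mul_assoc]
      _ = MulAut.conj u * MulAut.conj (Φ u) * MulAut.conj (Φ (Φ u)) * (Φ * MulAut.conj (Φ (Φ u))) *
          (Φ * MulAut.conj (Φ (Φ u))) * Φ * Φ * Φ := by rw [h7]; simp only [mul_assoc]
      _ = MulAut.conj u * MulAut.conj (Φ u) * MulAut.conj (Φ (Φ u)) * MulAut.conj (Φ (Φ (Φ u))) *
          (Φ * MulAut.conj (Φ (Φ (Φ u)))) * Φ * Φ * Φ * Φ := by rw [h7]; simp only [mul_assoc]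
      _ = _ := by rw [h7]; simp only [map_mul, pow_succ, pow_zero, one_mul, mul_assoc]
  have hΦ5 : Φ ^ 5 = 1 := by
    rw [hΦ, ← map_pow]
    have h7 : φ ^ 5 = 1 := by
      ext a
      have h8 := FiniteField.pow_card a
      rw [hF] at h8
      have h9 : (φ ^ 5) a = φ (φ (φ (φ (φ a)))) := rfl
      rw [h9, hφ, hφ, hφ, hφ, hφ, ← pow_mul, ← pow_mul, ← pow_mul, ← pow_mul]
      exact h8
    rw [h7, map_one]
  rw [hΦ5, mul_one] at h6
  obtain ⟨β, hβ⟩ : ∃ β, u * Φ u * Φ (Φ u) * Φ (Φ (Φ u)) * Φ (Φ (Φ (Φ u))) = (good hF).u 1 β := by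
    have h7 : ∃ β, u * Φ u * Φ (Φ u) * Φ (Φ (Φ u)) * Φ (Φ (Φ (Φ u))) = (good hF).u (1 + 1 + 1 + 1 + 1) β := by
      rw [hu]
      simp only [hΦu, one_pow, (good hF).u_mul]
      exact ⟨_, rfl⟩
    obtain ⟨β, hβ⟩ := h7
    refine ⟨β, ?_⟩
    rw [hβ]
    congr 1
    linear_combination (2 : F) * h2
  rw [hβ] at h6
  have h8 : (good hF).u 1 β ^ 4 = 1 := by
    have h9 : (good hF).u 1 β ^ 2 = (good hF).u 0 1 := by
      rw [pow_two, (good hF).u_mul, map_one]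
      congr 1
      · linear_combination h2
      · linear_combination β * h2
    have h10 : (good hF).u 1 β ^ 4 = ((good hF).u 1 β ^ 2) ^ 2 := by rw [← pow_mul]
    rw [h10, h9, pow_two, (good hF).u_mul, map_zero, mul_zero, add_zero, add_zero,
      ← (good hF).u_zero]
    congr 1
    linear_combination h2
  have h9 : (MulAut.conj ((good hF).u 1 β)) ^ 5 ^ k = 1 := by
    rw [← h6, ← pow_mul, mul_comm, pow_mul, hk, one_pow]
  rw [← map_pow] at h9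
  have h10 : (good hF).u 1 β ^ 5 ^ k = 1 := hinj (by rw [h9, map_one])
  have h11 : (good hF).u 1 β = 1 := by
    have h12 : orderOf ((good hF).u 1 β) ∣ Nat.gcd 4 (5 ^ k) :=
      Nat.dvd_gcd (orderOf_dvd_of_pow_eq_one h8) (orderOf_dvd_of_pow_eq_one h10)
    have h13 : Nat.gcd 4 (5 ^ k) = 1 := Nat.Coprime.pow_right k (by norm_num)
    rw [h13] at h12
    exact orderOf_eq_one_iff.1 (Nat.dvd_one.1 h12)
  rw [← (good hF).u_zero] at h11
  exact one_ne_zero ((good hF).u_inj h11).1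

include hF in
/-- **Inner against outer.** -/
theorem mpair_io {x : ↥(Cfsg.Lie.Sz F (2 ^ (2 + 1)))} (hx : orderOf x = 5)
    {d : MulAut ↥(Cfsg.Lie.Sz F (2 ^ (2 + 1)))} (hd : orderOf d = 5) (hdo : ¬ ∃ g, d = MulAut.conj g) :
    MPair 5 (MulAut.conj : ↥(Cfsg.Lie.Sz F (2 ^ (2 + 1))) →* _).range (MulAut.conj x) d := by
  have h5p : Fact (Nat.Prime 5) := ⟨Nat.prime_five⟩
  have hcyc : IsCyclic (F ≃+* F) := LieRecognition.FieldSemilinear.isCyclic_ringAut F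
  have hfinR := finite_ringAut F
  obtain ⟨α, hα⟩ := exists_root (F := F) hF (good hF).two
  obtain ⟨φ, hφ5, hφ⟩ := exists_frob hF hα
  obtain ⟨x₀, hx₀⟩ : ∃ x₀, x₀ = (good hF).u 1 (α ^ 2 + α + 1) * ((good hF).w * (good hF).u 0 α * (good hF).w) :=
    ⟨_, rfl⟩
  obtain ⟨h1, h2⟩ := x0_pow hF hα
  have h3 := mpair_base hF hφ hα
  rw [← hx₀] at h1 h2 h3
  have hx₀5 : orderOf x₀ = 5 := orderOf_eq_prime h1 h2
  obtain ⟨P⟩ : Nonempty (Sylow 5 ↥(Cfsg.Lie.Sz F (2 ^ (2 + 1)))) := inferInstance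
  obtain ⟨s, j, hj⟩ := exists_conj_of_cyclic P (sz_cyc (by norm_num) hF (by norm_num) P) hx₀5 hx
  obtain ⟨σ, hσ, g, rfl⟩ := (sz_data (m := 2) (by norm_num) hF (by norm_num)).form hd hdo
  obtain ⟨k, hk⟩ := Subgroup.mem_zpowers_iff.1 (mem_zpowers_of_cyclic Nat.prime_five hφ5 hσ)
  obtain ⟨m, hm⟩ := exists_nat_pow (by norm_num : 0 < 5) (a := s * x * s⁻¹) (by
    rw [conj_pow, ← hx, pow_orderOf_eq_one, mul_one, mul_inv_cancel]) j
  obtain ⟨n, hn⟩ := exists_nat_pow (by norm_num : 0 < 5) (a := σ) (by rw [← hσ, pow_orderOf_eq_one]) k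
  refine MPair.conj_left (s := MulAut.conj s) ⟨s, rfl⟩ (MPair.conj_right (s := MulAut.conj g⁻¹) ⟨g⁻¹, rfl⟩
    (MPair.of_pow m n ?_))
  have e1 : (MulAut.conj s * MulAut.conj x * (MulAut.conj s)⁻¹) ^ m = MulAut.conj x₀ := by
    rw [← map_inv, ← map_mul, ← map_mul, ← map_pow, ← hm, hj]
  have e2 : (MulAut.conj g⁻¹ * (MulAut.conj g * fieldAut (stab_sz hF) σ * (MulAut.conj g)⁻¹) *
      (MulAut.conj g⁻¹)⁻¹) ^ n = fieldAut (stab_sz hF) φ := by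
    rw [← hk, hn, map_pow, map_inv]
    congr 1
    group
  rw [e1, e2]
  exact h3

end Group

section Rows

open Cfsg Cfsg.Agent.LieRecognition.SzMatrix Cfsg.Agent.H967.CopMat Cfsg.Agent.H967.CopSz
open Cfsg.Agent.H957.T5M Cfsg.Agent.H106.MT Cfsg.Agent.H106.MB Cfsg.Agent.H533.T5 Cfsg.Agent.H28.T5RankOne

/-- the middle row of `Sz(32)`, `p = 5` -/
theorem mrow_sz32 {F : Type} [Field F] [Fintype F] (hF : Fintype.card F = 2 ^ (2 * 2 + 1)) (hAA : AAHyp.{0} 5) :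
    MRow 5 ↥(Cfsg.Lie.Sz F (2 ^ (2 + 1))) := by
  have h5p : Fact (Nat.Prime 5) := ⟨Nat.prime_five⟩
  have hcyc : IsCyclic (F ≃+* F) := LieRecognition.FieldSemilinear.isCyclic_ringAut F
  have hfinR := finite_ringAut F
  have hs : IsSimpleGroup ↥(Cfsg.Lie.Sz F (2 ^ (2 + 1))) := Cfsg.Agent.S1162.result (by norm_num) hF
  have hna := sz_na (m := 2) (by norm_num) hF
  have hinj := conj_injective_of_simple (S := ↥(Cfsg.Lie.Sz F (2 ^ (2 + 1)))) hna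
  obtain ⟨P⟩ : Nonempty (Sylow 5 ↥(Cfsg.Lie.Sz F (2 ^ (2 + 1)))) := inferInstance
  intro c d hc hd
  by_cases hci : ∃ g, c = MulAut.conj g
  · obtain ⟨x, rfl⟩ := hci
    by_cases hdi : ∃ g, d = MulAut.conj g
    · obtain ⟨y, rfl⟩ := hdi
      rw [orderOf_injective _ hinj] at hc hd
      have := (mpair_of_cyclic hAA hna P (sz_cyc (by norm_num) hF (by norm_num) P) hc hd).of_injective
        (MulAut.conj : ↥(Cfsg.Lie.Sz F (2 ^ (2 + 1))) →* _) hinj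
      rwa [← MonoidHom.range_eq_map] at this
    · rw [orderOf_injective _ hinj] at hc
      exact mpair_io hF hc hd hdi
  · by_cases hdi : ∃ g, d = MulAut.conj g
    · obtain ⟨y, rfl⟩ := hdi
      rw [orderOf_injective _ hinj] at hd
      exact (mpair_io hF hd hc hci).symm
    · exact mpair_outer_outer hAA Nat.prime_five hna hc
        ((sz_data (m := 2) (by norm_num) hF (by norm_num)).conj hc hd hci hdi)

/-- the AA-theorem in a smaller universe -/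
theorem aahyp_down {p : ℕ} (h : AAHyp.{u} p) : AAHyp.{0} p := by
  intro K _ _ x hx hgx
  let e : ULift.{u} K ≃* K := MulEquiv.ulift
  have h1 := h (ULift.{u} K) (e.symm x) (by rw [MulEquiv.orderOf_eq, hx]) (fun g => by
    obtain ⟨k, hk⟩ := hgx (e g)
    refine ⟨k, e.injective ?_⟩
    rw [map_pow, map_mul, map_mul, map_mul, map_inv, e.apply_symm_apply, hk, map_one])
  have h2 : Subgroup.closure {y : K | ∃ g : K, y = g * x * g⁻¹} =
      (Subgroup.closure {y : ULift.{u} K | ∃ g : ULift.{u} K, y = g * e.symm x * g⁻¹}).map (e : ULift.{u} K →* K) := by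
    rw [MonoidHom.map_closure]
    congr 1
    ext y
    constructor
    · rintro ⟨g, rfl⟩
      refine ⟨e.symm g * e.symm x * (e.symm g)⁻¹, ⟨e.symm g, rfl⟩, ?_⟩
      show e (e.symm g * e.symm x * (e.symm g)⁻¹) = _
      rw [map_mul, map_mul, map_inv, e.apply_symm_apply, e.apply_symm_apply]
    · rintro ⟨_, ⟨g, rfl⟩, rfl⟩
      refine ⟨e g, ?_⟩
      show e (g * e.symm x * g⁻¹) = _
      rw [map_mul, map_mul, map_inv, e.apply_symm_apply]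
  rw [h2]
  exact Group.isSolvable_of_surjective (f := (e : ULift.{u} K →* K).subgroupMap _)
    ((e : ULift.{u} K →* K).subgroupMap_surjective _)

/-- **The middle row of `Sz(q)`, `p` odd, `p ∤ q`**. -/
theorem mrow_sz_all {S : Type u} [Group S] [Finite S] {F : Type} [Field F] [Fintype F] {m : ℕ} (hm : 1 ≤ m)
    (hF : Fintype.card F = 2 ^ (2 * m + 1)) {p : ℕ} (hpp : p.Prime) (hp2 : p ≠ 2)
    (e : S ≃* ↥(Cfsg.Lie.Sz F (2 ^ (m + 1)))) (hAA : AAHyp.{u} p) : MRow p S := by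
  by_cases h5 : p = 5 ∧ m = 2
  · obtain ⟨rfl, rfl⟩ := h5
    exact MRow.congr e (mrow_sz32 hF (aahyp_down hAA))
  · exact mrow_sz hm hF hpp hp2 e hAA h5

end Rows

end Cfsg.Agent.H28.T5Sz32
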