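import Cfsg.Agent.H28.ZIso

/-!
# `LangAt` for automorphisms of Frobenius type

`ι : L →* Y`, `σ`, `ψ` automorphisms of `Y` with `ψ ^ p = σ`, `ι(L)` normalised by the fixed points of `σ`, Lang's theorem
for `ψ`: if `x ^ i`, `i` prime to `p`, is induced by `ψ`, then `LangAt p x`.
-/

set_option autoImplicit false

namespace Cfsg.Agent.H28.Frob

open Cfsg.Agent.H28.ZIso

universe v

theorem conj_mul_comm {Y : Type*} [Group Y] (ψ : MulAut Y) (w : Y) :
    MulAut.conj w * ψ * (MulAut.conj w)⁻¹ = MulAut.conj (w * (ψ w)⁻¹) * ψ := by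
  ext y
  simp only [MulAut.mul_apply, MulAut.conj_apply, MulAut.conj_inv_apply, map_mul, map_inv, mul_inv_rev, inv_inv,
    mul_assoc]

theorem conj_mul_pow_of_fix {Y : Type*} [Group Y] {ψ : MulAut Y} {t : Y} (ht : ψ t = t) (n : ℕ) :
    (MulAut.conj t * ψ) ^ n = MulAut.conj (t ^ n) * ψ ^ n := by
  have hc : Commute (MulAut.conj t) ψ := by
    ext y
    simp only [MulAut.mul_apply, MulAut.conj_apply, map_mul, map_inv, ht]
  rw [hc.mul_pow, map_pow]

/-- The core: `x` itself is induced by `ψ`. -/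
theorem exists_conj {Y : Type*} [Group Y] {L : Type v} [Group L] [Finite L] {ι : L →* Y}
    (hι : Function.Injective ι) (hcent : ∀ z, (∀ a, z * ι a = ι a * z) → z = 1) {σ ψ : MulAut Y} {p : ℕ}
    (hψ : ψ ^ p = σ) (hσι : ∀ a, σ (ι a) = ι a) (hconj : ∀ y, σ y = y → ∀ a, ∃ b, y * ι a * y⁻¹ = ι b)
    (hlang : ∀ h : Y, ∃ g, h = g⁻¹ * ψ g) {x : MulAut L} (hx : ∀ a, ι (x a) = ψ (ι a)) {s : L} (hs : s ^ p = 1)
    (hxs : x s = s) : ∃ δ : MulAut L, δ * x * δ⁻¹ = MulAut.conj s * x := by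
  obtain ⟨t, ht⟩ : ∃ t, t = ι s := ⟨_, rfl⟩
  have hψt : ψ t = t := by rw [ht, ← hx, hxs]
  have htp : t ^ p = 1 := by rw [ht, ← map_pow, hs, map_one]
  obtain ⟨g, hg⟩ := hlang t
  obtain ⟨w, hw⟩ : ∃ w, w = g⁻¹ := ⟨_, rfl⟩
  have h1 : w * (ψ w)⁻¹ = t := by rw [hw, hg, map_inv, inv_inv]
  have h2 : MulAut.conj w * ψ * (MulAut.conj w)⁻¹ = MulAut.conj t * ψ := by rw [conj_mul_comm, h1]
  -- `σ w = w`
  have h3 : MulAut.conj w * σ * (MulAut.conj w)⁻¹ = σ := by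
    have h4 : (MulAut.conj w * ψ * (MulAut.conj w)⁻¹) ^ p = MulAut.conj w * ψ ^ p * (MulAut.conj w)⁻¹ := conj_pow
    rw [h2, conj_mul_pow_of_fix hψt, htp, map_one, one_mul, hψ] at h4
    exact h4.symm
  have h4 : w * (σ w)⁻¹ = 1 := by
    apply hcent
    intro a
    rw [conj_mul_comm] at h3
    have h5 := congrArg (fun f : MulAut Y => f (ι a)) h3
    simp only [MulAut.mul_apply, MulAut.conj_apply, hσι] at h5
    rwa [mul_inv_eq_iff_eq_mul] at h5
  have h5 : σ w = w := (mul_inv_eq_one.1 h4).symm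
  choose f hf using hconj w h5
  have hmul : ∀ a b, f (a * b) = f a * f b := by
    intro a b
    apply hι
    rw [map_mul, ← hf, ← hf, ← hf, map_mul]
    group
  let φ : L →* L := MonoidHom.mk' f hmul
  have hφi : Function.Injective φ := by
    intro a b hab
    have h6 : ι (f a) = ι (f b) := congrArg ι hab
    rw [← hf, ← hf] at h6
    exact hι (mul_left_cancel (mul_right_cancel h6))
  let δ : MulAut L := MulEquiv.ofBijective φ (Finite.injective_iff_bijective.1 hφi)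
  have hδ : ∀ a, ι (δ a) = w * ι a * w⁻¹ := fun a => (hf a).symm
  refine ⟨δ, ?_⟩
  ext a
  apply hι
  obtain ⟨b, rfl⟩ := δ.surjective a
  have h6 : (δ * x * δ⁻¹) (δ b) = δ (x b) := by
    rw [MulAut.mul_apply, MulAut.mul_apply, MulAut.inv_apply_self]
  rw [h6, hδ, hx, MulAut.mul_apply, MulAut.conj_apply, map_mul, map_mul, map_inv, hx, hδ]
  have h7 := congrArg (fun f : MulAut Y => f (w * ι b * w⁻¹)) h2
  simp only [← map_inv, MulAut.mul_apply, MulAut.conj_apply] at h7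
  rw [← ht, ← h7]
  congr 3
  group

/-- **`LangAt` for automorphisms of Frobenius type.** -/
theorem langAt_of_frob {Y : Type*} [Group Y] {L : Type v} [Group L] [Finite L] {ι : L →* Y}
    (hι : Function.Injective ι) (hcent : ∀ z, (∀ a, z * ι a = ι a * z) → z = 1) {σ ψ : MulAut Y} {p : ℕ}
    (hψ : ψ ^ p = σ) (hσι : ∀ a, σ (ι a) = ι a) (hconj : ∀ y, σ y = y → ∀ a, ∃ b, y * ι a * y⁻¹ = ι b)
    (hlang : ∀ h : Y, ∃ g, h = g⁻¹ * ψ g) (hp : p.Prime) {x : MulAut L} (hxp : x ^ p = 1) {i : ℕ} (hi : i.Coprime p)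
    (hx : ∀ a, ι ((x ^ i) a) = ψ (ι a)) : LangAt p x := by
  intro s hs hxs
  have hsp : s ^ p = 1 := by rw [← hs, pow_orderOf_eq_one]
  have hxi : ∀ n : ℕ, (x ^ n) s = s := by
    intro n
    induction n with
    | zero => rfl
    | succ n ih => rw [pow_succ, MulAut.mul_apply, hxs, ih]
  have hxsi : (x ^ i) (s ^ i) = s ^ i := by rw [map_pow, hxi]
  obtain ⟨δ, hδ⟩ := exists_conj hι hcent hψ hσι hconj hlang hx (s := s ^ i)
    (by rw [← pow_mul, mul_comm, pow_mul, hsp, one_pow]) hxsi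
  rw [← conj_mul_pow_of_fix hxs] at hδ
  obtain ⟨j, -, hj⟩ := Nat.exists_mul_mod_eq_one_of_coprime hi hp.one_lt
  have key : ∀ z : MulAut L, z ^ p = 1 → (z ^ i) ^ j = z := by
    intro z hz
    rw [← pow_mul, ← Nat.div_add_mod (i * j) p, pow_add, pow_mul, hz, one_pow, one_mul, hj, pow_one]
  refine ⟨δ, ?_⟩
  have h1 : (δ * x ^ i * δ⁻¹) ^ j = δ * (x ^ i) ^ j * δ⁻¹ := conj_pow
  rw [key x hxp, hδ, key _ (by rw [conj_mul_pow_of_fix hxs, hsp, map_one, one_mul, hxp])] at h1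
  exact h1.symm

end Cfsg.Agent.H28.Frob
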