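import Cfsg.Agent.H28.T5Ok
import Cfsg.Agent.H28.T5Fus
import Cfsg.Agent.H628.ZTwF4Out
import Cfsg.Agent.H378.TorFin
import Cfsg.Agent.H270.StrP.TwFFF
import Cfsg.Agent.H897.T5Sub

/-!
# T5 rows: `²F₄(q)`, `p ≥ 5`

`outerOk_twF4`, `homOk_twF4`, `wrow_twF4`, `mrow_twF4`.
-/

set_option autoImplicit false
set_option linter.unusedSectionVars false

namespace Cfsg.Agent.H28.T5TwF

open Subgroup Cfsg Cfsg.Lie Cfsg.Lie.ChevalleyDatum
open Cfsg.Agent.ChevalleyStructure Cfsg.Agent.ChevalleyStructure.Elts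
open Cfsg.Agent.GpExc.Field (glMap emb coe_emb glMap_xG emb_injective coe_glMap)
open Cfsg.Agent.CpAut.RgdUntw (fld fld_coe fld_mul fld_one fld_pow)
open Cfsg.Agent.BpExc.FamField Cfsg.Agent.BpExc.TowChev
open Cfsg.Agent.BpExc.FamUntw Cfsg.Agent.BpExc.FamInst
open Cfsg.Agent.H296.FFour (hp4 al sg al_phi_sq al_mul_fld lang4 le_fix fix_le gam_F4)
open Cfsg.Agent.ChevalleyStructure.TwF4.TwistedFix (exists_rln)
open Cfsg.Agent.KFacts.RgdChevCoord (TT)
open Cfsg.Agent.H628.ZTwF4Out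
open Cfsg.Agent.H533.T5 Cfsg.Agent.H957.T5M Cfsg.Agent.H106.MT
open Cfsg.Agent.H28.T5Ok Cfsg.Agent.H28.T5Mid

universe u

section Main

variable {K : Type} [Field K] [Fintype K] [CharP K 2] [PerfectRing K 2] [h2 : Fact (Nat.Prime 2)] {m : ℕ}
  (hK : Fintype.card K = 2 ^ (2 * m + 1)) (hm : 1 ≤ m) (f : K →+* AlgebraicClosure (ZMod 2)) {p : ℕ} (hpp : p.Prime)
  (hp2 : p ≠ 2)

/-- the fixed points of `σ` -/
theorem mem_range {z : ↥(chevF4.group (AlgebraicClosure (ZMod 2)))}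
    (hz : (al (AlgebraicClosure (ZMod 2)) * phi chevF4 (AlgebraicClosure (ZMod 2)) 2 m) z = z) :
    z ∈ (em hK f).range := by
  have h1 : phi chevF4 (AlgebraicClosure (ZMod 2)) 2 (2 * m + 1) z = z := by
    rw [← al_phi_sq, MulAut.mul_apply, hz, hz]
  have hn : Nat.card K = 2 ^ (2 * m + 1) := by rw [Nat.card_eq_fintype_card, hK]
  obtain ⟨b, rfl⟩ := H378.TorFin.fix_mem hp4 f 2 hn inv_F4 h1
  have h3 : sg (frb K 2 m) b = b := by
    apply emb_injective hp4.inList f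
    rw [← sig_emb, hz]
  have h4 := fix_le hK (τ := frb K 2 m) (fun a => frb_apply K 2 m a) h3
  exact ⟨⟨b, h4⟩, rfl⟩

include hm hpp hp2 in
theorem casesF (x : MulAut ↥(twistedF4 K (2 ^ m))) (hx : orderOf x = p) (hxo : ¬ ∃ g, x = MulAut.conj g) :
    ∃ j s : ℕ, j = (2 * m + 1) / p / 2 ∧ p = 2 * s + 1 ∧ 2 * m + 1 = (2 * j + 1) * p ∧
      ∃ (i : ℕ) (y : ↥(chevF4.group (AlgebraicClosure (ZMod 2)))), i.Coprime p ∧
      ∀ a, em hK f ((x ^ i) a) = (MulAut.conj y *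
        (al (AlgebraicClosure (ZMod 2)) * phi chevF4 (AlgebraicClosure (ZMod 2)) 2 j)) (em hK f a) := by
  obtain ⟨g0, τ0, hx0⟩ := Cfsg.Agent.H71.FldAut.twF4_aut hm hK x
  have hτ : τ0 ≠ 1 := by
    intro hτ
    exact hxo ⟨g0, by rw [hx0, hτ, fldF_one, mul_one]⟩
  have hxp : x ^ p = 1 := by rw [← hx, pow_orderOf_eq_one]
  -- `τ0 ^ p = 1`
  have hτp : τ0 ^ p = 1 := by
    obtain ⟨g, hg⟩ := pow_form (g0 := g0) (τ := τ0) p
    rw [← hx0, hxp] at hg
    obtain ⟨φ, hφ⟩ := exists_rln hK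
    have h1 : ∀ y, g⁻¹ * y * g⁻¹⁻¹ = S2128.fld (τ0 ^ p) (2 ^ m) y := by
      intro y
      have h2 := congrArg (fun β : MulAut ↥(twistedF4 K (2 ^ m)) => g⁻¹ * β y * g) hg
      simp only [MulAut.one_apply, MulAut.mul_apply, MulAut.conj_apply] at h2
      rw [inv_inv, h2]
      group
    have h3 := S2128.eq_one_of_conj (Cfsg.Agent.KFacts.TwF4.Inst.full hK hφ) (g := g⁻¹) (τ := τ0 ^ p)
      (fun a t => by rw [h1]; exact S2128.fld_ro _ hφ a t) (fun a q u => by rw [h1]; exact S2128.fld_re _ hφ a q u)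
    exact RingEquiv.ext h3
  obtain ⟨i, e, hi, he0, hcard, hie⟩ := exists_field 2 hpp hτp hτ
  have hn : Nat.card K = 2 ^ (2 * m + 1) := by rw [Nat.card_eq_fintype_card, hK]
  have h1 : 2 * m + 1 = e * p := by
    rw [hn] at hcard
    exact Nat.pow_right_injective le_rfl hcard
  obtain ⟨s, rfl⟩ : ∃ s, p = 2 * s + 1 := by
    rcases Nat.even_or_odd p with h | h
    · exact absurd ((Nat.Prime.even_iff hpp).1 h) hp2
    · exact h
  obtain ⟨j, rfl⟩ : ∃ j, e = 2 * j + 1 := by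
    rcases Nat.even_or_odd e with ⟨a, ha⟩ | h
    · exfalso
      rw [ha] at h1
      have : (a + a) * (2 * s + 1) = 2 * (a * (2 * s + 1)) := by ring
      omega
    · exact h
  have h2' : m = (2 * j + 1) * s + j := by
    have : (2 * j + 1) * (2 * s + 1) = 2 * ((2 * j + 1) * s + j) + 1 := by ring
    omega
  -- the power
  have h3 : (τ0 ^ (i * (s + 1))) = frb K 2 (m + 1 + j) := by
    ext a
    rw [pow_mul, pow_apply_of hie, frb_apply, h2']
    congr 2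
    ring
  have hs0 : 0 < s := by
    rcases Nat.eq_zero_or_pos s with h | h
    · subst h
      exact absurd hpp (by norm_num)
    · exact h
  have hi' : (i * (s + 1)).Coprime (2 * s + 1) := by
    apply Nat.Coprime.mul_left hi
    rw [Nat.coprime_comm, Nat.Prime.coprime_iff_not_dvd hpp]
    intro h
    have := Nat.le_of_dvd (by omega) h
    omega
  obtain ⟨N, hN⟩ := pow_form (g0 := g0) (τ := τ0) (i * (s + 1))
  rw [← hx0, h3] at hN
  refine ⟨j, s, ?_, rfl, h1, i * (s + 1), em hK f N, hi', fun a => ?_⟩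
  · rw [h1, Nat.mul_div_cancel _ hpp.pos]
    omega
  · have h4 : (MulAut.conj (em hK f N) *
        (al (AlgebraicClosure (ZMod 2)) * phi chevF4 (AlgebraicClosure (ZMod 2)) 2 j)) (em hK f a) =
        em hK f N * (al (AlgebraicClosure (ZMod 2)) * phi chevF4 (AlgebraicClosure (ZMod 2)) 2 j) (em hK f a) *
        (em hK f N)⁻¹ := rfl
    rw [hN, h4, sig_em, MulAut.mul_apply, MulAut.conj_apply, map_mul, map_mul, map_inv]

include hpp in
/-- **The frame.** -/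
theorem stdF {j s : ℕ} (hs : p = 2 * s + 1) (h1 : 2 * m + 1 = (2 * j + 1) * p) :
    T5Mid.Std p (em hK f) (al (AlgebraicClosure (ZMod 2)) * phi chevF4 (AlgebraicClosure (ZMod 2)) 2 m)
      (al (AlgebraicClosure (ZMod 2)) * phi chevF4 (AlgebraicClosure (ZMod 2)) 2 j) := by
  subst hs
  have h2' : m = (2 * j + 1) * s + j := by
    have : (2 * j + 1) * (2 * s + 1) = 2 * ((2 * j + 1) * s + j) + 1 := by ring
    omega
  refine ⟨em_injective hK f, em_comm hK f, sig_em_self hK f, sig_pow h2', fun h => lang4 j h, fun u hu => ?_⟩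
  obtain ⟨s, hs⟩ := mem_range hK f hu
  exact ⟨1, s, map_one _, by rw [one_mul]; exact hs.symm⟩

/-- from the interface of `H270.StrP` -/
theorem sb_of_ff {p' q : ℕ} {g : ℕ → Cfsg.Agent.OrdDiv.Grp} {Y : Type*} [Group Y] {x : MulAut Y}
    (h : H270.StrP.FF p' g q x) : SB x := by
  obtain ⟨-, N, -, h1, h2, h3, h4, h5, -⟩ := h
  exact ⟨N, h1, h2, h3, h4, h5⟩

include hK hm hpp hp2 in
/-- the fixed points of the field automorphisms of order `p` -/
theorem sb_field {σ : K ≃+* K} (hσ : orderOf σ = p) : SB (S2128.fld σ (2 ^ m)) := by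
  have hE := Cfsg.Agent.H967.CopMat.card_Fx σ
  rw [hσ, Nat.card_eq_fintype_card, hK] at hE
  obtain ⟨m₀, j, h1, h2⟩ := Cfsg.Agent.H967.CopFix.exists_odd_exp Nat.prime_two hE
  have h3 : 2 * m + 1 = (2 * m₀ + 1) * p := by
    rw [h1, ← pow_mul] at hE
    exact Nat.pow_right_injective (le_refl 2) hE
  have hfinE : Fintype ↥(Cfsg.Agent.H967.CopMat.Fx σ) := Fintype.ofFinite _
  have hE' : Fintype.card ↥(Cfsg.Agent.H967.CopMat.Fx σ) = 2 ^ (2 * m₀ + 1) := by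
    rw [← Nat.card_eq_fintype_card, h1]
  have hqq : 2 ^ (2 * m + 1) = (2 ^ (2 * m₀ + 1)) ^ p := by rw [h3, pow_mul]
  obtain ⟨f, hf, hfix⟩ := H270.StrP.tf4_fixed hK σ h1 h2
  show SB (Cfsg.Agent.H967.CopMat.fieldAut (Cfsg.Agent.H967.CopSz.stab_f4 (K := K) (2 ^ m)) σ)
  rcases Nat.eq_zero_or_pos m₀ with h0 | h0
  · subst h0
    obtain ⟨c1, s1, na1, z1⟩ := H270.StrP.tf4_two (E := ↥(Cfsg.Agent.H967.CopMat.Fx σ)) (by rw [hE']; norm_num)
      (d := 2 ^ 0) (pow_zero 2)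
    refine sb_of_ff (p' := p) (g := .tf4) (H270.StrP.ff_of_normal f hf hfix
      (commutator ↥(twistedF4 ↥(Cfsg.Agent.H967.CopMat.Fx σ) (2 ^ 0))) s1 na1 z1 hqq ?_)
    rintro B ⟨e⟩
    refine Or.inr (Or.inr (Or.inr (Or.inr ⟨by norm_num, ?_⟩)))
    rw [← Nat.card_congr e.toEquiv, c1]
  · have hs₀ : IsSimpleGroup ↥(twistedF4 ↥(Cfsg.Agent.H967.CopMat.Fx σ) (2 ^ m₀)) :=
      (Cfsg.Agent.S1072.result h0 hE').1
    have hna₀ : ¬ IsMulCommutative ↥(twistedF4 ↥(Cfsg.Agent.H967.CopMat.Fx σ) (2 ^ m₀)) :=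
      (Cfsg.Agent.S1072.result h0 hE').2
    refine sb_of_ff (p' := p) (g := .tf4) (H270.StrP.ff_of_range hs₀ hna₀ f hf hfix hqq ?_)
    rintro B ⟨e⟩
    exact ⟨↥(Cfsg.Agent.H967.CopMat.Fx σ), inferInstance, hfinE, m₀, h0, hE', rfl, ⟨e.symm⟩⟩

include hK in
/-- `x ↦ x ^ 2 ^ (m + 1 + j)` has order `p` -/
theorem orderOf_frb {j s : ℕ} (hs : p = 2 * s + 1) (hs0 : 0 < s) (h1 : 2 * m + 1 = (2 * j + 1) * p) (hpp : p.Prime) :
    orderOf (frb K 2 (m + 1 + j)) = p := by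
  have hn : Nat.card K = 2 ^ (2 * m + 1) := by rw [Nat.card_eq_fintype_card, hK]
  have h2' : m = (2 * j + 1) * s + j := by
    subst hs
    have : (2 * j + 1) * (2 * s + 1) = 2 * ((2 * j + 1) * s + j) + 1 := by ring
    omega
  have hexp : m + 1 + j = (2 * j + 1) * (s + 1) := by rw [h2']; ring
  refine (orderOf_eq_prime_iff (hp := ⟨hpp⟩)).2 ⟨?_, ?_⟩
  · rw [frb_pow]
    ext a
    rw [frb_apply, (forall_pow_iff 2 hn _).2 ?_ a]
    · rfl
    · refine ⟨s + 1, ?_⟩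
      rw [hexp, h1]
      ring
  · intro h
    have h3 : ∀ a : K, a ^ 2 ^ (m + 1 + j) = a := fun a => by
      rw [← frb_apply, h]
      rfl
    have h4 := (forall_pow_iff 2 hn _).1 h3
    rw [hexp, h1] at h4
    have h5 : p ∣ s + 1 := Nat.dvd_of_mul_dvd_mul_left (by omega : 0 < 2 * j + 1) h4
    have := Nat.le_of_dvd (by omega) h5
    omega

include hK hm hpp hp2 in
theorem outerOkF : OuterOk p ↥(twistedF4 K (2 ^ m)) := by
  refine OuterOk.of_exists fun hex => ?_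
  have : Fact p.Prime := ⟨hpp⟩
  obtain ⟨x₀, hx₀, hxo₀⟩ := hex
  obtain ⟨f⟩ := Cfsg.Agent.BpExc.RowsUntw.exists_emb 2 K
  obtain ⟨j, s, hj, hs, h1, -⟩ := casesF hK hm f hpp hp2 x₀ hx₀ hxo₀
  have hs0 : 0 < s := by
    rcases Nat.eq_zero_or_pos s with h | h
    · subst h
      rw [mul_zero, zero_add] at hs
      exact absurd hs hpp.one_lt.ne'
    · exact h
  refine OuterOk.of_std hpp (stdF hK f hpp hs h1) (θ := S2128.fld (frb K 2 (m + 1 + j)) (2 ^ m))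
    (fun a => (sig_em hK f j a).symm) (fun _ => sb_field hK hm hpp hp2 (orderOf_frb hK hs hs0 h1 hpp)) ?_
  intro x hx hxo
  obtain ⟨j', s', hj', hs', h1', h⟩ := casesF hK hm f hpp hp2 x hx hxo
  rwa [hj', ← hj] at h

include hpp in
theorem ndvdF (hp5 : 5 ≤ p) : ∀ x ∈ [2, 6, 8, 12], ¬ p ∣ x := by
  intro x hx h1
  have h2 : ∀ x ∈ [2, 6, 8, 12], x ∣ (Nat.factorial 4) ^ 3 := by decide
  have h3 := (hpp.dvd_factorial).1 (hpp.dvd_of_dvd_pow (h1.trans (h2 x hx)))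
  omega

include hK hpp in
/-- the `p`-subgroups are commutative -/
theorem commF (hp5 : 5 ≤ p) (E : Subgroup ↥(twistedF4 K (2 ^ m))) (hE : IsPGroup p E) :
    ∀ a ∈ E, ∀ b ∈ E, a * b = b * a := by
  have : Fact p.Prime := ⟨hpp⟩
  have hpK : ¬ p ∣ Fintype.card K := by
    rw [hK]
    intro h
    have := (Nat.prime_dvd_prime_iff_eq hpp Nat.prime_two).1 (hpp.dvd_of_dvd_pow h)
    omega
  intro a ha b hb
  have h1 := H172.SI.deg_F4.comm (p := p) (ndvdF hpp hp5) hpK (E.map (inc hK)) (hE.map _) _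
    (Subgroup.mem_map_of_mem _ ha) _ (Subgroup.mem_map_of_mem _ hb)
  rw [← map_mul, ← map_mul] at h1
  exact Subgroup.inclusion_injective _ h1

include hK hm hpp in
theorem homOkF (hp5 : 5 ≤ p) : HomOk p ↥(twistedF4 K (2 ^ m)) := by
  intro x hx hxo
  have hp2 : p ≠ 2 := by omega
  obtain ⟨f⟩ := Cfsg.Agent.BpExc.RowsUntw.exists_emb 2 K
  obtain ⟨j, s, hj, hs, h1, -⟩ := casesF hK hm f hpp hp2 x hx hxo
  have hk : LocFin (AlgebraicClosure (ZMod 2)) := locFin_of_isAlgebraic 2 _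
  refine HomOk.of_std hpp (stdF hK f hpp hs h1) (H28.T5Fus.fus hp4 hk (r := 2) H172.SI.deg_F4 hpp hp2
    (ndvdF hpp hp5)) (s := 2) (Q := 2 ^ (2 * j + 1)) ((Nat.coprime_primes Nat.prime_two hpp).2 hp2.symm)
    (fun h => hp2 ((Nat.prime_dvd_prime_iff_eq hpp Nat.prime_two).1 (hpp.dvd_of_dvd_pow h))) (fun t ht => ?_)
    (commF hK hpp hp5) (fun x hx hxo => ?_) x hx hxo
  · rw [pow_two, al_phi_sq]
    exact H28.T5Fus.phi_TT hp4 _ ht
  · obtain ⟨j', s', hj', hs', h1', h⟩ := casesF hK hm f hpp hp2 x hx hxo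
    rwa [hj', ← hj] at h

include hK hm hpp in
theorem wrowF (hp5 : 5 ≤ p) : WRow p ↥(twistedF4 K (2 ^ m)) := by
  have hp2 : p ≠ 2 := by omega
  have hs := (Cfsg.Agent.S1072.result hm hK).1
  have hna := (Cfsg.Agent.S1072.result hm hK).2
  refine wrow_of_exists hna hpp hp2 (commF hK hpp hp5) ?_
  rintro ⟨x, hx, hxo⟩
  obtain ⟨f⟩ := Cfsg.Agent.BpExc.RowsUntw.exists_emb 2 K
  obtain ⟨j, s, hj, hs, h1, -⟩ := casesF hK hm f hpp hp2 x hx hxo
  refine wrow_of_std hna hpp hp2 (stdF hK f hpp hs h1) (fun y hy _ => mem_range hK f hy) (homOkF hK hm hpp hp5)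
    (commF hK hpp hp5) (fun x hx hxo => ?_)
  obtain ⟨j', s', hj', hs', h1', h⟩ := casesF hK hm f hpp hp2 x hx hxo
  rwa [hj', ← hj] at h

end Main

/-! ### the rows -/

section Rows

variable {S : Type u} [Group S] {K : Type} [Field K] [Fintype K] {m : ℕ} (hm : 1 ≤ m)
  (hK : Fintype.card K = 2 ^ (2 * m + 1)) {p : ℕ} (hpp : p.Prime) (hp5 : 5 ≤ p) (e : S ≃* ↥(twistedF4 K (2 ^ m)))

include hm hK hpp hp5 e in
theorem outerOk_twF4 : OuterOk p S := by
  have h2p : Fact (Nat.Prime 2) := ⟨Nat.prime_two⟩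
  have hcK : CharP K 2 := H967.CopSz.charP_of_card Nat.prime_two hK
  have hpK : PerfectRing K 2 := inferInstance
  exact OuterOk.congr e (outerOkF hK hm hpp (by omega))

include hm hK hpp hp5 e in
theorem homOk_twF4 : HomOk p S := by
  have h2p : Fact (Nat.Prime 2) := ⟨Nat.prime_two⟩
  have hcK : CharP K 2 := H967.CopSz.charP_of_card Nat.prime_two hK
  have hpK : PerfectRing K 2 := inferInstance
  exact HomOk.congr e (homOkF hK hm hpp hp5)

include hm hK hpp hp5 e in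
/-- **The weak row of `²F₄(q)`, `p ≥ 5`.** -/
theorem wrow_twF4 : WRow p S := by
  have h2p : Fact (Nat.Prime 2) := ⟨Nat.prime_two⟩
  have hcK : CharP K 2 := H967.CopSz.charP_of_card Nat.prime_two hK
  have hpK : PerfectRing K 2 := inferInstance
  exact H897.T5Sub.WRow.congr e.symm (wrowF hK hm hpp hp5)

include hm hK hpp hp5 e in
/-- **The middle row of `²F₄(q)`, `p ≥ 5`.** -/
theorem mrow_twF4 [Finite S] (hAA : AAHyp.{u} p)
    (hin : ∀ x y : S, orderOf x = p → orderOf y = p → MPair p (⊤ : Subgroup S) x y) : MRow p S := by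
  have hs := (Cfsg.Agent.S1072.result hm hK).1
  have hna := (Cfsg.Agent.S1072.result hm hK).2
  have := e.isSimpleGroup
  refine mrow_of_ok hAA hpp (fun hc => hna ⟨⟨fun a b => e.symm.injective ?_⟩⟩)
    (outerOk_twF4 hm hK hpp hp5 e) (homOk_twF4 hm hK hpp hp5 e) hin
  rw [map_mul, map_mul]
  exact hc.is_comm.comm _ _

end Rows

end Cfsg.Agent.H28.T5TwF
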