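import Cfsg.Agent.H28.DefNode
import Cfsg.Agent.FixBN.LOAll
import Cfsg.Agent.KFacts.RgdLieCharP
import Cfsg.Agent.BpLieP.Ree

/-!
# Minimal counterexamples to the `Z*_p` statement: groups of Lie type of characteristic `p`

`row_of_lieTypeChar` : `Row p L` for the simple groups `L` of Lie type of odd characteristic `p`.
-/

set_option autoImplicit false

namespace Cfsg.Agent.H28.DefChar

open Subgroup Cfsg Cfsg.Agent.H256.ZBasic Cfsg.Agent.H256.ZRed Cfsg.Agent.H256.ZTool Cfsg.Agent.H28.ZIso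
  Cfsg.Agent.FixBN Cfsg.Agent.Schreier.BNSch Cfsg.Agent.H28.DefBN Cfsg.Agent.H28.DefNode Cfsg.Lie
  Cfsg.Agent.ChevalleyStructure.CoxeterGeomTypes Cfsg.Agent.Nodes.RGDChev

universe u v

/-- If the `p`-local subgroups have characteristic `p` then their `p'`-cores are trivial. -/
theorem locCore_of_locChar {p : ℕ} [hp : Fact p.Prime] {L : Type v} [Group L] [Finite L]
    (h : BpLieP.Big.LocChar p L) : LocCore p L := by
  intro Q hQ hQ1 E hE hn hc
  have h1 := h Q hQ hQ1
  set N := normalizer (Q : Set L) with hN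
  have hEn : (E.subgroupOf N).Normal := ⟨fun e he g => mem_subgroupOf.2 (hn g g.2 e (mem_subgroupOf.1 he))⟩
  have hO : IsPGroup p (pCore p N) := Lib.Cores.pCore_isPGroup p
  have hOn : (pCore p N).Normal := Lib.Cores.pCore_normal p
  have hcard : (Nat.card (E.subgroupOf N)).Coprime p := by
    rw [Nat.card_congr (subgroupOfEquivOfLe hE).toEquiv]; exact hc
  have hdis : ∀ Y : Subgroup N, IsPGroup p Y → Y ≤ E.subgroupOf N → Y = ⊥ := by
    intro Y hY hYE
    have h2 : Nat.card Y ∣ Nat.card (E.subgroupOf N) := card_dvd_of_le hYE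
    obtain ⟨k, hk⟩ := IsPGroup.iff_card.1 hY
    rw [hk] at h2
    have h3 : (p ^ k).Coprime p := Nat.Coprime.coprime_dvd_left h2 hcard
    rcases Nat.eq_zero_or_pos k with h4 | h4
    · rw [← card_eq_one, hk, h4, pow_zero]
    · exfalso
      rw [Nat.coprime_pow_left_iff h4, Nat.coprime_self] at h3
      exact hp.out.one_lt.ne h3.symm
  have h2 : E.subgroupOf N ≤ centralizer (pCore p N : Set N) := by
    rw [← commutator_eq_bot_iff_le_centralizer]
    refine hdis _ ?_ (commutator_le_left _ _)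
    exact hO.to_le (commutator_le_right _ _)
  have h3 : E.subgroupOf N = ⊥ := hdis _ (hO.to_le (h2.trans h1)) le_rfl
  rw [subgroupOf_eq_bot, disjoint_iff, inf_eq_left.2 hE] at h3
  exact h3

theorem locCore_of_lie {p : ℕ} [hp : Fact p.Prime] {L : Type v} [Group L] [Finite L] [IsSimpleGroup L]
    (hc : ∃ a b : L, a * b ≠ b * a) (h : KFacts.RgdLieCharP.IsLieFilt p L) : LocCore p L :=
  fun _ hQ hQ1 _ hE hn hcop => (KFacts.RgdLieCharP.hasFilt_of_lie h).local_core hc hQ hQ1 hE hn hcop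

/-- The groups with a good split (B,N)-pair. -/
theorem false_of_goodSplit {p : ℕ} [hp : Fact p.Prime] {K : Type v} [Group K] [Finite K] [IsSimpleGroup K]
    (hc : ¬ ∀ a b : K, a * b = b * a) (hK : LocCore p K) (hS : HasGoodSplit p K) {G : Type u} [Group G] [Finite G]
    {x : G} (h : MinCex p x) (e : commutator G ≃* K) : False := by
  obtain ⟨P, U, hne, S⟩ := hS
  refine false_of_split S.toSplit hne hK ?_ h e
  intro s hs hN htop
  obtain ⟨V, hV, hgood⟩ := S.good s hs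
  have h1 := eq_bot_of_node S.le hN hV
  subst h1
  rcases hgood with ⟨F, _, _, -, ⟨N⟩⟩ | ⟨F, _, σ, _, hF, ⟨N⟩⟩
  · by_cases h3 : 3 < Nat.card F
    · exact exists_free_field S.toSplit hs hN N h3
    · exact (false_of_card_three hc S.toSplit hs htop N (by omega)).elim
  · exact exists_free_unitary S.toSplit hs hN hF N

/-! ### the small Ree groups -/

section Ree

open Cfsg.Agent.LieRecognition.ReeAbs Cfsg.Agent.LieRecognition.ReeSylowThree Cfsg.Agent.FixBN.ReeSplit

variable {F : Type*} [Field F] {K : Type v} [Group K] {m : ℕ} {U : F → F → F → K} {h : Fˣ → K} {n : K}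

theorem exists_free_ree [Fintype F] (hm : 1 ≤ m) (hF : Fintype.card F = 3 ^ (2 * m + 1)) (D : Data m U h n) :
    ∃ t ∈ bSub D, n⁻¹ * t * n ∈ bSub D ∧ ∀ u ∈ uSub D, t * u * t⁻¹ = u → u = 1 := by
  obtain ⟨a, ha⟩ := IsCyclic.exists_generator (α := Fˣ)
  have hord : orderOf a = 3 ^ (2 * m + 1) - 1 := by
    rw [orderOf_eq_card_of_forall_mem_zpowers ha, Nat.card_units, Nat.card_eq_fintype_card, hF]
  have hbig : 2 * 3 ^ (m + 1) + 3 < 3 ^ (2 * m + 1) - 1 := by
    have h1 : 3 ^ (2 * m + 1) = 3 ^ m * 3 ^ (m + 1) := by rw [← pow_add]; congr 1; omega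
    have h2 : 3 ^ 1 ≤ 3 ^ m := Nat.pow_le_pow_right (by norm_num) hm
    have h3 : 3 ^ 2 ≤ 3 ^ (m + 1) := Nat.pow_le_pow_right (by norm_num) (by omega)
    have h4 : 3 ^ 1 * 3 ^ (m + 1) ≤ 3 ^ m * 3 ^ (m + 1) := Nat.mul_le_mul_right _ h2
    rw [h1]
    omega
  have hne : ∀ k : ℕ, 0 < k → k ≤ 2 * 3 ^ (m + 1) + 3 → ((a : F) ^ k) ≠ 1 := by
    intro k hk hk2 h1
    have h2 : a ^ k = 1 := Units.ext (by rw [Units.val_pow_eq_pow_val, h1, Units.val_one])
    have h3 := Nat.le_of_dvd hk (orderOf_dvd_of_pow_eq_one h2)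
    rw [hord] at h3
    omega
  have hpos : 0 < 3 ^ (m + 1) := by positivity
  refine ⟨h a, h_mem_bSub D a, ?_, ?_⟩
  · rw [D.n_inv, D.n_h, mul_assoc, D.n_n, mul_one]
    exact h_mem_bSub D _
  · rintro _ ⟨t, u, v, rfl⟩ h1
    have h2 : h a * U t u v = U t u v * h a := by
      rw [mul_inv_eq_iff_eq_mul] at h1
      exact h1
    rw [D.h_U] at h2
    obtain ⟨h3, h4, h5, -⟩ := D.inj₁ _ _ _ _ _ _ _ _ h2
    have key : ∀ (k : ℕ) (w : F), 0 < k → k ≤ 2 * 3 ^ (m + 1) + 3 → (a : F) ^ k * w = w → w = 0 := by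
      intro k w hk hk2 hw
      have h6 : ((a : F) ^ k - 1) * w = 0 := by linear_combination hw
      rcases mul_eq_zero.1 h6 with h7 | h7
      · exact absurd (sub_eq_zero.1 h7) (hne k hk hk2)
      · exact h7
    rw [key _ _ hpos (by omega) h3, key _ _ (by omega) (by omega) h4, key _ _ (by omega) (by omega) h5, D.U_zero]

end Ree

theorem row_ree {L : Type v} [Group L] (h : Lie.IsoRee L) : Row.{u, v} 3 L := by
  have : Fact (Nat.Prime 3) := ⟨Nat.prime_three⟩
  obtain ⟨K, _, _, m, hm, hK, ⟨e⟩⟩ := h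
  obtain ⟨U, h, n, D⟩ := ChevalleyStructure.Ree.Data.exists_data (K := K) hK
  have hfin : Finite ↥(Lie.twistedG2 K (3 ^ m)) := LieRecognition.ReeSylowThree.finite D
  intro G _ _ x hx f
  refine false_of_split (ReeSplit.split hK D) ⟨n, rfl⟩ (locCore_of_locChar (BpLieP.Ree.locChar hK D)) ?_ hx (f.trans e)
  intro s hs _ _
  have hs' : s = n := hs
  subst hs'
  exact exists_free_ree hm hK D

/-- The groups other than `²G₂(q)` have a good model. -/
theorem goodModel {p : ℕ} (hp2 : p ≠ 2) {G : Type*} [Group G] [IsSimpleGroup G]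
    (hG : KFacts.RgdLieCharP.IsLieFilt p G) : GoodModel p G := by
  have hodd : ∀ [Fact p.Prime], Odd p := fun {h} => h.out.odd_of_ne_two hp2
  rcases hG with hG | hG | hG | hG | hG | hG | hG | hG
  · obtain ⟨F, _, _, _, n, hn, -, ⟨e⟩⟩ := hG
    have : Fact p.Prime := ⟨CharP.char_is_prime F p⟩
    have : Finite (Matrix.ProjectiveSpecialLinearGroup (Fin n) F) := Quotient.finite _
    exact GoodModel.mk' (fun _ => PslGood.hasGoodSplit_psl hp2 hn) e
  · obtain ⟨F, _, _, _, m, hm, -, ⟨e⟩⟩ := hG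
    have : Fact p.Prime := ⟨CharP.char_is_prime F p⟩
    have : Finite (PSp m F) := Quotient.finite _
    exact GoodModel.mk' (fun _ => WittNodeC.hasGoodSplit_PSp (by omega) hodd) e
  · obtain ⟨F, _, _, _, n, q, hq, hn, -, ⟨e⟩⟩ := hG
    have : Fact p.Prime := ⟨CharP.char_is_prime F p⟩
    have : Finite (PSU n F q) := Quotient.finite _
    exact GoodModel.mk' (fun _ => WittNodeC.hasGoodSplit_PSU hq hn hodd) e
  · obtain ⟨F, _, _, _, m, hm, -, ⟨e⟩⟩ := hG
    have : Fact p.Prime := ⟨CharP.char_is_prime F p⟩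
    have : Finite (POmega F (quadFormOdd m F)) := Quotient.finite _
    exact GoodModel.mk' (fun _ => WittNodeO.hasGoodSplit_odd (by omega) hodd) e
  · obtain ⟨F, _, _, _, m, hm, ⟨e⟩⟩ := hG
    have : Fact p.Prime := ⟨CharP.char_is_prime F p⟩
    have : Finite (POmega F (quadFormPlus m F)) := Quotient.finite _
    exact GoodModel.mk' (fun _ => WittNodeD.hasGoodSplit_plus hodd (by omega)) e
  · obtain ⟨F, _, _, _, m, a, b, hm, hab, ⟨e⟩⟩ := hG
    have : Fact p.Prime := ⟨CharP.char_is_prime F p⟩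
    have : Finite (POmega F (quadFormMinus (m - 1) F a b)) := Quotient.finite _
    exact GoodModel.mk' (fun _ => WittNodeO.hasGoodSplit_minus (by omega) hodd a b hab) e
  · obtain ⟨F, _, _, _, ⟨-, ⟨e⟩⟩ | ⟨⟨e⟩⟩ | ⟨⟨e⟩⟩ | ⟨⟨e⟩⟩ | ⟨⟨e⟩⟩⟩ := hG
    · exact GoodModel.of_group (l := 2) (M := CoxeterMatrix.G₂) (by simp [IsType, typeList]) hp2 e
    · exact GoodModel.of_group (l := 4) (M := CoxeterMatrix.F₄) (by simp [IsType, typeList]) hp2 e
    · exact GoodModel.of_group (l := 6) (M := CoxeterMatrix.E₆) (by simp [IsType, typeList]) hp2 e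
    · exact GoodModel.of_group (l := 7) (M := CoxeterMatrix.E₇) (by simp [IsType, typeList]) hp2 e
    · exact GoodModel.of_group (l := 8) (M := CoxeterMatrix.E₈) (by simp [IsType, typeList]) hp2 e
  · obtain ⟨K, _, _, _, q, hq, ⟨hK, ⟨e⟩⟩ | ⟨hK, ⟨e⟩⟩⟩ := hG
    · have : Fact p.Prime := ⟨CharP.char_is_prime K p⟩
      exact GoodModel.mk' (fun _ => TwGood.hasGoodSplit_E6 hq hK p hp2) e
    · have : Fact p.Prime := ⟨CharP.char_is_prime K p⟩
      exact GoodModel.mk' (fun _ => TwGood.hasGoodSplit_D4 hq hK p hp2) e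

theorem row_of_lieFilt {p : ℕ} [hp : Fact p.Prime] (hp2 : p ≠ 2) {L : Type v} [Group L] [Finite L]
    (hL : KFacts.RgdLieCharP.IsLieFilt p L) : Row.{u, v} p L := by
  intro G _ _ x hx f
  have hsim : IsSimpleGroup L := by
    have := hx.simple
    exact f.symm.isSimpleGroup
  have hc : ¬ ∀ a b : L, a * b = b * a := by
    intro hcomm
    apply hx.not_comm
    intro a ha b hb
    have h1 := hcomm (f ⟨a, ha⟩) (f ⟨b, hb⟩)
    rw [← map_mul, ← map_mul] at h1
    exact congrArg Subtype.val (f.injective h1)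
  obtain ⟨K, _, _, _, _, hS, ⟨e⟩⟩ := goodModel hp2 hL
  have h1 : LocCore p L := locCore_of_lie (by push Not at hc; exact hc) hL
  refine false_of_goodSplit ?_ (LocCore.congr e.symm h1) hS hx (f.trans e)
  intro hcomm
  apply hc
  intro a b
  apply e.injective
  rw [map_mul, map_mul]
  exact hcomm _ _

/-- **`Row p L` for the simple groups `L` of Lie type of odd characteristic `p`.** -/
theorem row_of_lieTypeChar {p : ℕ} [hp : Fact p.Prime] (hp2 : p ≠ 2) {L : Type v} [Group L] [Finite L]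
    (hL : IsLieTypeChar p L) : Row.{u, v} p L := by
  rcases hL with h | h | h | h | h | h | h | h | h | h | h
  · exact row_of_lieFilt hp2 (Or.inl h)
  · exact row_of_lieFilt hp2 (Or.inr (Or.inl h))
  · exact row_of_lieFilt hp2 (Or.inr (Or.inr (Or.inl h)))
  · exact row_of_lieFilt hp2 (Or.inr (Or.inr (Or.inr (Or.inl h))))
  · exact row_of_lieFilt hp2 (Or.inr (Or.inr (Or.inr (Or.inr (Or.inl h)))))
  · exact row_of_lieFilt hp2 (Or.inr (Or.inr (Or.inr (Or.inr (Or.inr (Or.inl h))))))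
  · exact row_of_lieFilt hp2 (Or.inr (Or.inr (Or.inr (Or.inr (Or.inr (Or.inr (Or.inl h)))))))
  · exact row_of_lieFilt hp2 (Or.inr (Or.inr (Or.inr (Or.inr (Or.inr (Or.inr (Or.inr h)))))))
  · exact absurd h.1 hp2
  · exact absurd h.1 hp2
  · obtain ⟨rfl, h⟩ := h
    exact row_ree h

end Cfsg.Agent.H28.DefChar
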