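import Mathlib
import Cfsg.Prelude.Def_PLocal
import Cfsg.Agent.PLocal.ThompsonJA
import Cfsg.Agent.PLocal.ZJ
import Cfsg.Agent.H28.OrbitTrace

/-!
# Glauberman's weak closure theorem, `p` odd: the local case (helper28)

`local_central` : `S` a Sylow `p`-subgroup of `G`, `x ∈ S` commuting with `N_G(J(S))` and such that all conjugates of
`x` lie in `S` (`p` odd). Then `x` is central in `G`.
-/

set_option autoImplicit false

namespace Cfsg.Agent.H28.WeakLocal

open Subgroup Cfsg Cfsg.Agent.PLocal.ZJ
open scoped commutatorElement Pointwise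

universe u

section

variable {G : Type u} [Group G]

theorem map_subtype_norm {H : Subgroup G} {P : Subgroup H} {h : H}
    (hh : h ∈ normalizer (thompsonSubgroupAOf P : Set H)) :
    (h : G) ∈ normalizer (thompsonSubgroupAOf (P.map H.subtype) : Set G) := by
  rw [← Cfsg.Agent.PLocal.ThompsonJA.map_thompsonSubgroupAOf _ H.subtype_injective]
  exact Subgroup.le_normalizer_map H.subtype ⟨h, hh, rfl⟩

theorem mem_maxAb_of_map_le [Finite G] {S A : Subgroup G} (hA : A ∈ maxAb 0 S) (g : G)
    (h : A.map (MulAut.conj g).toMonoidHom ≤ S) : A.map (MulAut.conj g).toMonoidHom ∈ maxAb 0 S := by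
  refine ⟨h, isElementaryAbelian_map _ hA.2.1, fun B hB hBe => ?_⟩
  rw [card_map_equiv (MulAut.conj g) A]
  exact hA.2.2 B hB hBe

theorem comm_of_mem_maxAb {S A : Subgroup G} (hA : A ∈ maxAb 0 S) {a b : G} (ha : a ∈ A) (hb : b ∈ A) :
    a * b = b * a :=
  Cfsg.Agent.PLocal.Replacement.mul_comm_of_isMulCommutative hA.2.1.1 ha hb

/-- a subgroup centralizing an abelian subgroup of largest order lies in it -/
theorem le_of_centralize [Finite G] {S A V : Subgroup G} (hA : A ∈ maxAb 0 S) (hV : V ≤ S)
    (h : ∀ v ∈ V, ∀ a ∈ A, v * a = a * v) : V ≤ A := by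
  intro v hv
  have h1 := Cfsg.Agent.PLocal.ThompsonJA.inf_centralizer_le_of_mem_maxAbelianIn (P := S) (A := A)
    ⟨hA.1, hA.2.1.1, fun B hB hBc => hA.2.2 B hB ⟨hBc, fun a _ => pow_zero a⟩⟩
  exact h1 ⟨hV hv, mem_centralizer_iff.2 fun a ha => (h v hv a ha).symm⟩

end

/-- **Glauberman's weak closure theorem, local case** (`p` odd). -/
theorem local_central {p : ℕ} [Fact p.Prime] (hp : p ≠ 2) (n : ℕ) :
    ∀ (G : Type u) [Group G] [Finite G] (S : Sylow p G) (x : G), Nat.card G + orderOf x ≤ n →
      x ∈ (S : Subgroup G) → (∀ g ∈ normalizer (thompsonSubgroupAOf (S : Subgroup G) : Set G), g * x = x * g) →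
      (∀ g : G, g * x * g⁻¹ ∈ (S : Subgroup G)) → ∀ g : G, g * x = x * g := by
  classical
  have hpp : p.Prime := Fact.out
  induction n with
  | zero =>
    intro G _ _ S x h
    have := Nat.card_pos (α := G)
    omega
  | succ n ih =>
    intro G _ _ S x hn hxS hJ hcl
    have hSp : IsPGroup p (S : Subgroup G) := S.2
    -- `S` centralizes `x`
    have hSJ : (S : Subgroup G) ≤ normalizer (thompsonSubgroupAOf (S : Subgroup G) : Set G) :=
      Subgroup.le_normalizer.trans (Cfsg.Agent.PLocal.ThompsonJA.normalizer_le_normalizer_thompsonSubgroupAOf _)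
    have hSx : ∀ s ∈ (S : Subgroup G), s * x = x * s := fun s hs => hJ s (hSJ hs)
    -- the subgroup `V`
    obtain ⟨V, hVdef⟩ : ∃ V, V = normalClosure ({x} : Set G) := ⟨_, rfl⟩
    have hVn : V.Normal := by rw [hVdef]; infer_instance
    have hxV : x ∈ V := by rw [hVdef]; exact subset_normalClosure rfl
    have hconjV : ∀ g : G, g * x * g⁻¹ ∈ V := fun g => hVn.conj_mem x hxV g
    have hVS : V ≤ (S : Subgroup G) := by
      rw [hVdef, normalClosure, closure_le]
      intro y hy
      obtain ⟨a, ha, hay⟩ := Group.mem_conjugatesOfSet_iff.1 hy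
      rw [Set.mem_singleton_iff] at ha
      subst ha
      obtain ⟨c, hc⟩ := isConj_iff.1 hay
      rw [← hc]
      exact hcl c
    have hVcc : V ≤ centralizer (V : Set G) := by
      have h1 : (centralizer (V : Set G)).Normal := by infer_instance
      have h2 : x ∈ centralizer (V : Set G) :=
        mem_centralizer_iff.2 fun v hv => hSx v (hVS hv)
      conv_lhs => rw [hVdef]
      exact normalClosure_le_normal (by rintro _ rfl; exact h2)
    have hVc : ∀ v ∈ V, ∀ w ∈ V, v * w = w * v := fun v hv w hw =>
      (mem_centralizer_iff.1 (hVcc hv) w hw).symm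
    -- `x ^ p` is central
    have hxp : ∀ g : G, g * x ^ p = x ^ p * g := by
      by_cases hx1 : x = 1
      · intro g
        rw [hx1, one_pow, mul_one, one_mul]
      · have hord : orderOf (x ^ p) < orderOf x := by
          obtain ⟨k, hk⟩ := IsPGroup.iff_orderOf.1 hSp ⟨x, hxS⟩
          rw [Subgroup.orderOf_mk] at hk
          have hk0 : k ≠ 0 := by
            rintro rfl
            rw [pow_zero] at hk
            exact hx1 (orderOf_eq_one_iff.1 hk)
          have hdvd : p ∣ orderOf x := by rw [hk]; exact dvd_pow_self p hk0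
          rw [orderOf_pow_of_dvd hpp.ne_zero hdvd]
          exact Nat.div_lt_self (orderOf_pos x) hpp.one_lt
        refine ih G S (x ^ p) (by omega) (pow_mem hxS p) (fun g hg => ?_) (fun g => ?_)
        · have h1 : Commute g x := hJ g hg
          exact (h1.pow_right p).eq
        · rw [← conj_pow]
          exact pow_mem (hcl g) p
    -- the quadratic members of `maxAb 0 S`
    obtain ⟨D, hDdef⟩ : ∃ D : Set (Subgroup G), D = {A | A ∈ maxAb 0 (S : Subgroup G) ∧
      ∀ v ∈ V, ∀ a ∈ A, ∀ b ∈ A, b * (a * v * a⁻¹ * v⁻¹) * b⁻¹ = a * v * a⁻¹ * v⁻¹} := ⟨_, rfl⟩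
    have hDmem : ∀ A, A ∈ D ↔ A ∈ maxAb 0 (S : Subgroup G) ∧
      ∀ v ∈ V, ∀ a ∈ A, ∀ b ∈ A, b * (a * v * a⁻¹ * v⁻¹) * b⁻¹ = a * v * a⁻¹ * v⁻¹ := by
      intro A; rw [hDdef]; rfl
    have hDconj : ∀ A ∈ D, ∀ g : G, A.map (MulAut.conj g).toMonoidHom ≤ (S : Subgroup G) →
        A.map (MulAut.conj g).toMonoidHom ∈ D := by
      intro A hA g hg
      rw [hDmem] at hA ⊢
      refine ⟨mem_maxAb_of_map_le hA.1 g hg, ?_⟩
      rintro v hv _ ⟨a, ha, rfl⟩ _ ⟨b, hb, rfl⟩
      have h1 := hA.2 (g⁻¹ * v * g⁻¹⁻¹) (hVn.conj_mem v hv g⁻¹) a ha b hb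
      have h2 := congrArg (fun y => g * y * g⁻¹) h1
      simp only [MulEquiv.coe_toMonoidHom, MulAut.conj_apply]
      simp only [inv_inv, mul_inv_rev] at h2 ⊢
      convert h2 using 1 <;> group
    -- key case distinction
    by_cases hcase : ∀ A ∈ D, ∀ a ∈ A, ∀ v ∈ V, a * v = v * a
    · -- `J(S)` centralizes `V`
      have hJV : thompsonSubgroupAOf (S : Subgroup G) ≤ centralizer (V : Set G) := by
        by_contra hcon
        have h1 : ∃ A ∈ maxAb 0 (S : Subgroup G), ¬ A ≤ centralizer (V : Set G) := by
          by_contra hall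
          push Not at hall
          apply hcon
          rw [thompsonSubgroupAOf_eq]
          exact sSup_le hall
        obtain ⟨A, ⟨hA, hAV⟩, hmax⟩ := Set.exists_max_image
          {A : Subgroup G | A ∈ maxAb 0 (S : Subgroup G) ∧ ¬ A ≤ centralizer (V : Set G)}
          (fun A => Nat.card ↥(A ⊓ V)) (Set.toFinite _) h1
        by_cases hVA : V ≤ normalizer (A : Set G)
        · -- `A` is quadratic
          apply hAV
          have hAD : A ∈ D := by
            rw [hDmem]
            refine ⟨hA, fun v hv a ha b hb => ?_⟩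
            have h2 : v * a⁻¹ * v⁻¹ ∈ A := ((mem_normalizer_iff.1 (hVA hv)) _).1 (inv_mem ha)
            have h3 : a * v * a⁻¹ * v⁻¹ ∈ A := by
              have : a * v * a⁻¹ * v⁻¹ = a * (v * a⁻¹ * v⁻¹) := by group
              rw [this]
              exact mul_mem ha h2
            rw [comm_of_mem_maxAb hA hb h3, mul_inv_cancel_right]
          intro a ha
          rw [mem_centralizer_iff]
          intro v hv
          exact (hcase A hAD a ha v hv).symm
        · have hVV : ⁅V, V⁆ = ⊥ := by
            rw [commutator_eq_bot_iff_le_centralizer]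
            exact hVcc
          obtain ⟨A', hA', hlt, hnorm⟩ := exists_replacement hp (Or.inl rfl) hSp hA hVS
            ((normalizer_eq_top_iff.2 hVn).symm ▸ le_top) (by rw [hVV]; exact commutator_bot_left _)
            (by rw [hVV]; exact bot_le) hVA
          have hA'V : A' ≤ centralizer (V : Set G) := by
            by_contra hc
            have h2 := hmax A' ⟨hA', hc⟩
            have h3 : Nat.card ↥(A ⊓ V) < Nat.card ↥(A' ⊓ V) := by
              apply Set.Finite.card_lt_card (Set.toFinite _)
              exact hlt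
            exact absurd h2 (not_le.2 h3)
          apply hVA
          refine (le_of_centralize hA' hVS ?_).trans hnorm
          intro v hv a ha
          exact mem_centralizer_iff.1 (hA'V ha) v hv
      -- Frattini
      have hCn : (centralizer (V : Set G)).Normal := by infer_instance
      have hfr := frattini_sup S (centralizer (V : Set G)) (centralizer (V : Set G)) hCn (k := 0)
        (by rw [relIndex_self, pow_zero])
      have h2 : thompsonSubgroupAOf (centralizer (V : Set G) ⊓ (S : Subgroup G)) =
          thompsonSubgroupAOf (S : Subgroup G) :=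
        Cfsg.Agent.PLocal.ThompsonJA.thompsonSubgroupAOf_eq_of_le
          (le_inf hJV (Cfsg.Agent.PLocal.ThompsonJA.thompsonSubgroupAOf_le _)) inf_le_right
      have h3 : (⊤ : Subgroup G) ≤ centralizer ({x} : Set G) := by
        rw [← hfr]
        refine sup_le ?_ ?_
        · intro c hc
          rw [mem_centralizer_singleton_iff]
          exact (mem_centralizer_iff.1 hc x hxV).symm
        · intro c hc
          rw [mem_centralizer_singleton_iff]
          apply hJ
          rw [← h2]
          exact Cfsg.Agent.PLocal.ThompsonJA.normalizer_le_normalizer_thompsonSubgroupAOf _ hc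
      intro g
      exact mem_centralizer_singleton_iff.1 (h3 (mem_top g))
    · push Not at hcase
      obtain ⟨A₀, hA₀, a₀, ha₀, v₀, hv₀, hne⟩ := hcase
      obtain ⟨R, hRdef⟩ : ∃ R : Subgroup G, R = sSup D := ⟨_, rfl⟩
      have hRS : R ≤ (S : Subgroup G) := by
        rw [hRdef]
        exact sSup_le fun A hA => ((hDmem A).1 hA).1.1
      have hRconj : ∀ g : G, (∀ r ∈ R, g * r * g⁻¹ ∈ (S : Subgroup G)) → g ∈ normalizer (R : Set G) := by
        intro g hg
        rw [mem_normalizer_iff_map_conj]
        have hle : R.map (MulAut.conj g).toMonoidHom ≤ R := by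
          conv_lhs => rw [hRdef]
          rw [Subgroup.map_le_iff_le_comap]
          refine sSup_le fun A hA => ?_
          rw [← Subgroup.map_le_iff_le_comap]
          have h1 : A.map (MulAut.conj g).toMonoidHom ∈ D := by
            refine hDconj A hA g ?_
            rintro _ ⟨a, ha, rfl⟩
            exact hg a (by rw [hRdef]; exact (le_sSup hA : A ≤ sSup D) ha)
          rw [hRdef]
          exact le_sSup h1
        exact Subgroup.eq_of_le_of_card_ge hle (by rw [card_map_equiv (MulAut.conj g) R])
      have hSR : (S : Subgroup G) ≤ normalizer (R : Set G) := fun s hs =>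
        hRconj s fun r hr => mul_mem (mul_mem hs (hRS hr)) (inv_mem hs)
      -- the normalizer of `R` is proper
      have hlt : normalizer (R : Set G) ≠ ⊤ := by
        intro htop
        have hRn : R.Normal := normalizer_eq_top_iff.1 htop
        apply hne
        have h1 : (centralizer (R : Set G)).Normal := by infer_instance
        have h2 : V ≤ centralizer (R : Set G) := by
          rw [hVdef]
          refine normalClosure_le_normal ?_
          rintro _ rfl
          exact mem_centralizer_iff.2 fun r hr => hSx r (hRS hr)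
        have h3 : a₀ ∈ R := by rw [hRdef]; exact (le_sSup hA₀ : A₀ ≤ sSup D) ha₀
        exact mem_centralizer_iff.1 (h2 hv₀) a₀ h3
      -- induction: `N(R)` centralizes `x`
      have hNR : ∀ g ∈ normalizer (R : Set G), g * x = x * g := by
        have hcard : Nat.card ↥(normalizer (R : Set G)) < Nat.card G := by
          have h1 := card_mul_index (normalizer (R : Set G))
          have h2 : 1 < (normalizer (R : Set G)).index := one_lt_index_of_ne_top hlt
          have h3 := Nat.card_pos (α := ↥(normalizer (R : Set G)))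
          nlinarith
        have hmap : ((S.subtype hSR : Sylow p ↥(normalizer (R : Set G))) : Subgroup _).map
            (normalizer (R : Set G)).subtype = (S : Subgroup G) := by
          rw [Sylow.coe_subtype, subgroupOf_map_subtype, inf_eq_left.2 hSR]
        intro g hg
        have h1 := ih ↥(normalizer (R : Set G)) (S.subtype hSR) ⟨x, hSR hxS⟩
          (by rw [Subgroup.orderOf_mk]; omega) (by
            rw [Sylow.coe_subtype, mem_subgroupOf]; exact hxS) (by
            intro h hh
            have h2 := map_subtype_norm hh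
            rw [hmap] at h2
            exact Subtype.ext (hJ _ h2)) (by
            intro h
            rw [Sylow.coe_subtype, mem_subgroupOf]
            exact hcl h) ⟨g, hg⟩
        exact congrArg Subtype.val h1
      -- the trace
      let _ : CommGroup ↥V := { (inferInstance : Group ↥V) with
        mul_comm := fun a b => Subtype.ext (hVc a a.2 b b.2) }
      let ρ : G →* MulAut ↥V := MulAut.conjNormal
      have hρ : ∀ (g : G) (v : ↥V), ((ρ g v : ↥V) : G) = g * v * g⁻¹ := fun g v => MulAut.conjNormal_apply g v
      let f : G ⧸ (S : Subgroup G) → ↥V := fun q => Quotient.liftOn' q (fun g => ⟨g * x * g⁻¹, hconjV g⟩) (by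
        intro a b hab
        rw [QuotientGroup.leftRel_apply] at hab
        apply Subtype.ext
        change a * x * a⁻¹ = b * x * b⁻¹
        have h1 := hSx _ hab
        have h2 : b * x * b⁻¹ = a * (a⁻¹ * b * x) * b⁻¹ := by group
        rw [h2, h1]
        group)
      have hf : ∀ g : G, ((f (QuotientGroup.mk g) : ↥V) : G) = g * x * g⁻¹ := fun g => rfl
      have hfeq : ∀ (g : G) (q : G ⧸ (S : Subgroup G)), f (g • q) = ρ g (f q) := by
        intro g q
        obtain ⟨a, rfl⟩ := QuotientGroup.mk_surjective q
        apply Subtype.ext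
        rw [hρ, hf]
        have : g • (QuotientGroup.mk a : G ⧸ (S : Subgroup G)) = QuotientGroup.mk (g * a) := rfl
        rw [this, hf]
        group
      let _ : Fintype (G ⧸ (S : Subgroup G)) := Fintype.ofFinite _
      have htrace : ∏ q, f q = (⟨x, hxV⟩ : ↥V) ^ Fintype.card (G ⧸ (S : Subgroup G)) := by
        refine OrbitTrace.prod_eq_pow hpp hp (R := ↥R) (hSp.to_le hRS) (ρ.comp R.subtype) f
          (fun r q => hfeq r q) {B | ∃ A ∈ D, B = A.subgroupOf R} ?_ ?_ ?_ ⟨x, hxV⟩ ?_ ?_
        · -- generation
          rw [eq_top_iff]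
          have h1 : R ≤ (sSup {B : Subgroup ↥R | ∃ A ∈ D, B = A.subgroupOf R}).map R.subtype := by
            conv_lhs => rw [hRdef]
            refine sSup_le fun A hA a ha => ?_
            have haR : a ∈ R := by rw [hRdef]; exact (le_sSup hA : A ≤ sSup D) ha
            refine ⟨⟨a, haR⟩, ?_, rfl⟩
            have h2 : A.subgroupOf R ≤ sSup {B : Subgroup ↥R | ∃ A ∈ D, B = A.subgroupOf R} :=
              le_sSup ⟨A, hA, rfl⟩
            exact h2 (mem_subgroupOf.2 ha)
          intro r _
          obtain ⟨s, hs, hsr⟩ := h1 r.2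
          have : s = r := Subtype.ext hsr
          rwa [← this]
        · rintro _ ⟨A, hA, rfl⟩ a ha b hb
          exact Subtype.ext (comm_of_mem_maxAb ((hDmem A).1 hA).1 (mem_subgroupOf.1 ha) (mem_subgroupOf.1 hb))
        · rintro _ ⟨A, hA, rfl⟩ a ha b hb q
          have h1 := ((hDmem A).1 hA).2 (f q : ↥V) (f q).2 a (mem_subgroupOf.1 ha) b (mem_subgroupOf.1 hb)
          apply Subtype.ext
          change ((ρ b (ρ a (f q) * (f q)⁻¹) : ↥V) : G) = ((ρ a (f q) * (f q)⁻¹ : ↥V) : G)
          rw [hρ]
          change (b : G) * (((ρ a (f q) : ↥V) : G) * ((f q : ↥V) : G)⁻¹) * (b : G)⁻¹ =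
            ((ρ a (f q) : ↥V) : G) * ((f q : ↥V) : G)⁻¹
          rw [hρ]
          exact h1
        · intro q
          obtain ⟨a, rfl⟩ := QuotientGroup.mk_surjective q
          apply Subtype.ext
          change (a * x * a⁻¹) ^ p = x ^ p
          rw [conj_pow, hxp a, mul_inv_cancel_right]
        · intro q hq
          obtain ⟨g, rfl⟩ := QuotientGroup.mk_surjective q
          apply Subtype.ext
          change g * x * g⁻¹ = x
          have h1 : ∀ r ∈ R, g⁻¹ * r * g ∈ (S : Subgroup G) := by
            intro r hr
            have h2 : (QuotientGroup.mk (r * g) : G ⧸ (S : Subgroup G)) = QuotientGroup.mk g := hq ⟨r, hr⟩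
            have h3 := QuotientGroup.eq.1 h2.symm
            rwa [← mul_assoc] at h3
          have h4 : g⁻¹ ∈ normalizer (R : Set G) := hRconj g⁻¹ (by
            intro r hr
            rw [inv_inv]
            exact h1 r hr)
          have h5 := hNR g (by rw [← inv_inv g]; exact inv_mem h4)
          rw [h5, mul_inv_cancel_right]
      -- the conclusion
      intro g
      have hinv : ρ g (∏ q, f q) = ∏ q, f q := by
        rw [map_prod]
        rw [← Equiv.prod_comp (MulAction.toPerm g : Equiv.Perm (G ⧸ (S : Subgroup G))) f]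
        refine Finset.prod_congr rfl fun q _ => ?_
        rw [MulAction.toPerm_apply, hfeq]
      rw [htrace] at hinv
      have hinv2 : g * x ^ Fintype.card (G ⧸ (S : Subgroup G)) * g⁻¹ = x ^ Fintype.card (G ⧸ (S : Subgroup G)) := by
        have h1 := congrArg (Subtype.val) hinv
        rw [hρ] at h1
        exact h1
      have hcop : (orderOf x).Coprime (Fintype.card (G ⧸ (S : Subgroup G))) := by
        obtain ⟨k, hk⟩ := IsPGroup.iff_orderOf.1 hSp ⟨x, hxS⟩
        rw [Subgroup.orderOf_mk] at hk
        rw [hk]
        apply Nat.Coprime.pow_left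
        rw [hpp.coprime_iff_not_dvd, ← Nat.card_eq_fintype_card]
        exact S.not_dvd_index
      obtain ⟨m, hm⟩ := exists_pow_eq_self_of_coprime hcop.symm
      have h1 : Commute g (x ^ Fintype.card (G ⧸ (S : Subgroup G))) := by
        rw [mul_inv_eq_iff_eq_mul] at hinv2
        exact hinv2
      have h2 := h1.pow_right m
      rw [hm] at h2
      exact h2.eq

end Cfsg.Agent.H28.WeakLocal
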