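import Mathlib
import Cfsg.Prelude.Def_PLocal
import Cfsg.Agent.PLocal.ThompsonJA
import Cfsg.Agent.PLocal.ConjFunctor
import Cfsg.Agent.H28.WeakLocal

/-!
# Glauberman's weak closure theorem, `p` odd (helper28)

* `canonical` : `w` a conjugation-equivariant choice of an element `w E ∈ E` of every Sylow `p`-subgroup `E`, commuting
  with `N_G(J(E))`; then `w E ∈ F` implies `w E = w F` (`p` odd);
* `weakly_closed` : `x ∈ S` commuting with `N_G(J(S))` is weakly closed in the Sylow `p`-subgroup `S` with respect to `G`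
  (`p` odd; `J(S)` generated by the abelian subgroups of largest order).
-/

set_option autoImplicit false

namespace Cfsg.Agent.H28.WeakClosure

open Subgroup Cfsg
open scoped commutatorElement Pointwise

universe u

variable {G : Type u} [Group G] {p : ℕ}

theorem exists_sylow_normalizer {T A : Subgroup G} (hA : IsPGroup p A) (hAT : A ≤ normalizer (T : Set G)) :
    ∃ Q : Sylow p ↥(normalizer (T : Set G)), A ≤ (Q : Subgroup _).map (normalizer (T : Set G)).subtype := by
  have h1 : IsPGroup p (A.subgroupOf (normalizer (T : Set G))) :=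
    hA.comap_of_injective _ (Subgroup.subtype_injective _)
  obtain ⟨Q, hQ⟩ := h1.exists_le_sylow
  refine ⟨Q, fun a ha => ⟨⟨a, hAT ha⟩, hQ (mem_subgroupOf.2 ha), rfl⟩⟩

theorem card_map_sylow [Finite G] [Fact p.Prime] {H : Subgroup G} (Q : Sylow p ↥H) :
    Nat.card ↥((Q : Subgroup ↥H).map H.subtype) = p ^ (Nat.card ↥H).factorization p := by
  rw [← Sylow.card_eq_multiplicity Q]
  exact (Nat.card_congr ((Q : Subgroup ↥H).equivMapOfInjective _ H.subtype_injective).toEquiv).symm

theorem map_sylow_isPGroup {H : Subgroup G} (Q : Sylow p ↥H) : IsPGroup p ↥((Q : Subgroup ↥H).map H.subtype) :=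
  Q.2.map _

theorem card_inf_lt [Finite G] {A B C : Subgroup G} (h : A < B) (h' : B ≤ C) : Nat.card ↥A < Nat.card ↥C := by
  apply Set.Finite.card_lt_card (Set.toFinite _)
  exact lt_of_lt_of_le h h'

theorem smul_eq_map (g : G) (E : Sylow p G) :
    ((g • E : Sylow p G) : Subgroup G) = (E : Subgroup G).map (MulAut.conj g).toMonoidHom := rfl

theorem mem_smul_iff {g y : G} {E : Sylow p G} : y ∈ ((g • E : Sylow p G) : Subgroup G) ↔ g⁻¹ * y * g ∈ (E : Subgroup G) := by
  rw [smul_eq_map]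
  constructor
  · rintro ⟨e, he, rfl⟩
    have h1 : g⁻¹ * (g * e * g⁻¹) * g = e := by group
    change g⁻¹ * (g * e * g⁻¹) * g ∈ (E : Subgroup G)
    rw [h1]
    exact he
  · intro h
    exact ⟨_, h, by simp [mul_assoc]⟩

section canonical

variable [Finite G] [Fact p.Prime] {w : Sylow p G → G} (hw : ∀ (g : G) (E : Sylow p G), w (g • E) = g * w E * g⁻¹)
  (hwE : ∀ E : Sylow p G, w E ∈ (E : Subgroup G))
  (hwJ : ∀ (E : Sylow p G), ∀ g ∈ normalizer (thompsonSubgroupAOf (E : Subgroup G) : Set G), g * w E = w E * g)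

/-- the triples -/
def Tri (w : Sylow p G → G) (T : Subgroup G) (F : Sylow p G) : Prop :=
  IsPGroup p ↥T ∧ (∃ Q : Sylow p ↥(normalizer (T : Set G)), (Q : Subgroup _).map (normalizer (T : Set G)).subtype ≤ F) ∧
    w F ∈ T ∧ ∃ n ∈ normalizer (T : Set G), n * w F ≠ w F * n

include hw hwE in
/-- a bad pair of Sylow subgroups gives a triple -/
theorem exists_tri (hbad : ∃ E F : Sylow p G, w E ∈ (F : Subgroup G) ∧ w E ≠ w F) (E₀ F₀ : Sylow p G)
    (h₀ : w E₀ ∈ (F₀ : Subgroup G)) (h₀' : w E₀ ≠ w F₀) :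
    ∃ T F, Tri w T F ∧ Nat.card ↥((E₀ : Subgroup G) ⊓ F₀ : Subgroup G) <
      p ^ (Nat.card ↥(normalizer (T : Set G))).factorization p := by
  obtain ⟨⟨E, F⟩, ⟨h1, h2⟩, hmax⟩ := Set.exists_max_image
    {P : Sylow p G × Sylow p G | w P.1 ∈ (P.2 : Subgroup G) ∧ w P.1 ≠ w P.2}
    (fun P => Nat.card ↥((P.1 : Subgroup G) ⊓ P.2 : Subgroup G)) (Set.toFinite _) (by
      obtain ⟨E, F, h1, h2⟩ := hbad
      exact ⟨(E, F), h1, h2⟩)
  have hEF : E ≠ F := by rintro rfl; exact h2 rfl
  obtain ⟨D, hD⟩ : ∃ D : Subgroup G, D = (E : Subgroup G) ⊓ F := ⟨_, rfl⟩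
  have hcard : Nat.card ↥(E : Subgroup G) = Nat.card ↥(F : Subgroup G) := by
    rw [Sylow.card_eq_multiplicity, Sylow.card_eq_multiplicity]
  have hDE : D < (E : Subgroup G) := by
    refine lt_of_le_of_ne (hD ▸ inf_le_left) fun h => hEF ?_
    have h3 : (E : Subgroup G) ≤ F := by rw [← h, hD]; exact inf_le_right
    exact Sylow.ext (Subgroup.eq_of_le_of_card_ge h3 hcard.ge)
  have hDF : D < (F : Subgroup G) := by
    refine lt_of_le_of_ne (hD ▸ inf_le_right) fun h => hEF ?_
    have h3 : (F : Subgroup G) ≤ E := by rw [← h, hD]; exact inf_le_left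
    exact (Sylow.ext (Subgroup.eq_of_le_of_card_ge h3 hcard.le)).symm
  have hmax' : ∀ A B : Sylow p G, Nat.card ↥D < Nat.card ↥((A : Subgroup G) ⊓ B : Subgroup G) → w A ∈ (B : Subgroup G) →
      w A = w B := by
    intro A B hlt hAB
    by_contra hne
    have h3 := hmax (A, B) ⟨hAB, hne⟩
    rw [hD] at hlt
    exact absurd h3 (not_le.2 hlt)
  have hxD : w E ∈ D := by rw [hD]; exact ⟨hwE E, h1⟩
  -- the first Sylow subgroup
  have hNE := Cfsg.Agent.PLocal.ConjFunctor.lt_inf_normalizer E.2 hDE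
  have hNF := Cfsg.Agent.PLocal.ConjFunctor.lt_inf_normalizer F.2 hDF
  obtain ⟨Q, hQ⟩ := exists_sylow_normalizer (T := D) (A := (E : Subgroup G) ⊓ normalizer (D : Set G))
    (E.2.to_le inf_le_left) inf_le_right
  obtain ⟨Q', hQ'⟩ := exists_sylow_normalizer (T := D) (A := (F : Subgroup G) ⊓ normalizer (D : Set G))
    (F.2.to_le inf_le_left) inf_le_right
  obtain ⟨F₁, hF₁⟩ := (map_sylow_isPGroup Q).exists_le_sylow
  have hwF₁ : w E = w F₁ := by
    refine hmax' E F₁ (card_inf_lt hNE (le_inf inf_le_left (hQ.trans hF₁))) ?_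
    exact hF₁ (hQ ⟨hwE E, Subgroup.le_normalizer hxD⟩)
  obtain ⟨n, hn⟩ := MulAction.exists_smul_eq ↥(normalizer (D : Set G)) Q Q'
  have hF₂ : (Q' : Subgroup _).map (normalizer (D : Set G)).subtype ≤ ((((n : G) • F₁ : Sylow p G)) : Subgroup G) := by
    rintro _ ⟨q, hq, rfl⟩
    rw [← hn] at hq
    have hq' : n⁻¹ * q * n ∈ (Q : Subgroup _) := mem_smul_iff.1 hq
    rw [mem_smul_iff]
    exact hF₁ ⟨n⁻¹ * q * n, hq', rfl⟩
  have hwF₂ : w ((n : G) • F₁) = w F := by
    refine hmax' _ F (card_inf_lt hNF (le_inf (hQ'.trans hF₂) inf_le_left)) ?_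
    rw [hw, ← hwF₁]
    have h3 : (n : G) * w E * (n : G)⁻¹ ∈ D := (mem_normalizer_iff.1 n.2 _).1 hxD
    exact hDF.le h3
  refine ⟨D, F₁, ⟨E.2.to_le hDE.le, ⟨Q, hF₁⟩, hwF₁ ▸ hxD, n, n.2, fun h => h2 ?_⟩, ?_⟩
  · rw [← hwF₂, hw, h, mul_inv_cancel_right, hwF₁]
  · rw [← card_map_sylow Q]
    refine lt_of_le_of_lt (hmax (E₀, F₀) ⟨h₀, h₀'⟩) ?_
    rw [← hD]
    exact card_inf_lt hNE hQ

include hw hwE hwJ in
/-- **Glauberman's weak closure theorem** (`p` odd), for a canonical choice of elements. -/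
theorem canonical (hp : p ≠ 2) (E F : Sylow p G) (h : w E ∈ (F : Subgroup G)) : w E = w F := by
  by_contra hne
  have hbad : ∃ E F : Sylow p G, w E ∈ (F : Subgroup G) ∧ w E ≠ w F := ⟨E, F, h, hne⟩
  obtain ⟨T₀, F₀, h₀, -⟩ := exists_tri hw hwE hbad E F h hne
  obtain ⟨⟨T, F⟩, hT, hmax⟩ := Set.exists_max_image
    {P : Subgroup G × Sylow p G | Tri w P.1 P.2}
    (fun P => p ^ (Nat.card ↥(normalizer (P.1 : Set G))).factorization p) (Set.toFinite _) ⟨(T₀, F₀), h₀⟩
  have hmax' : ∀ T' F', Tri w T' F' → p ^ (Nat.card ↥(normalizer (T' : Set G))).factorization p ≤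
      p ^ (Nat.card ↥(normalizer (T : Set G))).factorization p := fun T' F' h' => hmax (T', F') h'
  obtain ⟨hTp, ⟨Q, hQF⟩, hxT, n, hn, hnx⟩ := hT
  simp only at hQF hxT hnx hn hTp
  obtain ⟨P, hP⟩ : ∃ P : Subgroup G, P = (Q : Subgroup _).map (normalizer (T : Set G)).subtype := ⟨_, rfl⟩
  have hPp : IsPGroup p ↥P := by rw [hP]; exact map_sylow_isPGroup Q
  have hPcard : Nat.card ↥P = p ^ (Nat.card ↥(normalizer (T : Set G))).factorization p := by
    rw [hP]; exact card_map_sylow Q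
  have hPF : P ≤ (F : Subgroup G) := by rw [hP]; exact hQF
  have hPT : P ≤ normalizer (T : Set G) := by rw [hP]; exact Subgroup.map_subtype_le _
  have hwFcent : ∀ s ∈ (F : Subgroup G), s * w F = w F * s := fun s hs =>
    hwJ F s (Cfsg.Agent.PLocal.ThompsonJA.normalizer_le_normalizer_thompsonSubgroupAOf _ (Subgroup.le_normalizer hs))
  -- `T ≤ P`
  have hTP : T ≤ P := by
    have h1 : (T.subgroupOf (normalizer (T : Set G))).Normal := by infer_instance
    have h2 : IsPGroup p ↥(T.subgroupOf (normalizer (T : Set G))) :=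
      hTp.comap_of_injective _ (Subgroup.subtype_injective _)
    have h3 : T.subgroupOf (normalizer (T : Set G)) ≤ (Q : Subgroup _) := by
      obtain ⟨Q', hQ'⟩ := h2.exists_le_sylow
      obtain ⟨m, hm⟩ := MulAction.exists_smul_eq ↥(normalizer (T : Set G)) Q' Q
      intro t ht
      rw [← hm, mem_smul_iff]
      apply hQ'
      have := h1.conj_mem t ht m⁻¹
      rwa [inv_inv] at this
    intro t ht
    rw [hP]
    exact ⟨⟨t, Subgroup.le_normalizer ht⟩, h3 (mem_subgroupOf.2 ht), rfl⟩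
  -- `N_{N(T)}(J(P))` centralizes `w F`
  have hkey : ∀ g ∈ normalizer (thompsonSubgroupAOf P : Set G), g * w F = w F * g := by
    rcases eq_or_lt_of_le hPF with heq | hlt
    · intro g hg
      rw [heq] at hg
      exact hwJ F g hg
    · have hlt2 := Cfsg.Agent.PLocal.ConjFunctor.lt_inf_normalizer F.2 hlt
      have hle : (F : Subgroup G) ⊓ normalizer (P : Set G) ≤ normalizer (thompsonSubgroupAOf P : Set G) :=
        inf_le_right.trans (Cfsg.Agent.PLocal.ThompsonJA.normalizer_le_normalizer_thompsonSubgroupAOf _)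
      obtain ⟨Q₁, hQ₁⟩ := exists_sylow_normalizer (T := thompsonSubgroupAOf P) (F.2.to_le inf_le_left) hle
      obtain ⟨F₁, hF₁⟩ := (map_sylow_isPGroup Q₁).exists_le_sylow
      have hxJ : w F ∈ thompsonSubgroupAOf P := by
        have h1 : w F ∈ P ⊓ centralizer (P : Set G) :=
          ⟨hTP hxT, mem_centralizer_iff.2 fun s hs => hwFcent s (hPF hs)⟩
        exact Cfsg.Agent.PLocal.ThompsonJA.centerThompsonAOf_le_thompsonSubgroupAOf P
          (Cfsg.Agent.PLocal.ThompsonJA.inf_centralizer_le_centerThompsonAOf P h1)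
      have hbig : p ^ (Nat.card ↥(normalizer (T : Set G))).factorization p <
          p ^ (Nat.card ↥(normalizer (thompsonSubgroupAOf P : Set G))).factorization p := by
        rw [← hPcard, ← card_map_sylow Q₁]
        exact card_inf_lt hlt2 hQ₁
      have hwF₁ : w F = w F₁ := by
        by_contra hne1
        have h1 : w F ∈ (F₁ : Subgroup G) := hF₁ (hQ₁ ⟨hwE F, Subgroup.le_normalizer (hTP hxT)⟩)
        obtain ⟨T', F', h2, h3⟩ := exists_tri hw hwE hbad F F₁ h1 hne1
        have h4 := hmax' T' F' h2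
        have h5 : Nat.card ↥P < Nat.card ↥((F : Subgroup G) ⊓ F₁ : Subgroup G) :=
          card_inf_lt hlt2 (le_inf inf_le_left (hQ₁.trans hF₁))
        rw [hPcard] at h5
        omega
      intro g hg
      by_contra hgx
      have h1 : Tri w (thompsonSubgroupAOf P) F₁ := by
        refine ⟨hPp.to_le (Cfsg.Agent.PLocal.ThompsonJA.thompsonSubgroupAOf_le P), ⟨Q₁, hF₁⟩, hwF₁ ▸ hxJ, g, hg, ?_⟩
        rw [← hwF₁]
        exact hgx
      exact absurd (hmax' _ _ h1) (not_le.2 hbig)
  -- the local theorem in `N(T)`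
  apply hnx
  have hmapQ : (Q : Subgroup _).map (normalizer (T : Set G)).subtype = P := hP.symm
  have h1 := WeakLocal.local_central hp _ ↥(normalizer (T : Set G)) Q ⟨w F, Subgroup.le_normalizer hxT⟩ le_rfl (by
      obtain ⟨q, hq, hqx⟩ := (hmapQ ▸ hTP hxT : w F ∈ (Q : Subgroup _).map (normalizer (T : Set G)).subtype)
      have : q = ⟨w F, Subgroup.le_normalizer hxT⟩ := Subtype.ext hqx
      rwa [← this]) (by
      intro g hg
      have h2 := WeakLocal.map_subtype_norm hg
      rw [hmapQ] at h2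
      exact Subtype.ext (hkey _ h2)) (by
      intro g
      have h2 : (g : G) * w F * (g : G)⁻¹ ∈ T := (mem_normalizer_iff.1 g.2 _).1 hxT
      obtain ⟨q, hq, hqx⟩ := (hmapQ ▸ hTP h2 : (g : G) * w F * (g : G)⁻¹ ∈
        (Q : Subgroup _).map (normalizer (T : Set G)).subtype)
      have : q = g * ⟨w F, Subgroup.le_normalizer hxT⟩ * g⁻¹ := Subtype.ext hqx
      rwa [← this]) ⟨n, hn⟩
  exact congrArg Subtype.val h1

end canonical

/-- **Glauberman's weak closure theorem**, `p` odd: an element `x` of the Sylow `p`-subgroup `S` which commutes with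
`N_G(J(S))` is weakly closed in `S` with respect to `G`. -/
theorem weakly_closed [Finite G] [Fact p.Prime] (hp : p ≠ 2) (S : Sylow p G) (x : G) (hxS : x ∈ (S : Subgroup G))
    (hx : ∀ g ∈ normalizer (thompsonSubgroupAOf (S : Subgroup G) : Set G), g * x = x * g) (g : G)
    (hg : g * x * g⁻¹ ∈ (S : Subgroup G)) : g * x * g⁻¹ = x := by
  classical
  have hNS : ∀ a : G, a • S = S → a * x = x * a := by
    intro a ha
    apply hx
    apply Cfsg.Agent.PLocal.ThompsonJA.normalizer_le_normalizer_thompsonSubgroupAOf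
    exact Sylow.smul_eq_iff_mem_normalizer.1 ha
  choose c hc using fun E : Sylow p G => MulAction.exists_smul_eq G S E
  let w : Sylow p G → G := fun E => c E * x * (c E)⁻¹
  have hwd : ∀ (a : G), w (a • S) = a * x * a⁻¹ := by
    intro a
    have h1 : (a⁻¹ * c (a • S)) • S = S := by
      rw [mul_smul, hc, inv_smul_smul]
    have h2 := hNS _ h1
    change c (a • S) * x * (c (a • S))⁻¹ = a * x * a⁻¹
    have h3 : c (a • S) * x * (c (a • S))⁻¹ = a * (a⁻¹ * c (a • S) * x) * (c (a • S))⁻¹ := by group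
    rw [h3, h2]
    group
  have hw : ∀ (a : G) (E : Sylow p G), w (a • E) = a * w E * a⁻¹ := by
    intro a E
    have h1 : w E = c E * x * (c E)⁻¹ := rfl
    rw [h1]
    conv_lhs => rw [← hc E]
    rw [← mul_smul, hwd]
    group
  have hwE : ∀ E : Sylow p G, w E ∈ (E : Subgroup G) := by
    intro E
    have h1 : w E = c E * x * (c E)⁻¹ := rfl
    rw [h1]
    have h2 : c E * x * (c E)⁻¹ ∈ ((c E • S : Sylow p G) : Subgroup G) := by
      rw [mem_smul_iff]
      have : (c E)⁻¹ * (c E * x * (c E)⁻¹) * c E = x := by group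
      rwa [this]
    rwa [hc E] at h2
  have hwJ : ∀ (E : Sylow p G), ∀ a ∈ normalizer (thompsonSubgroupAOf (E : Subgroup G) : Set G),
      a * w E = w E * a := by
    intro E a ha
    have h1 : w E = c E * x * (c E)⁻¹ := rfl
    have h2 : (c E)⁻¹ * a * c E ∈ normalizer (thompsonSubgroupAOf (S : Subgroup G) : Set G) := by
      rw [Cfsg.Agent.PLocal.ZJ.mem_normalizer_iff_map_conj] at ha ⊢
      have h3 : (thompsonSubgroupAOf (E : Subgroup G)) =
          (thompsonSubgroupAOf (S : Subgroup G)).map (MulAut.conj (c E)).toMonoidHom := by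
        rw [Cfsg.Agent.PLocal.ThompsonJA.map_thompsonSubgroupAOf _ (MulAut.conj (c E)).injective, ← smul_eq_map, hc E]
      rw [h3] at ha
      have h4 := congrArg (fun K : Subgroup G => K.map (MulAut.conj (c E)⁻¹).toMonoidHom) ha
      simp only [Subgroup.map_map] at h4
      have h5 : ((MulAut.conj (c E)⁻¹).toMonoidHom.comp (MulAut.conj (c E)).toMonoidHom) = MonoidHom.id G := by
        ext y; simp [mul_assoc]
      rw [h5, Subgroup.map_id] at h4
      convert h4 using 2
      ext y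
      simp [mul_assoc]
    have h3 := hx _ h2
    rw [h1]
    have h4 : a * (c E * x * (c E)⁻¹) = c E * ((c E)⁻¹ * a * c E * x) * (c E)⁻¹ := by group
    rw [h4, h3]
    group
  have h1 := hwd g
  have h2 := hwd 1
  rw [one_smul, one_mul, inv_one, mul_one] at h2
  have h3 := canonical hw hwE hwJ hp (g • S) S (by rw [h1]; exact hg)
  rw [h1, h2] at h3
  exact h3

end Cfsg.Agent.H28.WeakClosure
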