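import Cfsg.Agent.H256.ZTool
import Cfsg.Agent.H28.WeakClosure

/-!
# Minimal counterexamples to the `Z*_p` statement: further tools (helper28)

* `isolated_mul` : the product of two isolated elements of a Sylow `p`-subgroup (`p` odd) is isolated;
* `Small p G` : the `Z*_p` statement holds in all smaller groups; `RowS p L`, `of_minS` : the rows and the reduction to
  the rows with this additional hypothesis; `MinCex.centralizes_perfect` : `x` centralises the perfect subgroups `K`
  normalised by `x`, `K⟨x⟩ ≠ G`, whose normal `p'`-subgroups are central;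
* `false_of_aut` (T6) : no automorphism `α` of `G` satisfies `α x = s x`, `1 ≠ s ∈ G'`, `s x = x s`, if `x ∉ G'`;
* `LangAt p X` : for the automorphism `X` of `L`: `X ∘ conj s` is conjugate to `X` in `Aut(L)` for every fixed point `s` of
  `X` of order `p`; `rowS_of_lang` : `RowS p L` when no element of `L` is a minimal counterexample and the automorphisms
  of order `p` which are not inner satisfy `LangAt`.
-/

set_option autoImplicit false

namespace Cfsg.Agent.H28.ZIso

open Subgroup Cfsg Cfsg.Agent.H256.ZBasic Cfsg.Agent.H256.ZRed Cfsg.Agent.H256.ZTool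

universe u v

section Mul

variable {G : Type u} [Group G] [Finite G] {p : ℕ} [hp : Fact p.Prime]

/-- An isolated element of `S` is centralised by `N(J(S))`. -/
theorem comm_normalizer {x : G} (hiso : IsIsolated x) (S : Sylow p G) (hxS : x ∈ (S : Subgroup G)) :
    ∀ g ∈ normalizer (thompsonSubgroupAOf (S : Subgroup G) : Set G), g * x = x * g := by
  have hxJ : x ∈ thompsonSubgroupAOf (S : Subgroup G) := by
    apply PLocal.ThompsonJA.centerThompsonAOf_le_thompsonSubgroupAOf
    rw [← PLocal.ThompsonJA.inf_centralizer_thompsonSubgroupAOf_eq]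
    refine mem_inf.2 ⟨hxS, mem_centralizer_iff.2 fun y hy => ?_⟩
    exact (comm_of_mem hiso S.isPGroup' hxS (PLocal.ThompsonJA.thompsonSubgroupAOf_le _ hy)).symm
  intro g hg
  have h1 : g * x * g⁻¹ ∈ thompsonSubgroupAOf (S : Subgroup G) := (mem_normalizer_iff.1 hg x).1 hxJ
  have h2 := eq_of_mem hiso S.isPGroup' hxS (PLocal.ThompsonJA.thompsonSubgroupAOf_le _ h1)
  calc g * x = (g * x * g⁻¹) * g := by group
    _ = x * g := by rw [h2]

/-- The product of two isolated elements of the Sylow `p`-subgroup `S`, `p` odd, is isolated. -/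
theorem isolated_mul (hp2 : p ≠ 2) {x y : G} (hx : IsIsolated x) (hy : IsIsolated y) (S : Sylow p G)
    (hxS : x ∈ (S : Subgroup G)) (hyS : y ∈ (S : Subgroup G)) : IsIsolated (x * y) := by
  have h1 := comm_normalizer hx S hxS
  have h2 := comm_normalizer hy S hyS
  refine isolated_of_sylow S (mul_mem hxS hyS) fun g hg => ?_
  refine WeakClosure.weakly_closed hp2 S (x * y) (mul_mem hxS hyS) (fun n hn => ?_) g hg
  rw [← mul_assoc, h1 n hn, mul_assoc, h2 n hn, mul_assoc]

theorem isolated_inv {G : Type*} [Group G] {x : G} (hx : IsIsolated x) : IsIsolated x⁻¹ := by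
  intro g hc
  have h1 : Commute x (g * x * g⁻¹) := by
    have h2 : g * x⁻¹ * g⁻¹ = (g * x * g⁻¹)⁻¹ := by group
    rw [h2] at hc
    have := hc.inv_inv
    rwa [inv_inv, inv_inv] at this
  have h2 := hx g h1
  calc g * x⁻¹ * g⁻¹ = (g * x * g⁻¹)⁻¹ := by group
    _ = x⁻¹ := by rw [h2]

end Mul

/-! ### smaller groups -/

/-- The `Z*_p` statement for elements of order `p` holds in all groups smaller than `G`. -/
def Small (p : ℕ) (G : Type u) [Group G] : Prop :=
  ∀ {H : Type u} [Group H] [Finite H], Nat.card H < Nat.card G → ∀ y : H, orderOf y = p → IsIsolated y →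
    InZStar p y

/-- The row of `L`, with the `Z*_p` statement for smaller groups. -/
def RowS (p : ℕ) (L : Type v) [Group L] : Prop :=
  ∀ {G : Type u} [Group G] [Finite G] (x : G), MinCex p x → Small p G → (commutator G ≃* L) → False

theorem RowS.of_row {p : ℕ} {L : Type v} [Group L] (h : Row.{u} p L) : RowS.{u} p L :=
  fun x hx _ e => h x hx e

theorem RowS.congr {p : ℕ} {L : Type v} [Group L] {K : Type*} [Group K] (e : K ≃* L) (h : RowS.{u} p L) :
    RowS.{u} p K := fun x hx hs f => h x hx hs (f.trans e)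

/-- If there are no minimal counterexamples for which the statement holds in all smaller groups, there are no
counterexamples of order `p`. -/
theorem of_minS (p : ℕ) [hp : Fact p.Prime]
    (H : ∀ {G : Type u} [Group G] [Finite G] (x : G), MinCex p x → Small p G → False) :
    ∀ (n : ℕ) {G : Type u} [Group G] [Finite G] (x : G), Nat.card G = n → orderOf x = p →
      IsIsolated x → InZStar p x := by
  intro n
  induction n using Nat.strong_induction_on with
  | _ n ih =>
    intro G _ _ x hn hx hiso
    by_contra hnz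
    refine H x ⟨hx, hiso, hnz, ?_, ?_⟩ ?_
    · intro K hxK hK
      refine ih (Nat.card K) ?_ _ rfl ?_ (isolated_subgroup hiso hxK)
      · rw [← hn]
        refine lt_of_le_of_ne (Nat.card_le_card_of_injective K.subtype K.subtype_injective) ?_
        intro he
        exact hK (K.eq_top_of_card_eq he)
      · rw [← hx]
        exact (orderOf_injective K.subtype K.subtype_injective ⟨x, hxK⟩).symm
    · intro N _ hN
      have hiso' := isolated_quotient hiso ⟨1, by rw [hx, pow_one]⟩ N
      have h1 : orderOf (QuotientGroup.mk x : G ⧸ N) ∣ p := by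
        rw [← hx]
        exact orderOf_map_dvd (QuotientGroup.mk' N) x
      rcases (Nat.dvd_prime hp.out).1 h1 with h2 | h2
      · rw [orderOf_eq_one_iff] at h2
        rw [h2]
        exact inZStar_one p
      · refine ih (Nat.card (G ⧸ N)) ?_ _ rfl h2 hiso'
        rw [← hn, N.card_eq_card_quotient_mul_card_subgroup]
        have h3 : 1 < Nat.card N := (one_lt_card_iff_ne_bot N).2 hN
        have h4 : 0 < Nat.card (G ⧸ N) := Nat.card_pos
        exact lt_mul_of_one_lt_right h4 h3
    · intro K _ _ hK y hy hyiso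
      exact ih (Nat.card K) (by rwa [hn] at hK) y rfl hy hyiso

variable {G : Type u} [Group G] [Finite G] {p : ℕ} [hp : Fact p.Prime] {x : G}

/-! ### perfect subgroups -/

/-- `x` centralises every perfect subgroup `K` normalised by `x` with `K⟨x⟩ ≠ G` whose normal `p'`-subgroups are
central. -/
theorem centralizes_perfect {G : Type u} [Group G] [Finite G] {p : ℕ} {x : G} (h : MinCex p x) {K : Subgroup G} (hx : ∀ k ∈ K, x * k * x⁻¹ ∈ K)
    (hne : K ⊔ zpowers x ≠ ⊤) (hperf : ⁅K, K⁆ = K)
    (hcore : ∀ E : Subgroup G, E ≤ K → (∀ k ∈ K, ∀ e ∈ E, k * e * k⁻¹ ∈ E) → (Nat.card E).Coprime p →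
      ∀ k ∈ K, ∀ e ∈ E, k * e = e * k) : ∀ k ∈ K, k * x = x * k := by
  set H := K ⊔ zpowers x with hH
  have hxH : x ∈ H := mem_sup_right (mem_zpowers x)
  have hKH : K ≤ H := le_sup_left
  -- `E = O_{p'}(H) ∩ K`
  set E : Subgroup G := (pPrimeCore p H).map H.subtype ⊓ K with hE
  have hcard : (Nat.card E).Coprime p := by
    have h1 : Nat.card E ∣ Nat.card ((pPrimeCore p H).map H.subtype : Subgroup G) := card_dvd_of_le inf_le_left
    rw [← Nat.card_congr ((pPrimeCore p H).equivMapOfInjective H.subtype H.subtype_injective).toEquiv] at h1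
    exact Nat.Coprime.coprime_dvd_left h1 (Lib.Cores.pPrimeCore_coprime p)
  have hnorm : ∀ k ∈ K, ∀ e ∈ E, k * e * k⁻¹ ∈ E := by
    intro k hk e he
    refine mem_inf.2 ⟨?_, K.mul_mem (K.mul_mem hk he.2) (K.inv_mem hk)⟩
    obtain ⟨z, hz, hze⟩ := he.1
    refine ⟨⟨k, hKH hk⟩ * z * ⟨k, hKH hk⟩⁻¹, (Lib.Cores.pPrimeCore_normal p).conj_mem z hz _, ?_⟩
    simp only [map_mul, map_inv, hze]
    rfl
  have hcen := hcore E inf_le_right hnorm hcard
  have hcomm : ∀ k ∈ K, k * x * k⁻¹ * x⁻¹ ∈ E := by
    intro k hk
    refine mem_inf.2 ⟨h.comm_mem hxH hne (hKH hk), ?_⟩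
    have h1 : k * x * k⁻¹ * x⁻¹ = k * (x * k⁻¹ * x⁻¹) := by group
    rw [h1]
    exact mul_mem hk (hx _ (inv_mem hk))
  -- `k ↦ [k, x]` is a homomorphism to the centre
  set φ : K →* G :=
    { toFun := fun k => (k : G) * x * (k : G)⁻¹ * x⁻¹
      map_one' := by simp
      map_mul' := fun a b => by
        have h1 := hcen a a.2 _ (hcomm b b.2)
        simp only [coe_mul]
        calc (a : G) * b * x * ((a : G) * b)⁻¹ * x⁻¹
            = a * ((b : G) * x * (b : G)⁻¹ * x⁻¹) * (x * (a : G)⁻¹ * x⁻¹) := by group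
          _ = ((b : G) * x * (b : G)⁻¹ * x⁻¹) * a * (x * (a : G)⁻¹ * x⁻¹) := by rw [h1]
          _ = ((b : G) * x * (b : G)⁻¹ * x⁻¹) * ((a : G) * x * (a : G)⁻¹ * x⁻¹) := by group
          _ = ((a : G) * x * (a : G)⁻¹ * x⁻¹) * ((b : G) * x * (b : G)⁻¹ * x⁻¹) :=
              (hcen _ (hcomm a a.2).2 _ (hcomm b b.2)).symm ▸ rfl } with hφ
  have hker : φ.ker = ⊤ := by
    have h1 : commutator K ≤ φ.ker := by
      rw [_root_.commutator_def, commutator_le]
      intro a _ b _
      rw [MonoidHom.mem_ker, map_commutatorElement, commutatorElement_eq_one_iff_mul_comm]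
      exact hcen _ (hcomm a a.2).2 _ (hcomm b b.2)
    have h2 : commutator K = ⊤ := by
      apply map_injective K.subtype_injective
      rw [_root_.commutator_def, map_commutator, ← MonoidHom.range_eq_map, range_subtype, hperf]
    rw [eq_top_iff, ← h2]
    exact h1
  intro k hk
  have h1 : (⟨k, hk⟩ : K) ∈ φ.ker := by rw [hker]; trivial
  have h2 : k * x * k⁻¹ * x⁻¹ = 1 := h1
  calc k * x = (k * x * k⁻¹ * x⁻¹) * (x * k) := by group
    _ = x * k := by rw [h2, one_mul]

/-! ### (T6) -/

theorem pPrimeCore_eq_bot_of_simple {L : Type*} [Group L] [Finite L] [IsSimpleGroup L] (hd : p ∣ Nat.card L) :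
    pPrimeCore p L = ⊥ := by
  rcases (Lib.Cores.pPrimeCore_normal (G := L) p).eq_bot_or_eq_top with h1 | h1
  · exact h1
  · exfalso
    have h2 := Lib.Cores.pPrimeCore_coprime (G := L) p
    rw [h1, card_top] at h2
    exact (Nat.Prime.coprime_iff_not_dvd hp.out).1 h2.symm hd

/-- No isolated elements of order `p` in `G'` if `G' ≠ G`. -/
theorem not_isolated (h : MinCex p x) (hs : Small p G) (hx : x ∉ commutator G) {y : G} (hy : y ∈ commutator G)
    (hyp : orderOf y = p) : ¬ IsIsolated y := by
  intro hiso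
  have hsim := h.simple
  have hyo : orderOf (⟨y, hy⟩ : commutator G) = p := by
    rw [← hyp]
    exact (orderOf_injective (commutator G).subtype (subtype_injective _) ⟨y, hy⟩).symm
  have hcard : Nat.card (commutator G) < Nat.card G := by
    refine lt_of_le_of_ne (Nat.card_le_card_of_injective _ (commutator G).subtype_injective) ?_
    intro he
    apply hx
    rw [(commutator G).eq_top_of_card_eq he]
    trivial
  have h1 := hs hcard ⟨y, hy⟩ hyo (isolated_subgroup hiso hy)
  have hd : p ∣ Nat.card (commutator G) := by rw [← hyo]; exact orderOf_dvd_natCard _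
  have h2 := central_of_inZStar (pPrimeCore_eq_bot_of_simple hd) h1
  have h3 : (⟨y, hy⟩ : commutator G) ∈ center (commutator G) := mem_center_iff.2 h2
  have h4 : y ∈ centralizer (commutator G : Set G) := by
    rw [mem_centralizer_iff]
    intro z hz
    exact congrArg Subtype.val (h2 ⟨z, hz⟩)
  rw [h.centralizer_eq_bot, mem_bot] at h4
  rw [h4, orderOf_one] at hyp
  exact hp.out.one_lt.ne hyp

/-- (T6) If `x ∉ G'`, no automorphism `α` of `G` satisfies `α x = s x` with `1 ≠ s ∈ G'` commuting with `x`. -/
theorem false_of_aut (hp2 : p ≠ 2) (h : MinCex p x) (hs : Small p G) (hx : x ∉ commutator G) (α : MulAut G)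
    {s : G} (hsG : s ∈ commutator G) (hs1 : s ≠ 1) (hc : s * x = x * s) (hα : α x = s * x) : False := by
  have hxiso := h.iso
  have hyiso : IsIsolated (s * x) := by
    rw [← hα]
    exact isolated_map α hxiso
  have hcx : Commute s x := hc
  have hyo : orderOf (s * x) = p := by rw [← hα, MulEquiv.orderOf_eq, h.ord]
  have hsp : s ^ p = 1 := by
    have h1 : (s * x) ^ p = 1 := by rw [← hyo, pow_orderOf_eq_one]
    have h2 : x ^ p = 1 := by rw [← h.ord, pow_orderOf_eq_one]
    rw [hcx.mul_pow, h2, mul_one] at h1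
    exact h1
  have hso : orderOf s = p := orderOf_eq_prime hsp hs1
  -- a Sylow subgroup containing `x` and `s x`
  have hxk : IsPGroup p (zpowers x) := IsPGroup.of_card (n := 1) (by rw [Nat.card_zpowers, h.ord, pow_one])
  have hsk : IsPGroup p (zpowers s) := IsPGroup.of_card (n := 1) (by rw [Nat.card_zpowers, hso, pow_one])
  have hle : zpowers s ≤ normalizer (zpowers x : Set G) := by
    rw [zpowers_le, mem_normalizer_iff]
    have h3 : ∀ z, z ∈ zpowers x → s * z = z * s := by
      rintro _ ⟨j, rfl⟩
      exact (hcx.zpow_right j)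
    intro z
    constructor
    · intro hz
      rw [h3 z hz, mul_inv_cancel_right]
      exact hz
    · intro hz
      have h4 := h3 _ hz
      have h5 : s * z * s⁻¹ = z := by
        have h6 : s * (s * z * s⁻¹) * s⁻¹ = s * z * s⁻¹ := by rw [h4]; group
        exact mul_left_cancel (mul_right_cancel h6)
      rwa [h5] at hz
  have h3 : IsPGroup p (zpowers x ⊔ zpowers s : Subgroup G) := by
    rw [sup_comm]
    exact IsPGroup.to_sup_of_normal_right' hsk hxk hle
  obtain ⟨S, hS⟩ := h3.exists_le_sylow
  have hxS : x ∈ (S : Subgroup G) := hS (mem_sup_left (mem_zpowers x))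
  have hsS : s ∈ (S : Subgroup G) := hS (mem_sup_right (mem_zpowers s))
  have h4 := isolated_mul hp2 hyiso (isolated_inv hxiso) S (mul_mem hsS hxS) (inv_mem hxS)
  rw [mul_inv_cancel_right] at h4
  exact not_isolated h hs hx hsG hso h4

/-- Some element of order `p` of `G'` commutes with `x`. -/
theorem exists_comm_order (h : MinCex p x) : ∃ s ∈ commutator G, orderOf s = p ∧ s * x = x * s := by
  obtain ⟨y, hyD, hy⟩ := exists_orderOf_eq h.core (inferInstance : (commutator G).Normal).isSubnormal
    h.commutator_ne_bot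
  obtain ⟨g, hg⟩ := exists_conj_centralizes (p := p) h.iso h.pord (Q := zpowers y)
    (IsPGroup.of_card (n := 1) (by rw [Nat.card_zpowers, hy, pow_one]))
  have h1 := hg y (mem_zpowers y)
  refine ⟨g⁻¹ * y * g, ?_, ?_, ?_⟩
  · have := (inferInstance : (commutator G).Normal).conj_mem y hyD g⁻¹
    rwa [inv_inv] at this
  · rw [← hy]
    have := orderOf_conj' g⁻¹ y
    rwa [inv_inv] at this
  · calc g⁻¹ * y * g * x = g⁻¹ * (y * (g * x * g⁻¹)) * g := by group
      _ = g⁻¹ * (g * x * g⁻¹ * y) * g := by rw [h1]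
      _ = x * (g⁻¹ * y * g) := by group

/-- The action of `G` on `G'`. -/
theorem conjNormal_injective (h : MinCex p x) :
    Function.Injective (MulAut.conjNormal : G →* MulAut (commutator G)) := by
  rw [injective_iff_map_eq_one]
  intro g hg
  have h1 : g ∈ centralizer (commutator G : Set G) := by
    rw [mem_centralizer_iff]
    intro y hy
    have h2 : ((MulAut.conjNormal g (⟨y, hy⟩ : commutator G) : commutator G) : G) = y := by
      rw [hg]; rfl
    rw [MulAut.conjNormal_apply] at h2
    have h3 : g * y * g⁻¹ = y := h2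
    calc y * g = (g * y * g⁻¹) * g := by rw [h3]
      _ = g * y := by group
  rw [h.centralizer_eq_bot, mem_bot] at h1
  exact h1

/-- An automorphism `δ` of `G'` with `δ X δ⁻¹ = conj s ∘ X`, `X` the action of `x`, extends to `G`. -/
theorem exists_aut (h : MinCex p x) (δ : MulAut (commutator G)) (s : commutator G)
    (hδ : δ * MulAut.conjNormal x * δ⁻¹ = MulAut.conj s * MulAut.conjNormal x) :
    ∃ α : MulAut G, α x = s * x := by
  set ρ : G →* MulAut (commutator G) := MulAut.conjNormal with hρ
  have hinj : Function.Injective ρ := conjNormal_injective h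
  have hin : ∀ g : commutator G, ρ (g : G) = MulAut.conj g := by
    intro g
    ext y
    rw [hρ, MulAut.conjNormal_apply, MulAut.conj_apply]
    rfl
  have hgen : ∀ g : G, δ * ρ g * δ⁻¹ ∈ ρ.range := by
    have h1 : (⊤ : Subgroup G) ≤ (ρ.range.comap (MulAut.conj δ).toMonoidHom).comap ρ := by
      rw [← h.sup_commutator, sup_le_iff, zpowers_le]
      constructor
      · intro g hg
        rw [mem_comap, mem_comap]
        refine ⟨((δ ⟨g, hg⟩ : commutator G) : G), ?_⟩
        have h2 := hin ⟨g, hg⟩
        rw [hin]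
        change MulAut.conj (δ ⟨g, hg⟩) = δ * ρ g * δ⁻¹
        rw [show ρ g = ρ ((⟨g, hg⟩ : commutator G) : G) from rfl, h2]
        ext y
        simp only [MulAut.mul_apply, MulAut.conj_apply, map_mul, map_inv, MulAut.apply_inv_self]
      · rw [mem_comap, mem_comap]
        change δ * ρ x * δ⁻¹ ∈ ρ.range
        rw [hδ, ← hin]
        exact mul_mem ⟨_, rfl⟩ ⟨_, rfl⟩
    exact fun g => h1 (mem_top g)
  have hmap : ρ.range.map (MulAut.conj δ).toMonoidHom = ρ.range := by
    apply Subgroup.eq_of_le_of_card_ge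
    · rintro _ ⟨_, ⟨g, rfl⟩, rfl⟩
      exact hgen g
    · rw [Nat.card_congr (ρ.range.equivMapOfInjective _ (MulAut.conj δ).injective).symm.toEquiv]
  set f : G ≃* ρ.range := MonoidHom.ofInjective hinj with hf
  set α : G ≃* G := f.trans (((ρ.range.equivMapOfInjective (MulAut.conj δ).toMonoidHom
    (MulAut.conj δ).injective).trans (MulEquiv.subgroupCongr hmap)).trans f.symm) with hα
  refine ⟨α, ?_⟩
  apply f.injective
  rw [hα]
  simp only [MulEquiv.trans_apply, MulEquiv.apply_symm_apply]
  apply Subtype.ext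
  have h2 : ((f ((s : G) * x) : ρ.range) : MulAut (commutator G)) = ρ (s * x) := rfl
  rw [h2, map_mul, hin, ← hδ]
  rfl

/-- `X ∘ conj s` is conjugate to `X` in `Aut(L)` for every fixed point `s` of `X` of order `p`. -/
def LangAt (p : ℕ) {L : Type v} [Group L] (X : MulAut L) : Prop :=
  ∀ s : L, orderOf s = p → X s = s → ∃ δ : MulAut L, δ * X * δ⁻¹ = MulAut.conj s * X

/-- (T6) for the automorphism induced by `x`. -/
theorem false_of_lang (hp2 : p ≠ 2) (h : MinCex p x) (hs : Small p G) (hx : x ∉ commutator G)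
    (hL : LangAt p (MulAut.conjNormal x : MulAut (commutator G))) : False := by
  obtain ⟨s, hsG, hso, hsx⟩ := exists_comm_order h
  obtain ⟨δ, hδ⟩ := hL ⟨s, hsG⟩
    ((orderOf_injective (commutator G).subtype (subtype_injective _) ⟨s, hsG⟩).symm.trans hso) (by
      apply Subtype.ext
      rw [MulAut.conjNormal_apply]
      change x * s * x⁻¹ = s
      rw [← hsx, mul_inv_cancel_right])
  obtain ⟨α, hα⟩ := exists_aut h δ ⟨s, hsG⟩ hδ
  refine false_of_aut hp2 h hs hx α hsG ?_ hsx hα
  rintro rfl
  rw [orderOf_one] at hso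
  exact hp.out.one_lt.ne hso

omit [Finite G] in
/-- The automorphism of `L ≅ G'` induced by `x`. -/
theorem exists_induced {L : Type v} [Group L] (e : commutator G ≃* L) :
    ∃ X : MulAut L, X = MulAut.congr e (MulAut.conjNormal x) ∧
      ∀ y : commutator G, ((e.symm (X (e y)) : commutator G) : G) = x * y * x⁻¹ := by
  refine ⟨_, rfl, fun y => ?_⟩
  simp only [MulAut.congr, MulEquiv.coe_mk, Equiv.coe_fn_mk, MulEquiv.trans_apply,
    MulEquiv.symm_apply_apply, MulAut.conjNormal_apply]

/-- The automorphism induced by `x` has order `p`, and it is inner only if `x ∈ G'`. -/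
theorem orderOf_induced (h : MinCex p x) {L : Type v} [Group L] (e : commutator G ≃* L) :
    orderOf (MulAut.congr e (MulAut.conjNormal x)) = p := by
  rw [MulEquiv.orderOf_eq, orderOf_injective _ (conjNormal_injective h), h.ord]

theorem mem_of_inner (h : MinCex p x) {L : Type v} [Group L] (e : commutator G ≃* L)
    (hi : ∃ g : L, MulAut.congr e (MulAut.conjNormal x) = MulAut.conj g) : x ∈ commutator G := by
  obtain ⟨g, hg⟩ := hi
  have h1 : (MulAut.conjNormal x : MulAut (commutator G)) = MulAut.conjNormal ((e.symm g : commutator G) : G) := by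
    apply (MulAut.congr e).injective
    rw [hg]
    ext y
    simp only [MulAut.congr, MulEquiv.coe_mk, Equiv.coe_fn_mk, MulEquiv.trans_apply, MulAut.conj_apply]
    have h2 : MulAut.conjNormal ((e.symm g : commutator G) : G) (e.symm y) = e.symm g * e.symm y * (e.symm g)⁻¹ := by
      apply Subtype.ext
      rw [MulAut.conjNormal_apply]
      rfl
    rw [h2, map_mul, map_mul, map_inv, e.apply_symm_apply, e.apply_symm_apply]
  rw [conjNormal_injective h h1]
  exact (e.symm g).2

omit hp in
theorem langAt_of_congr {L : Type v} [Group L] {M : Type*} [Group M] (e : M ≃* L) {X : MulAut M}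
    (hL : LangAt p (MulAut.congr e X)) : LangAt p X := by
  intro s hs hX
  obtain ⟨δ, hδ⟩ := hL (e s) (by rw [MulEquiv.orderOf_eq, hs]) (by
    simp only [MulAut.congr, MulEquiv.coe_mk, Equiv.coe_fn_mk, MulEquiv.trans_apply, MulEquiv.symm_apply_apply, hX])
  refine ⟨(MulAut.congr e).symm δ, ?_⟩
  apply (MulAut.congr e).injective
  rw [map_mul, map_mul, map_mul, map_inv, MulEquiv.apply_symm_apply, hδ]
  congr 1
  ext y
  simp only [MulAut.congr, MulEquiv.coe_mk, Equiv.coe_fn_mk, MulEquiv.trans_apply, MulAut.conj_apply, map_mul, map_inv,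
    MulEquiv.apply_symm_apply]

/-- **The criterion for `RowS p L`**: no element of `L` is a minimal counterexample, and the automorphisms of order `p` of
`L` are inner or satisfy `LangAt`. -/
theorem rowS_of_lang (hp2 : p ≠ 2) {L : Type v} [Group L] (hin : ∀ y : L, ¬ MinCex p y)
    (hL : ∀ X : MulAut L, orderOf X = p → (∃ g, X = MulAut.conj g) ∨ LangAt p X) : RowS.{u, v} p L := by
  intro G _ _ x h hs e
  by_cases hx : x ∈ commutator G
  · have ht := commutator_eq_top h hx
    let f : G ≃* L := (Subgroup.topEquiv.symm.trans (MulEquiv.subgroupCongr ht.symm)).trans e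
    exact hin (f x) (MinCex.map h f)
  · rcases hL _ (orderOf_induced h e) with h1 | h1
    · exact hx (mem_of_inner h e h1)
    · exact false_of_lang hp2 h hs hx (langAt_of_congr e h1)

end Cfsg.Agent.H28.ZIso
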