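import Cfsg.Agent.H28.S5Moved
import Cfsg.Agent.H132.S5.Tools

/-!
# Strong pairs from a proper subgroup (S2274)

* `mem_rad` : all `x * (x ^ j) ^ g` are `p`-elements, strong rows of the simple groups of order at most `|G|`: `x` lies
  in the solvable radical;
* `spair_of_hyper` : `x ∈ C < S`, `y = x ^ j v`, `v` a `p`-element centralising `C`, `x` not in the solvable radical of
  `C`: a strong pair.
-/

set_option autoImplicit false
set_option linter.unusedSectionVars false

namespace Cfsg.Agent.H28.S5Hyper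

open Cfsg Subgroup Cfsg.Agent.SignalizersComponents.ComponentExists Cfsg.Agent.H459.Rad
open Cfsg.Agent.SignalizersComponents.Components Cfsg.Agent.H459.Reduce Cfsg.Agent.H460.AA
open Cfsg.Agent.H533.T5 Cfsg.Agent.H132.S5 Cfsg.Agent.H28.S5Moved

universe u

/-- strong rows of the simple groups of order less than `n` -/
def SBelow (p n : ℕ) : Prop :=
  ∀ (L : Type u) [Group L] [Finite L], IsSimpleGroup L → ¬ IsMulCommutative L → Nat.card L < n → SRow p L

/-- **All products `x * (x ^ j) ^ g` are `p`-elements.** -/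
theorem mem_rad {p : ℕ} [hpf : Fact p.Prime] {G : Type u} [Group G] [Finite G] {n : ℕ} (hM : SBelow.{u} p n)
    (hG : Nat.card G < n) {x : G} (hx : orderOf x = p) {j : ℤ} (hj : ¬ (p : ℤ) ∣ j)
    (h : ∀ g : G, PE p (x * (g * x ^ j * g⁻¹))) : x ∈ solvableRadical G := by
  have hp : p.Prime := hpf.out
  by_contra hxR
  have hRn := rad_normal G
  obtain ⟨R, hRdef⟩ : ∃ R, R = solvableRadical G := ⟨_, rfl⟩
  have hR : solvableRadical (G ⧸ solvableRadical G) = ⊥ := rad_quotient
  obtain ⟨x', hx'⟩ : ∃ x', x' = QuotientGroup.mk' (solvableRadical G) x := ⟨_, rfl⟩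
  have hx1 : x' ≠ 1 := fun h1 => hxR ((QuotientGroup.eq_one_iff x).1 (by rw [← h1, hx']; rfl))
  have hox : orderOf x' = p := by
    have h1 : orderOf x' ∣ p := by rw [hx', ← hx]; exact orderOf_map_dvd _ x
    rcases (Nat.dvd_prime hp).1 h1 with h2 | h2
    · exact absurd (orderOf_eq_one_iff.1 h2) hx1
    · exact h2
  have hxp : x' ^ p = 1 := by rw [← hox, pow_orderOf_eq_one]
  have h' : ∀ g : G ⧸ solvableRadical G, PE p (x' * (g * x' ^ j * g⁻¹)) := by
    intro g
    obtain ⟨g, rfl⟩ := QuotientGroup.mk'_surjective (solvableRadical G) g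
    have h2 := (h g).map (QuotientGroup.mk' (solvableRadical G))
    rwa [map_mul, map_mul, map_mul, map_inv, map_zpow, ← hx'] at h2
  have hcard : Nat.card (G ⧸ solvableRadical G) ≤ Nat.card G := by
    have h3 := Subgroup.card_eq_card_quotient_mul_card_subgroup (solvableRadical G)
    have h4 : 0 < Nat.card (solvableRadical G) := Nat.card_pos
    nlinarith
  obtain ⟨L, hL, l0, hl0, hne0⟩ := exists_component hR hx1
  by_cases hm : x' ∈ normalizer (L : Set (G ⧸ solvableRadical G))
  swap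
  · exact movedB hR hxp hL hm hj h'
  have hsimp := component_simple hR hL
  obtain ⟨y, hy⟩ : ∃ y : MulAut L, y = L.normalizerMonoidHom ⟨x', hm⟩ := ⟨_, rfl⟩
  have hyo : orderOf y = p := by
    have h1 : orderOf y ∣ p := by
      have h2 : orderOf y ∣ orderOf (⟨x', hm⟩ : normalizer (L : Set (G ⧸ solvableRadical G))) := by
        rw [hy]
        exact orderOf_map_dvd _ _
      rwa [Subgroup.orderOf_mk, hox] at h2
    rcases (Nat.dvd_prime hp).1 h1 with h2 | h2
    · exfalso
      rw [orderOf_eq_one_iff] at h2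
      apply hne0
      have h3 : ((y ⟨l0, hl0⟩ : L) : G ⧸ solvableRadical G) = l0 := by rw [h2]; rfl
      have h4 : ((y ⟨l0, hl0⟩ : L) : G ⧸ solvableRadical G) = x' * l0 * x'⁻¹ := by rw [hy]; rfl
      rw [h4] at h3
      calc x' * l0 = (x' * l0 * x'⁻¹) * x' := by group
        _ = l0 * x' := by rw [h3]
    · exact h2
  have hyj : orderOf (y ^ j) = p := by
    refine orderOf_eq_prime ?_ ?_
    · rw [← zpow_natCast, ← zpow_mul, mul_comm, zpow_mul, zpow_natCast, ← hyo, pow_orderOf_eq_one, one_zpow]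
    · intro h1
      apply hj
      rw [← hyo]
      exact orderOf_dvd_iff_zpow_eq_one.2 h1
  have hLc : Nat.card L < n := (Subgroup.card_le_card_group L).trans_lt (hcard.trans_lt hG)
  obtain ⟨-, g, ⟨l, rfl⟩, hg⟩ := hM L hsimp (quasisimple_not_isMulCommutative hL.2) hLc y (y ^ j) hyo hyj
  apply hg
  have h1 := h' l
  obtain ⟨N, hN⟩ : ∃ N, N = normalizer (L : Set (G ⧸ solvableRadical G)) := ⟨_, rfl⟩
  have h2 : x' * ((l : G ⧸ solvableRadical G) * x' ^ j * (l : G ⧸ solvableRadical G)⁻¹) =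
      (((⟨x', hm⟩ : normalizer (L : Set (G ⧸ solvableRadical G))) *
        (⟨l, le_normalizer l.2⟩ * ⟨x', hm⟩ ^ j * ⟨l, le_normalizer l.2⟩⁻¹) :
          normalizer (L : Set (G ⧸ solvableRadical G))) : G ⧸ solvableRadical G) := by
    simp
  rw [h2, PE.coe] at h1
  have h3 := h1.map L.normalizerMonoidHom
  rw [map_mul, map_mul, map_mul, map_inv, map_zpow, ← hy] at h3
  have h4 : L.normalizerMonoidHom ⟨(l : G ⧸ solvableRadical G), le_normalizer l.2⟩ = MulAut.conj l := by
    ext y
    rfl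
  rw [h4] at h3
  exact h3

/-- **A strong pair from a proper subgroup.** -/
theorem spair_of_hyper {p : ℕ} [hpf : Fact p.Prime] (hRS : RSHyp.{u} p) {S : Type u} [Group S] [Finite S]
    (hM : SBelow.{u} p (Nat.card S)) {x y : S} (hx : orderOf x = p) {C : Subgroup S} (hC : C ≠ ⊤) {v : S}
    (hvC : ∀ c ∈ C, Commute c v) (hv : ∃ k : ℕ, v ^ p ^ k = 1) (hxC : x ∈ C) {j : ℤ} (hj : ¬ (p : ℤ) ∣ j)
    (hy : y = x ^ j * v) (hns : (⟨x, hxC⟩ : C) ∉ solvableRadical C) : SPair p (⊤ : Subgroup S) x y := by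
  have hp : p.Prime := hpf.out
  have hxp : x ^ p = 1 := by rw [← hx, pow_orderOf_eq_one]
  refine SPair.mk' hp ?_ ?_
  · obtain ⟨j', n', hj'⟩ : ∃ j' n' : ℤ, j' * j + n' * p = 1 := by
      have h3 : IsCoprime j (p : ℤ) := by
        rw [isCoprime_comm]
        exact (Nat.prime_iff_prime_int.1 hp).coprime_iff_not_dvd.2 hj
      exact h3
    refine APair.of_aligned hRS (R := C) le_top hx (fun r hr => mul_mem (mul_mem hxC hr) (inv_mem hxC))
      (s := 1) (one_mem _) j' (h := v ^ j') ((hvC x hxC).zpow_right j') (fun r hr => (hvC r hr).zpow_right j') ?_ ?_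
    · rw [one_mul, inv_one, mul_one, hy, (((hvC x hxC).zpow_left j)).mul_zpow, ← zpow_mul]
      have h1 : x ^ (j * j') = x := by
        have h2 : j * j' = 1 - n' * p := by linarith [mul_comm j j']
        rw [h2, zpow_sub, zpow_one, mul_comm n', zpow_mul, zpow_natCast, hxp, one_zpow, inv_one, mul_one]
      rw [h1]
    · intro hsol
      apply hns
      rw [mem_rad_iff]
      refine ⟨closure {z : C | ∃ g : C, z = g * ⟨x, hxC⟩ * g⁻¹}, ?_, ?_, subset_closure ⟨1, by simp⟩⟩
      · constructor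
        intro z hz g
        induction hz using Subgroup.closure_induction with
        | mem z hz =>
          obtain ⟨h, rfl⟩ := hz
          exact Subgroup.subset_closure ⟨g * h, by group⟩
        | one => simp
        | mul a b _ _ ha hb =>
          have : g * (a * b) * g⁻¹ = (g * a * g⁻¹) * (g * b * g⁻¹) := by group
          rw [this]; exact mul_mem ha hb
        | inv a _ ha =>
          have : g * a⁻¹ * g⁻¹ = (g * a * g⁻¹)⁻¹ := by group
          rw [this]; exact inv_mem ha
      · have h1 : (closure {z : C | ∃ g : C, z = g * ⟨x, hxC⟩ * g⁻¹}).map C.subtype =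
            closure {y : S | ∃ r ∈ C, y = r * x * r⁻¹} := by
          rw [MonoidHom.map_closure]
          congr 1
          ext z
          constructor
          · rintro ⟨_, ⟨g, rfl⟩, rfl⟩
            exact ⟨g, g.2, rfl⟩
          · rintro ⟨r, hr, rfl⟩
            exact ⟨⟨r, hr⟩ * ⟨x, hxC⟩ * ⟨r, hr⟩⁻¹, ⟨⟨r, hr⟩, rfl⟩, rfl⟩
        have h2 := (closure {z : C | ∃ g : C, z = g * ⟨x, hxC⟩ * g⁻¹}).equivMapOfInjective C.subtype
          C.subtype_injective
        rw [h1] at h2
        exact Group.isSolvable_of_isSolvable_injective (f := h2.toMonoidHom) h2.injective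
  · by_contra hcon
    unfold BPair at hcon
    push Not at hcon
    apply hns
    have hcard : Nat.card C < Nat.card S :=
      lt_of_le_of_ne (Subgroup.card_le_card_group C) fun h => hC (Subgroup.eq_top_of_card_eq C h)
    refine mem_rad hM hcard (by rw [Subgroup.orderOf_mk, hx]) hj fun g => ?_
    rw [PE.pow_eq_one_iff]
    obtain ⟨k, hk⟩ := hcon g (Subgroup.mem_top _)
    obtain ⟨m, hm⟩ := hv
    refine ⟨k + m, Subtype.ext ?_⟩
    show (x * ((g : S) * x ^ j * (g : S)⁻¹)) ^ p ^ (k + m) = 1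
    have h1 : x * ((g : S) * y * (g : S)⁻¹) = x * ((g : S) * x ^ j * (g : S)⁻¹) * v := by
      have h2 := (hvC _ (inv_mem g.2)).eq
      calc x * ((g : S) * y * (g : S)⁻¹) = x * ((g : S) * x ^ j * (v * (g : S)⁻¹)) := by rw [hy]; group
        _ = x * ((g : S) * x ^ j * ((g : S)⁻¹ * v)) := by rw [h2]
        _ = _ := by group
    have h3 : Commute (x * ((g : S) * x ^ j * (g : S)⁻¹)) v :=
      hvC _ (mul_mem hxC (mul_mem (mul_mem g.2 (zpow_mem hxC j)) (inv_mem g.2)))
    rw [h1, h3.mul_pow] at hk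
    have h4 : (x * ((g : S) * x ^ j * (g : S)⁻¹)) ^ p ^ k = (v ^ p ^ k)⁻¹ := eq_inv_of_mul_eq_one_left hk
    rw [pow_add, pow_mul, h4, inv_pow, ← pow_mul, mul_comm, pow_mul, hm, one_pow, inv_one]

end Cfsg.Agent.H28.S5Hyper
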