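import Cfsg.Agent.H28.T5Mid

/-!
# `OuterOk`, `HomOk` : what the middle row needs about outer automorphisms (T5)

* `OuterOk p S` : (sb) an automorphism `d` of order `p` which is not inner: the fixed points have a simple nonabelian
  normal subgroup with trivial centraliser; (conj) two of them have powers conjugate under `Inn S`;
* `HomOk p S` : `d` as above centralises `Ω₁(E)` for every `p`-subgroup `E` which it normalises (for `S` with commutative
  Sylow `p`-subgroups);
* both are invariant under isomorphisms; `mrow_of_ok` : the middle row from the pairs of elements of `S`.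
-/

set_option autoImplicit false

universe u v

namespace Cfsg.Agent.H28.T5Ok

open Subgroup Cfsg.Agent.H533.T5 Cfsg.Agent.H957.T5M Cfsg.Agent.H106.MB Cfsg.Agent.H106.MT Cfsg.Agent.H28.T5Mid

/-- the outer automorphisms of order `p` of `S` -/
structure OuterOk (p : ℕ) (S : Type*) [Group S] : Prop where
  sb : ∀ d : MulAut S, orderOf d = p → (¬ ∃ g, d = MulAut.conj g) → p ∣ Nat.card S → SB d
  conj : ∀ c d : MulAut S, orderOf c = p → orderOf d = p → (¬ ∃ g, c = MulAut.conj g) →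
    (¬ ∃ g, d = MulAut.conj g) → ∃ s ∈ (MulAut.conj : S →* MulAut S).range, ∃ j : ℤ, (s * d * s⁻¹) ^ j = c

/-- the outer automorphisms of order `p` of `S` centralise `Ω₁(E)` for the `p`-subgroups `E` they normalise -/
def HomOk (p : ℕ) (S : Type*) [Group S] : Prop :=
  ∀ d : MulAut S, orderOf d = p → (¬ ∃ g, d = MulAut.conj g) → ∀ E : Subgroup S, IsPGroup p E →
    (∀ e ∈ E, d e ∈ E) → ∀ e ∈ E, e ^ p = 1 → d e = e

section congr

variable {S : Type u} {T : Type v} [Group S] [Group T] {p : ℕ}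

theorem inner_iff (e : S ≃* T) (d : MulAut S) : (∃ g, MulAut.congr e d = MulAut.conj g) ↔ ∃ g, d = MulAut.conj g := by
  constructor
  · rintro ⟨g, hg⟩
    refine ⟨e.symm g, MulEquiv.ext fun y => e.injective ?_⟩
    have h1 := DFunLike.congr_fun hg (e y)
    have h2 : MulAut.congr e d (e y) = e (d y) := by simp [MulAut.congr]
    rw [h2] at h1
    rw [h1, MulAut.conj_apply, MulAut.conj_apply, map_mul, map_mul, map_inv, e.apply_symm_apply]
  · rintro ⟨g, rfl⟩
    refine ⟨e g, MulEquiv.ext fun y => ?_⟩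
    simp [MulAut.congr]

/-- transport of `SB` -/
theorem SB.congr (e : S ≃* T) {d : MulAut S} {d' : MulAut T} (hcg : ∀ y, d' (e y) = e (d y)) (h : SB d') : SB d := by
  obtain ⟨N, h1, h2, h3, h4, h5⟩ := h
  have hfix : ∀ y, d y = y ↔ d' (e y) = e y := fun y => by
    rw [hcg, e.injective.eq_iff]
  have eN : ↥(N.comap e.toMonoidHom) ≃* ↥N :=
    { toFun := fun y => ⟨e y.1, y.2⟩
      invFun := fun y => ⟨e.symm y.1, by
        show e (e.symm y.1) ∈ N
        rw [e.apply_symm_apply]; exact y.2⟩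
      left_inv := fun y => Subtype.ext (e.symm_apply_apply _)
      right_inv := fun y => Subtype.ext (e.apply_symm_apply _)
      map_mul' := fun a b => Subtype.ext (map_mul e _ _) }
  refine ⟨N.comap e.toMonoidHom, fun y hy => (hfix y).2 (h1 _ hy), fun y hy => ?_, eN.isSimpleGroup, ?_, ?_⟩
  · have h6 := h2 _ ((hfix y).1 hy)
    rw [Subgroup.mem_normalizer_iff] at h6 ⊢
    intro z
    have h7 := h6 (e z)
    rw [Subgroup.mem_comap, Subgroup.mem_comap]
    simpa using h7
  · intro hc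
    refine h4 ⟨⟨fun a b => eN.symm.injective ?_⟩⟩
    rw [map_mul, map_mul]
    exact hc.is_comm.comm _ _
  · intro y hy hyc
    have h6 := h5 _ ((hfix y).1 hy) (by
      rw [Subgroup.mem_centralizer_iff] at hyc ⊢
      intro z hz
      have h7 := hyc (e.symm z) (by
        show e (e.symm z) ∈ N
        rw [e.apply_symm_apply]; exact hz)
      have h8 := congrArg e h7
      rwa [map_mul, map_mul, e.apply_symm_apply] at h8)
    exact e.injective (by rw [h6, map_one])

/-- only the fixed points matter -/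
theorem SB.of_fix {d d' : MulAut S} (h : ∀ y, d y = y ↔ d' y = y) (hd : SB d') : SB d := by
  obtain ⟨N, h1, h2, h3, h4, h5⟩ := hd
  exact ⟨N, fun y hy => (h y).2 (h1 y hy), fun y hy => h2 y ((h y).1 hy), h3, h4, fun y hy => h5 y ((h y).1 hy)⟩

theorem SB.conj {d : MulAut S} (e : MulAut S) (h : SB (e * d * e⁻¹)) : SB d :=
  SB.congr e (fun y => by rw [MulAut.mul_apply, MulAut.mul_apply, MulAut.inv_apply_self]) h

theorem OuterOk.congr (e : S ≃* T) (h : OuterOk p T) : OuterOk p S where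
  sb d hd hdo hdvd := SB.congr e (fun y => by simp [MulAut.congr]) (h.sb (MulAut.congr e d)
    (by rw [MulEquiv.orderOf_eq, hd]) (by rwa [inner_iff]) (by rwa [← Nat.card_congr e.toEquiv]))
  conj c d hc hd hco hdo := by
    obtain ⟨s, ⟨t, ht⟩, j, h1⟩ := h.conj (MulAut.congr e c) (MulAut.congr e d) (by rw [MulEquiv.orderOf_eq, hc])
      (by rw [MulEquiv.orderOf_eq, hd]) (by rwa [inner_iff]) (by rwa [inner_iff])
    have h2 : MulAut.congr e (MulAut.conj (e.symm t)) = s := by
      rw [← ht]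
      refine MulEquiv.ext fun y => ?_
      simp [MulAut.congr]
    refine ⟨MulAut.conj (e.symm t), ⟨_, rfl⟩, j, (MulAut.congr e).injective ?_⟩
    rw [map_zpow, map_mul, map_mul, map_inv, h2, h1]

theorem HomOk.congr (e : S ≃* T) (h : HomOk p T) : HomOk p S := by
  intro d hd hdo E hE hdE x hx hxp
  have hcg : ∀ y, MulAut.congr e d (e y) = e (d y) := fun y => by simp [MulAut.congr]
  have h1 := h (MulAut.congr e d) (by rw [MulEquiv.orderOf_eq, hd]) (by rwa [inner_iff]) (E.map e.toMonoidHom)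
    (hE.map _) (by
      rintro _ ⟨y, hy, rfl⟩
      refine ⟨d y, hdE y hy, ?_⟩
      exact (hcg y).symm) (e x) ⟨x, hx, rfl⟩ (by rw [← map_pow, hxp, map_one])
  rw [hcg] at h1
  exact e.injective h1

end congr

/-- it suffices to treat the groups with an outer automorphism of order `p` -/
theorem OuterOk.of_exists {L : Type*} [Group L] {p : ℕ}
    (h : (∃ x : MulAut L, orderOf x = p ∧ ¬ ∃ g, x = MulAut.conj g) → OuterOk p L) : OuterOk p L := by
  by_cases h1 : ∃ x : MulAut L, orderOf x = p ∧ ¬ ∃ g, x = MulAut.conj g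
  · exact h h1
  · exact ⟨fun x hx hxo => absurd ⟨x, hx, hxo⟩ h1, fun x _ hx _ hxo => absurd ⟨x, hx, hxo⟩ h1⟩

/-- `HomOk` from the frame -/
theorem HomOk.of_std {L Y : Type*} [Group L] [Finite L] [Group Y] {p : ℕ} (hp : p.Prime) {ι : L →* Y}
    {σ φ : MulAut Y} (hS : Std p ι σ φ) {T : Subgroup Y} (hF : Cfsg.Agent.H28.T5Frob.Fus p T) {s Q : ℕ}
    (hs : s.Coprime p) (hQ : ¬ p ∣ Q) (hT : ∀ t ∈ T, (φ ^ s) t = t ^ Q)
    (hab : ∀ E : Subgroup L, IsPGroup p E → ∀ a ∈ E, ∀ b ∈ E, a * b = b * a)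
    (hcases : ∀ x : MulAut L, orderOf x = p → (¬ ∃ g, x = MulAut.conj g) →
      ∃ (i : ℕ) (y : Y), i.Coprime p ∧ ∀ a, ι ((x ^ i) a) = (MulAut.conj y * φ) (ι a)) : HomOk p L := by
  intro x hx hxo E hE hxE e he hep
  have : Fact p.Prime := ⟨hp⟩
  obtain ⟨i, y, hi, hy⟩ := hcases x hx hxo
  have hxp : x ^ p = 1 := by rw [← hx, pow_orderOf_eq_one]
  have hcE : ∀ m : ℕ, ∀ e ∈ E, (x ^ m) e ∈ E := by
    intro m
    induction m with
    | zero => intro e he; exact he
    | succ m ih => intro e he; rw [pow_succ', MulAut.mul_apply]; exact hxE _ (ih e he)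
  exact (Cfsg.Agent.H28.T5Mid.fix_pow_iff' hxp hi e).1 (Cfsg.Agent.H28.T5Frob.fix_of_frob hp hS.inj hS.lang hF hs hQ hT hy
    (by rw [← pow_mul, mul_comm, pow_mul, hxp, one_pow]) hE (hab E hE) (hcE i) he hep)

/-- the weak row from the frame -/
theorem wrow_of_std {L Y : Type*} [Group L] [Finite L] [IsSimpleGroup L] (hna : ¬ IsMulCommutative L) [Group Y] {p : ℕ}
    (hp : p.Prime) (hp2 : p ≠ 2) {ι : L →* Y} {σ φ : MulAut Y} (hS : Std p ι σ φ)
    (hdesc : ∀ y, σ y = y → (∃ k : ℕ, y ^ p ^ k = 1) → y ∈ ι.range) (hH : HomOk p L)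
    (hab : ∀ E : Subgroup L, IsPGroup p E → ∀ a ∈ E, ∀ b ∈ E, a * b = b * a)
    (hcases : ∀ x : MulAut L, orderOf x = p → (¬ ∃ g, x = MulAut.conj g) →
      ∃ (i : ℕ) (y : Y), i.Coprime p ∧ ∀ a, ι ((x ^ i) a) = (MulAut.conj y * φ) (ι a)) : WRow p L := by
  -- the inner-diagonal automorphisms
  let DD : Subgroup (MulAut L) :=
    { carrier := {z | ∃ y : Y, ∀ a, ι (z a) = y * ι a * y⁻¹}
      mul_mem' := by
        rintro z z' ⟨y, hy⟩ ⟨y', hy'⟩
        refine ⟨y * y', fun a => ?_⟩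
        rw [MulAut.mul_apply, hy, hy']
        group
      one_mem' := ⟨1, fun a => by simp⟩
      inv_mem' := by
        rintro z ⟨y, hy⟩
        refine ⟨y⁻¹, fun a => ?_⟩
        have h1 := hy (z⁻¹ a)
        rw [MulAut.apply_inv_self] at h1
        rw [h1]
        group }
  refine Cfsg.Agent.H28.T5Abs.wrow_of_comm hna hp hp2 hab (fun c hc hco E hE hcE e he hep => hH c hco hc E hE hcE e he hep)
    DD (fun g => ⟨ι g, fun a => by simp⟩) ?_ ?_
  · rintro z ⟨y, hy⟩ ⟨j, hj⟩
    have h1 : σ y = y := by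
      have h2 : y⁻¹ * σ y = 1 := by
        apply hS.cent
        intro a
        have h3 : σ y * ι a * (σ y)⁻¹ = y * ι a * y⁻¹ := by
          rw [← hy, ← hS.fixι (z a), hy, map_mul, map_mul, map_inv, hS.fixι]
        calc y⁻¹ * σ y * ι a = y⁻¹ * (σ y * ι a * (σ y)⁻¹) * σ y := by group
          _ = y⁻¹ * (y * ι a * y⁻¹) * σ y := by rw [h3]
          _ = ι a * (y⁻¹ * σ y) := by group
      exact (inv_mul_eq_one.1 h2).symm
    have h2 : y ^ p ^ j = 1 := by
      have h3 : ∀ m : ℕ, ∀ a, ι ((z ^ m) a) = y ^ m * ι a * (y ^ m)⁻¹ := by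
        intro m
        induction m with
        | zero => intro a; simp
        | succ m ih =>
          intro a
          rw [pow_succ', MulAut.mul_apply, hy, ih, pow_succ']
          group
      apply hS.cent
      intro a
      have h4 := h3 (p ^ j) a
      rw [hj, MulAut.one_apply] at h4
      exact (eq_mul_inv_iff_mul_eq.1 h4).symm
    obtain ⟨g, hg⟩ := hdesc y h1 ⟨j, h2⟩
    refine ⟨g, MulEquiv.ext fun a => ?_⟩
    apply hS.inj
    rw [hy, MulAut.conj_apply, map_mul, map_mul, map_inv, hg]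
  · intro c c' hc hc' hco hco'
    obtain ⟨i, y, hi, hy⟩ := hcases c hco hc
    obtain ⟨j, y', hj, hy'⟩ := hcases c' hco' hc'
    refine ⟨j, i, hj, hi, y' * y⁻¹, fun a => ?_⟩
    rw [MulAut.mul_apply, hy', MulAut.mul_apply, MulAut.conj_apply]
    have h1 := hy ((c ^ i)⁻¹ a)
    rw [MulAut.apply_inv_self, MulAut.mul_apply, MulAut.conj_apply] at h1
    rw [h1]
    group

/-- the weak row: it suffices to treat the groups with an outer automorphism of order `p` -/
theorem wrow_of_exists {L : Type*} [Group L] [Finite L] [IsSimpleGroup L] (hna : ¬ IsMulCommutative L) {p : ℕ}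
    (hp : p.Prime) (hp2 : p ≠ 2) (hab : ∀ E : Subgroup L, IsPGroup p E → ∀ a ∈ E, ∀ b ∈ E, a * b = b * a)
    (h : (∃ x : MulAut L, orderOf x = p ∧ ¬ ∃ g, x = MulAut.conj g) → WRow p L) : WRow p L := by
  by_cases h1 : ∃ x : MulAut L, orderOf x = p ∧ ¬ ∃ g, x = MulAut.conj g
  · exact h h1
  · exact Cfsg.Agent.H28.T5Abs.wrow_of_comm hna hp hp2 hab (fun c hc hco => absurd ⟨c, hco, hc⟩ h1)
      (MulAut.conj : L →* MulAut L).range (fun g => ⟨g, rfl⟩) (fun z hz _ => by
        obtain ⟨g, hg⟩ := hz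
        exact ⟨g, hg.symm⟩) (fun c _ hc _ hco _ => absurd ⟨c, hco, hc⟩ h1)

/-- `OuterOk` from one representative: `Y_σ = Y_φ ι(L)`, Lang, `θ` the restriction of `φ` -/
theorem OuterOk.of_std {L Y : Type*} [Group L] [Finite L] [Group Y] {p : ℕ} (hp : p.Prime) {ι : L →* Y}
    {σ φ : MulAut Y} (hS : Std p ι σ φ) {θ : MulAut L} (hθ : ∀ a, ι (θ a) = φ (ι a)) (hg : p ∣ Nat.card L → SB θ)
    (hcases : ∀ x : MulAut L, orderOf x = p → (¬ ∃ g, x = MulAut.conj g) →
      ∃ (i : ℕ) (y : Y), i.Coprime p ∧ ∀ a, ι ((x ^ i) a) = (MulAut.conj y * φ) (ι a)) : OuterOk p L where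
  sb x hx hxo hdvd := by
    have : Fact p.Prime := ⟨hp⟩
    obtain ⟨i, y, hi, hy⟩ := hcases x hx hxo
    have hxp : x ^ p = 1 := by rw [← hx, pow_orderOf_eq_one]
    obtain ⟨s, hs⟩ := hS.conj (by rw [← pow_mul, mul_comm, pow_mul, hxp, one_pow]) hy
    have h1 : MulAut.conj s * x ^ i * (MulAut.conj s)⁻¹ = θ := MulEquiv.ext fun a => hS.inj (by rw [hs, hθ])
    refine SB.of_fix (d' := x ^ i) (fun y => (Cfsg.Agent.H28.T5Mid.fix_pow_iff' hxp hi y).symm) ?_
    exact SB.conj (MulAut.conj s) (by rw [h1]; exact hg hdvd)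
  conj c d hc hd hco hdo := hS.conj_outer hp hc hd (hcases c hc hco) (hcases d hd hdo)

/-- `Sylow` cyclic -/
theorem HomOk.of_cyclic {S : Type*} [Group S] [Finite S] {p : ℕ} (hp : p.Prime) [IsSimpleGroup S]
    (hna : ¬ IsMulCommutative S)
    (hcyc : ∀ E : Subgroup S, IsPGroup p E → IsCyclic ↥E) : HomOk p S := by
  intro d hd hdo E hE hdE e he hep
  have : Fact p.Prime := ⟨hp⟩
  have hinj := conj_injective_of_simple (S := S) hna
  have hcg : ∀ y : S, d * MulAut.conj y * d⁻¹ = MulAut.conj (d y) := by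
    intro y
    refine MulEquiv.ext fun a => ?_
    rw [MulAut.mul_apply, MulAut.mul_apply, MulAut.conj_apply, MulAut.conj_apply, map_mul, map_mul, map_inv,
      MulAut.apply_inv_self]
  have h1 := Cfsg.Agent.H28.T5Abs.omega_of_cyclic (E := E.map (MulAut.conj : S →* MulAut S)) hp (by
      have := hcyc E hE
      exact isCyclic_of_surjective _ ((MulAut.conj : S →* MulAut S).subgroupMap_surjective E))
      (c := d) (by rw [← hd, pow_orderOf_eq_one]) (by
      rintro _ ⟨y, hy, rfl⟩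
      exact ⟨d y, hdE y hy, (hcg y).symm⟩) (e := MulAut.conj e) ⟨e, he, rfl⟩ (by rw [← map_pow, hep, map_one])
  apply hinj
  rw [← hcg, h1, mul_inv_cancel_right]

/-- **The middle row.** -/
theorem mrow_of_ok {S : Type u} [Group S] [Finite S] {p : ℕ} (hAA : AAHyp.{u} p) (hp : p.Prime) [IsSimpleGroup S]
    (hna : ¬ IsMulCommutative S) (hO : OuterOk p S) (hH : HomOk p S)
    (hin : ∀ x y : S, orderOf x = p → orderOf y = p → MPair p (⊤ : Subgroup S) x y) : MRow p S := by
  have : Fact p.Prime := ⟨hp⟩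
  exact mrow_of hAA hp hna hin (fun d hd hdo x hx => exists_fix d hd (hH d hd hdo) hx) hO.sb hO.conj

end Cfsg.Agent.H28.T5Ok
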