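import Cfsg.Agent.H132.S5.Eng3
import Cfsg.Agent.KFacts.RgdFiltTwAll
import Cfsg.Agent.BiChar.TwDFour
import Cfsg.Agent.H1.RgdRow

/-!
# Centralisers of hyperplanes and parabolic subgroups (S2274, rows `e ≡ 6`)

* `CDat p S` : the data of `H132.S5.spair_of_cent'`; `CDat.congr`, `CDat.spair`;
* `not_dvd_pred` : the arithmetic;
* `no_norm_of_index` : a Sylow `p`-subgroup normalises no nontrivial `r`-subgroup if `p` divides the indices of the
  maximal parabolic subgroups;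
* `cdat_of_par` : the data from a parabolic subgroup of corank one.
-/

set_option autoImplicit false
set_option linter.unusedSectionVars false

universe u

namespace Cfsg.Agent.H28.S5Par

open Cfsg Subgroup

/-! ### The data -/

/-- The data of `H132.S5.spair_of_cent'`. -/
def CDat (p : ℕ) (S : Type*) [Group S] : Prop :=
  ∃ (P : Sylow p S) (r : ℕ) (V T : Subgroup S), IsMulCommutative (P : Subgroup S) ∧ r.Prime ∧ r ≠ p ∧
    (∀ K : Subgroup S, IsPGroup r K → (P : Subgroup S) ≤ normalizer (K : Set S) → K = ⊥) ∧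
    V ≤ (P : Subgroup S) ∧ (∀ v ∈ V, v ^ p = 1) ∧ V ≠ ⊥ ∧
    Nat.card {x : S // x ∈ (P : Subgroup S) ∧ x ^ p = 1} ≤ p * Nat.card V ∧
    IsPGroup r T ∧ (∀ t ∈ T, ∀ v ∈ V, Commute t v) ∧ ¬ Nat.card T ∣ p - 1

theorem CDat.congr {p : ℕ} [hp : Fact p.Prime] {S S' : Type*} [Group S] [Group S'] [Finite S] [Finite S']
    (e : S ≃* S') (h : CDat p S') : CDat p S := by
  obtain ⟨P, r, V, T, hP, hr, hrp, hn, hV, hVp, hV1, hc, hT, hTV, hTc⟩ := h
  have hmem : ∀ (K : Subgroup S') (x : S), x ∈ K.comap e.toMonoidHom ↔ e x ∈ K := fun K x => Iff.rfl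
  have hP' : IsPGroup p ((P : Subgroup S').comap e.toMonoidHom) := P.isPGroup'.comap_of_injective _ e.injective
  have hmc : ∀ K : Subgroup S', Nat.card ↥(K.comap e.toMonoidHom) = Nat.card K := fun K =>
    Nat.card_congr
      { toFun := fun x => ⟨e x.1, x.2⟩
        invFun := fun x => ⟨e.symm x.1, by rw [hmem, e.apply_symm_apply]; exact x.2⟩
        left_inv := fun x => Subtype.ext (e.symm_apply_apply _)
        right_inv := fun x => Subtype.ext (e.apply_symm_apply _) }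
  have hcS : Nat.card S = Nat.card S' := Nat.card_congr e.toEquiv
  have hidx : ¬ p ∣ ((P : Subgroup S').comap e.toMonoidHom).index := by
    have h1 := ((P : Subgroup S').comap e.toMonoidHom).card_mul_index
    have h2 := (P : Subgroup S').card_mul_index
    rw [hmc, hcS, ← h2] at h1
    rw [Nat.eq_of_mul_eq_mul_left Nat.card_pos h1]
    exact P.not_dvd_index
  refine ⟨hP'.toSylow hidx, r, V.comap e.toMonoidHom, T.comap e.toMonoidHom, ?_, hr, hrp, ?_, ?_, ?_, ?_, ?_, ?_, ?_,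
    ?_⟩
  · refine ⟨⟨fun x y => Subtype.ext (e.injective ?_)⟩⟩
    have hx : e x.1 ∈ (P : Subgroup S') := x.2
    have hy : e y.1 ∈ (P : Subgroup S') := y.2
    have h1 := congrArg Subtype.val (hP.is_comm.comm (⟨e x.1, hx⟩ : ↥(P : Subgroup S')) ⟨e y.1, hy⟩)
    show e (x.1 * y.1) = e (y.1 * x.1)
    rw [map_mul, map_mul]
    exact h1
  · intro K hK hPK
    have h1 : K.map e.toMonoidHom = ⊥ := by
      refine hn _ (hK.map _) fun x hx => ?_
      have h2 : e.symm x ∈ ((P : Subgroup S').comap e.toMonoidHom) := by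
        rw [hmem, e.apply_symm_apply]; exact hx
      have h3 := mem_normalizer_iff.1 (hPK h2)
      rw [mem_normalizer_iff]
      intro y
      have h4 := h3 (e.symm y)
      have key : ∀ z : S', z ∈ K.map e.toMonoidHom ↔ e.symm z ∈ K := by
        intro z
        constructor
        · rintro ⟨k, hk, rfl⟩
          show e.symm (e k) ∈ K
          rw [e.symm_apply_apply]; exact hk
        · intro h
          exact ⟨_, h, e.apply_symm_apply z⟩
      show y ∈ K.map e.toMonoidHom ↔ x * y * x⁻¹ ∈ K.map e.toMonoidHom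
      rw [key, key, map_mul, map_mul, map_inv]
      exact h4
    exact (Subgroup.map_eq_bot_iff_of_injective K e.injective).1 h1
  · intro x hx
    exact hV hx
  · intro v hv
    apply e.injective
    rw [map_pow, map_one]
    exact hVp _ hv
  · intro h1
    apply hV1
    rw [eq_bot_iff]
    intro v hv
    have h2 : e.symm v ∈ V.comap e.toMonoidHom := by rw [hmem, e.apply_symm_apply]; exact hv
    rw [h1, mem_bot] at h2
    rw [mem_bot, ← e.apply_symm_apply v, h2, map_one]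
  · rw [hmc]
    refine le_trans (le_of_eq (Nat.card_congr
      { toFun := fun x => ⟨e x.1, x.2.1, by rw [← map_pow, x.2.2, map_one]⟩
        invFun := fun x => ⟨e.symm x.1, show e (e.symm x.1) ∈ (P : Subgroup S') by rw [e.apply_symm_apply]; exact x.2.1, by
          rw [← map_pow, x.2.2, map_one]⟩
        left_inv := fun x => Subtype.ext (e.symm_apply_apply _)
        right_inv := fun x => Subtype.ext (e.apply_symm_apply _) })) hc
  · exact hT.comap_of_injective _ e.injective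
  · intro t ht v hv
    apply e.injective
    rw [map_mul, map_mul]
    exact hTV _ ht _ hv
  · rwa [hmc]

open Cfsg.Agent.H132.S5 Cfsg.Agent.H533.T5 in
/-- **The strong pairs from the data.** -/
theorem CDat.spair {p : ℕ} [hp : Fact p.Prime] (h2 : p ≠ 2) {S : Type u} [Group S] [Finite S] [IsSimpleGroup S]
    (B : SBox.{u} p) (hna : ¬ IsMulCommutative S) (hlt : SBelow.{u} p (Nat.card S)) (h : CDat p S) {x y : S}
    (hx : orderOf x = p) (hy : orderOf y = p) : SPair p (⊤ : Subgroup S) x y := by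
  obtain ⟨P, r, V, T, hP, hr, hrp, hn, hV, hVp, hV1, hc, hT, hTV, hTc⟩ := h
  have : Fact r.Prime := ⟨hr⟩
  have hVo : V ≤ omega p (P : Subgroup S) (comm_of_hab hP) := fun v hv => mem_omega.2 ⟨hV hv, hVp v hv⟩
  refine spair_of_cent' h2 B hna hlt P hP hrp hn hVo hV1 ?_ hT hTV (fun h => hTc h.2) hx hy
  intro z hz hzV w hw
  set Ω := omega p (P : Subgroup S) (comm_of_hab hP) with hΩ
  have hcΩ : Nat.card Ω ≤ p * Nat.card V := hc
  -- the quotient has order `p`
  have hcomm : ∀ a ∈ Ω, ∀ b ∈ Ω, a * b = b * a := fun a ha b hb =>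
    comm_of_hab hP a (mem_omega.1 ha).1 b (mem_omega.1 hb).1
  set V' : Subgroup Ω := V.subgroupOf Ω with hV'
  have hnorm : V'.Normal := by
    refine ⟨fun v hv g => ?_⟩
    have h1 : g * v * g⁻¹ = v := by
      apply Subtype.ext
      show (g : S) * v * (g : S)⁻¹ = v
      rw [hcomm _ g.2 _ v.2, mul_inv_cancel_right]
    rwa [h1]
  have hcV : Nat.card V' = Nat.card V := Nat.card_congr (subgroupOfEquivOfLe hVo).toEquiv
  have hidx : V'.index ≤ p := by
    have h1 := V'.card_mul_index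
    rw [hcV] at h1
    rw [← h1, mul_comm p] at hcΩ
    exact Nat.le_of_mul_le_mul_left hcΩ Nat.card_pos
  have hzq : (QuotientGroup.mk ⟨z, hz⟩ : Ω ⧸ V') ≠ 1 := by
    rw [Ne, QuotientGroup.eq_one_iff]
    exact hzV
  have hzp : (QuotientGroup.mk ⟨z, hz⟩ : Ω ⧸ V') ^ p = 1 := by
    rw [← QuotientGroup.mk_pow, QuotientGroup.eq_one_iff]
    have h1 : (⟨z, hz⟩ : Ω) ^ p = 1 := Subtype.ext (mem_omega.1 hz).2
    rw [h1]
    exact one_mem _
  have hord : orderOf (QuotientGroup.mk ⟨z, hz⟩ : Ω ⧸ V') = p := orderOf_eq_prime hzp hzq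
  have htop : zpowers (QuotientGroup.mk ⟨z, hz⟩ : Ω ⧸ V') = ⊤ := by
    refine Subgroup.eq_top_of_le_card _ ?_
    rw [Nat.card_zpowers, hord]
    exact hidx
  have h3 : (QuotientGroup.mk ⟨w, hw⟩ : Ω ⧸ V')⁻¹ ∈ zpowers (QuotientGroup.mk ⟨z, hz⟩ : Ω ⧸ V') := by
    rw [htop]; exact mem_top _
  obtain ⟨n, hn'⟩ := mem_zpowers_iff.1 h3
  refine ⟨n, ?_⟩
  have h4 : (QuotientGroup.mk (⟨w, hw⟩ * (⟨z, hz⟩ : Ω) ^ n) : Ω ⧸ V') = 1 := by
    rw [QuotientGroup.mk_mul, QuotientGroup.mk_zpow, hn', mul_inv_cancel]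
  rw [QuotientGroup.eq_one_iff] at h4
  exact h4

/-! ### Arithmetic -/

/-- the power is `-1` -/
theorem pow_eq_neg_one {ℓ : ℕ} [hℓ : Fact ℓ.Prime] {q m : ℕ} (ho : orderOf (q : ZMod ℓ) = 6) (hm : m % 6 = 3) :
    (q : ZMod ℓ) ^ m = -1 := by
  have h6 : (q : ZMod ℓ) ^ 6 = 1 := by rw [← ho]; exact pow_orderOf_eq_one _
  have h3 : (q : ZMod ℓ) ^ 3 ≠ 1 := fun h => by
    have := orderOf_dvd_of_pow_eq_one h
    rw [ho] at this
    norm_num at this
  have h4 : (q : ZMod ℓ) ^ 3 = -1 := by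
    have h5 : ((q : ZMod ℓ) ^ 3 - 1) * ((q : ZMod ℓ) ^ 3 + 1) = 0 := by
      have e : ((q : ZMod ℓ) ^ 3 - 1) * ((q : ZMod ℓ) ^ 3 + 1) = (q : ZMod ℓ) ^ 6 - 1 := by ring
      rw [e, h6, sub_self]
    rcases mul_eq_zero.1 h5 with h | h
    · exact absurd (sub_eq_zero.1 h) h3
    · exact eq_neg_of_add_eq_zero_left h
  have h7 : m = 6 * (m / 6) + 3 := by omega
  rw [h7, pow_add, pow_mul, h6, one_pow, one_mul, h4]

/-- **Arithmetic.** -/
theorem not_dvd_pred {ℓ : ℕ} [hℓ : Fact ℓ.Prime] {r f m j : ℕ} (hr : r.Prime)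
    (ho : orderOf ((r ^ f : ℕ) : ZMod ℓ) = 6) (hm : m % 6 = 3) (hj : ((r ^ j : ℕ) : ZMod ℓ) = ((r ^ f : ℕ) : ZMod ℓ) ^ m) :
    ¬ r ^ j ∣ ℓ - 1 := by
  intro hdvd
  have hl := hℓ.out
  rw [pow_eq_neg_one ho hm] at hj
  have h1 : ℓ ∣ r ^ j + 1 := by
    rw [← CharP.cast_eq_zero_iff (ZMod ℓ) ℓ]
    push_cast at hj ⊢
    rw [hj]; ring
  have hl3 : 3 ≤ ℓ := by
    have h0 : ((r ^ f : ℕ) : ZMod ℓ) ≠ 0 := by
      intro h5
      rw [h5, orderOf_eq_zero_iff'.2 (fun n hn h6 => by rw [zero_pow hn.ne'] at h6; exact zero_ne_one h6)] at ho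
      omega
    have h2 := ZMod.orderOf_dvd_card_sub_one h0
    rw [ho] at h2
    have h3 := Nat.le_of_dvd (by have := hl.two_le; omega) h2
    omega
  have hf : f ≠ 0 := by
    rintro rfl
    rw [pow_zero, Nat.cast_one, orderOf_one] at ho
    omega
  have hle : r ^ j ≤ ℓ - 1 := Nat.le_of_dvd (by omega) hdvd
  have hge : ℓ ≤ r ^ j + 1 := Nat.le_of_dvd (by positivity) h1
  have heq : r ^ j = ℓ - 1 := by omega
  have hj0 : j ≠ 0 := by
    rintro rfl
    rw [pow_zero] at heq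
    omega
  -- the order of `r` modulo `ℓ`
  set n := orderOf (r : ZMod ℓ) with hn
  have hjr : (r : ZMod ℓ) ^ j = -1 := by rw [← hj]; push_cast; rfl
  have h2j : (r : ZMod ℓ) ^ (2 * j) = 1 := by rw [mul_comm, pow_mul, hjr]; ring
  have hnd : n ∣ 2 * j := orderOf_dvd_of_pow_eq_one h2j
  have hnpos : 0 < n := Nat.pos_of_dvd_of_pos hnd (by omega)
  have hnj : j < n := by
    by_contra hcon
    push Not at hcon
    have h3 : (r : ZMod ℓ) ^ n = 1 := pow_orderOf_eq_one _
    have h4 : ℓ ∣ r ^ n - 1 := by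
      rw [← CharP.cast_eq_zero_iff (ZMod ℓ) ℓ, Nat.cast_sub (Nat.one_le_pow _ _ hr.pos)]
      push_cast
      rw [h3, sub_self]
    have h5 : 1 < r ^ n := Nat.one_lt_pow hnpos.ne' hr.one_lt
    have h6 := Nat.le_of_dvd (by omega) h4
    have h7 : r ^ n ≤ r ^ j := Nat.pow_le_pow_right hr.pos hcon
    omega
  have hn2 : n = 2 * j := by
    obtain ⟨c, hc⟩ := hnd
    rcases Nat.lt_or_ge c 2 with h3 | h3
    · interval_cases c
      · omega
      · omega
    · have : n * 2 ≤ n * c := Nat.mul_le_mul_left _ h3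
      omega
  have h6n : 6 ∣ n := by
    have h3 : orderOf ((r : ZMod ℓ) ^ f) = n / Nat.gcd n f := orderOf_pow' _ hf
    have h4 : orderOf ((r : ZMod ℓ) ^ f) = 6 := by rw [← ho]; push_cast; rfl
    rw [h4] at h3
    rw [h3]
    exact Nat.div_dvd_of_dvd (Nat.gcd_dvd_left _ _)
  obtain ⟨i, hi⟩ : 3 ∣ j := by omega
  have h8 : r ^ i + 1 ∣ ℓ := by
    have e : ℓ = r ^ j + 1 := by omega
    rw [e, hi, mul_comm 3, pow_mul]
    have h3 : (r ^ i) ^ 3 + 1 = (r ^ i + 1) * ((r ^ i) ^ 2 - r ^ i + 1) := by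
      have h4 : r ^ i ≤ (r ^ i) ^ 2 := Nat.le_self_pow (by norm_num) _
      zify [h4]
      ring
    rw [h3]
    exact dvd_mul_right _ _
  have hi0 : i ≠ 0 := by rintro rfl; omega
  rcases (Nat.dvd_prime hl).1 h8 with h3 | h3
  · have := Nat.one_le_pow i r hr.pos
    omega
  · have h4 : r ^ i = r ^ j := by omega
    have h5 := Nat.pow_right_injective hr.two_le h4
    omega

/-! ### Abelian groups -/

/-- the order and the socle of an abelian group of exponent dividing `p ^ a` -/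
theorem card_le_omega {A : Type*} [CommGroup A] [Finite A] (p : ℕ) : ∀ a : ℕ,
    Nat.card {x : A // x ^ p ^ a = 1} ≤ Nat.card {x : A // x ^ p = 1} ^ a
  | 0 => by
    rw [pow_zero, pow_zero]
    refine le_of_eq (Nat.card_eq_one_iff_unique.2 ⟨⟨fun x y => Subtype.ext ?_⟩, ⟨⟨1, one_pow _⟩⟩⟩)
    have h1 := x.2
    have h2 := y.2
    rw [pow_one] at h1 h2
    rw [h1, h2]
  | a + 1 => by
    have ih := card_le_omega (A := A) p a
    let B : ℕ → Subgroup A := fun i => (powMonoidHom (p ^ i) : A →* A).ker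
    have hB : ∀ i x, x ∈ B i ↔ x ^ p ^ i = 1 := fun i x => by
      rw [MonoidHom.mem_ker]; rfl
    let f : B (a + 1) →* B 1 :=
      { toFun := fun x => ⟨x.1 ^ p ^ a, by
          rw [hB, pow_one, ← pow_mul, ← pow_succ]
          exact (hB _ _).1 x.2⟩
        map_one' := Subtype.ext (one_pow _)
        map_mul' := fun x y => Subtype.ext (mul_pow _ _ _) }
    have h1 : Nat.card (B (a + 1)) = Nat.card f.range * Nat.card f.ker := by
      rw [mul_comm, ← Subgroup.index_ker, Subgroup.card_mul_index]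
    have h2 : Nat.card f.range ≤ Nat.card (B 1) := Nat.card_le_card_of_injective _ Subtype.val_injective
    have h3 : Nat.card f.ker ≤ Nat.card (B a) := by
      refine Nat.card_le_card_of_injective (fun x => ⟨x.1.1, ?_⟩) ?_
      · rw [hB]
        exact congrArg Subtype.val x.2
      · intro x y h
        have h4 : x.1.1 = y.1.1 := congrArg (fun z : B a => (z : A)) h
        exact Subtype.ext (Subtype.ext h4)
    have hc : ∀ i, Nat.card (B i) = Nat.card {x : A // x ^ p ^ i = 1} := fun i =>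
      Nat.card_congr (Equiv.subtypeEquivRight fun x => hB i x)
    have hc1 : Nat.card (B 1) = Nat.card {x : A // x ^ p = 1} := by rw [hc, pow_one]
    calc Nat.card {x : A // x ^ p ^ (a + 1) = 1} = Nat.card (B (a + 1)) := (hc _).symm
      _ = Nat.card f.range * Nat.card f.ker := h1
      _ ≤ Nat.card (B 1) * Nat.card (B a) := Nat.mul_le_mul h2 h3
      _ ≤ Nat.card {x : A // x ^ p = 1} * Nat.card {x : A // x ^ p = 1} ^ a := by
        rw [hc1, hc]
        exact Nat.mul_le_mul_left _ ih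
      _ = _ := (pow_succ' _ _).symm

/-! ### Parabolic subgroups -/

section Par

open CoxeterSystem Cfsg.Agent.ChevalleyStructure.CoxeterGeom Cfsg.Agent.Tits.Roots Cfsg.Agent.Tits.Core
  Cfsg.Agent.Nodes.Reps Cfsg.Agent.Nodes.BNOf Cfsg.Agent.Nodes.StabComb Cfsg.Agent.Nodes.LeviDec
  Cfsg.Agent.KFacts.RgdBorelTits Cfsg.Agent.KFacts.RgdFilt Cfsg.Agent.H1.RgdRow

variable {I W Y : Type*} [Fintype I] [DecidableEq I] [Group W] [Group Y] {M : CoxeterMatrix I}
  {cs : CoxeterSystem M W} {A : I → I → ℤ} {h : IsCartan M A} {r : ℕ} {T : Subgroup Y} {n : I → Y}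
  {X : (I → ℤ) → Subgroup Y} {R : RGD cs h r T n X}

/-- **A Sylow `p`-subgroup normalises no nontrivial `r`-subgroup.** -/
theorem no_norm_of_index [Finite W] [Finite Y] [hr : Fact r.Prime] {F : (I → ℤ) → ℝ → Subgroup Y} (hF : Filt R F)
    (hG : Cfsg.Agent.Nodes.RGDLib.G1 cs h X = ⊤) {p : ℕ} [Fact p.Prime]
    (hidx : ∀ j : I, p ∣ (PJ cs h T X {i | i ≠ j}).index) (P : Sylow p Y) (K : Subgroup Y) (hK : IsPGroup r K)
    (hPK : (P : Subgroup Y) ≤ normalizer (K : Set Y)) : K = ⊥ := by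
  by_contra hK1
  obtain ⟨g, J, hJ, -, hN⟩ := borel_tits_of_filt hF hG hK hK1
  obtain ⟨j, hj⟩ := (Set.ne_univ_iff_exists_notMem J).1 hJ
  have h1 : (P : Subgroup Y) ≤ cj g (PJ cs h T X {i | i ≠ j}) := by
    refine hPK.trans (hN.trans (Subgroup.map_mono (Cfsg.Agent.BiChar.RankPar.PJ_mono fun i hi => ?_)))
    show i ≠ j
    rintro rfl
    exact hj hi
  have h2 : (cj g (PJ cs h T X {i | i ≠ j})).index = (PJ cs h T X {i | i ≠ j}).index :=
    Subgroup.index_map_equiv _ (MulAut.conj g)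
  exact P.not_dvd_index ((hidx j).trans (h2 ▸ Subgroup.index_dvd_of_le h1))

/-- the fixed points of a `p`-group on a normalised subgroup -/
theorem card_cent_modEq [Finite Y] {p : ℕ} [Fact p.Prime] {V Q : Subgroup Y} (hV : IsPGroup p V)
    (hVQ : V ≤ normalizer (Q : Set Y)) :
    Nat.card Q ≡ Nat.card ↥(Q ⊓ centralizer (V : Set Y)) [MOD p] := by
  let act : MulAction V Q :=
    { smul := fun v x => ⟨v.1 * x.1 * v.1⁻¹, (mem_normalizer_iff.1 (hVQ v.2) x.1).1 x.2⟩
      one_smul := fun x => Subtype.ext (by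
        show (1 : Y) * x.1 * (1 : Y)⁻¹ = x.1
        group)
      mul_smul := fun v w x => Subtype.ext (by
        show (v.1 * w.1) * x.1 * (v.1 * w.1)⁻¹ = v.1 * (w.1 * x.1 * w.1⁻¹) * v.1⁻¹
        group) }
  have h1 := hV.card_modEq_card_fixedPoints Q
  have h2 : Nat.card (MulAction.fixedPoints V Q) = Nat.card ↥(Q ⊓ centralizer (V : Set Y)) := by
    refine Nat.card_congr
      { toFun := fun x => ⟨x.1.1, mem_inf.2 ⟨x.1.2, mem_centralizer_iff.2 fun v hv => ?_⟩⟩
        invFun := fun x => ⟨⟨x.1, (mem_inf.1 x.2).1⟩, fun v => Subtype.ext ?_⟩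
        left_inv := fun x => rfl
        right_inv := fun x => rfl }
    · have h3 := congrArg Subtype.val (x.2 ⟨v, hv⟩)
      have h4 : v * x.1.1 * v⁻¹ = x.1.1 := h3
      exact mul_inv_eq_iff_eq_mul.1 h4
    · show v.1 * x.1 * v.1⁻¹ = x.1
      rw [mem_centralizer_iff.1 (mem_inf.1 x.2).2 v.1 v.2, mul_inv_cancel_right]
  rwa [h2] at h1

/-- **The data from a parabolic subgroup.** -/
theorem cdat_of_par [Finite W] [Finite Y] [hr : Fact r.Prime] {F : (I → ℤ) → ℝ → Subgroup Y} (hF : Filt R F)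
    (hG : Cfsg.Agent.Nodes.RGDLib.G1 cs h X = ⊤) {p : ℕ} [hp : Fact p.Prime] (hrp : r ≠ p)
    (hidx : ∀ j : I, p ∣ (PJ cs h T X {i | i ≠ j}).index) {j₀ : I} {k a f m : ℕ} (hk : 1 ≤ k) (ha : 1 ≤ a)
    (hcomm : ∀ P : Sylow p Y, IsMulCommutative (P : Subgroup Y))
    (hexp : ∀ P : Sylow p Y, ∀ x ∈ (P : Subgroup Y), x ^ p ^ a = 1)
    (hom : ∀ P : Sylow p Y, Nat.card {x : Y // x ∈ (P : Subgroup Y) ∧ x ^ p = 1} ≤ p ^ (k + 1))
    (hcV : Nat.card (VJ cs h X {i | i ≠ j₀}) = (r ^ f) ^ m) (hm : m % 6 = 3)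
    (ho : orderOf ((r ^ f : ℕ) : ZMod p) = 6) (hPJ : p ^ (a * k) ∣ Nat.card (PJ cs h T X {i | i ≠ j₀})) :
    CDat p Y := by
  classical
  set Q := VJ cs h X {i | i ≠ j₀} with hQ
  set L := PJ cs h T X {i | i ≠ j₀} with hL
  obtain ⟨P0⟩ : Nonempty (Sylow p L) := inferInstance
  set H0 : Subgroup Y := (P0 : Subgroup L).map L.subtype with hH0
  have hH0p : IsPGroup p H0 := P0.isPGroup'.map _
  have hH0L : H0 ≤ L := Subgroup.map_subtype_le _
  have hcH0 : p ^ (a * k) ≤ Nat.card H0 := by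
    have h1 : Nat.card H0 = Nat.card (P0 : Subgroup L) :=
      (Nat.card_congr ((P0 : Subgroup L).equivMapOfInjective L.subtype L.subtype_injective).toEquiv).symm
    rw [h1]
    exact Nat.le_of_dvd Nat.card_pos (P0.pow_dvd_card_of_pow_dvd_card hPJ)
  obtain ⟨P, hP⟩ := hH0p.exists_le_sylow
  have hPc := hcomm P
  let CG : CommGroup H0 :=
    { (inferInstance : Group H0) with
      mul_comm := fun x y => Subtype.ext (show x.1 * y.1 = y.1 * x.1 from congrArg Subtype.val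
        (hPc.is_comm.comm (⟨x.1, hP x.2⟩ : ↥(P : Subgroup Y)) ⟨y.1, hP y.2⟩)) }
  -- the socle of `H0`
  let Om : Subgroup H0 := (powMonoidHom p : H0 →* H0).ker
  have hOm : ∀ x, x ∈ Om ↔ x ^ p = 1 := fun x => by rw [MonoidHom.mem_ker]; rfl
  have h1 : Nat.card H0 ≤ Nat.card Om ^ a := by
    have h2 := card_le_omega (A := H0) p a
    have h3 : Nat.card {x : H0 // x ^ p ^ a = 1} = Nat.card H0 := by
      refine Nat.card_congr
        { toFun := fun x => x.1
          invFun := fun x => ⟨x, Subtype.ext (hexp P _ (hP x.2))⟩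
          left_inv := fun x => rfl
          right_inv := fun x => rfl }
    have h4 : Nat.card {x : H0 // x ^ p = 1} = Nat.card Om :=
      Nat.card_congr (Equiv.subtypeEquivRight fun x => (hOm x).symm)
    rwa [h3, h4] at h2
  obtain ⟨s, hs⟩ := IsPGroup.iff_card.1 (hH0p.to_subgroup Om)
  have hks : k ≤ s := by
    have h2 := hcH0.trans h1
    rw [hs, ← pow_mul] at h2
    have h3 := (Nat.pow_le_pow_iff_right hp.out.one_lt).1 h2
    rw [mul_comm s] at h3
    exact Nat.le_of_mul_le_mul_left h3 ha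
  obtain ⟨V0, hV0⟩ := Sylow.exists_subgroup_card_pow_prime (G := Om) p (n := k) (by rw [hs]; exact pow_dvd_pow p hks)
  set V : Subgroup Y := (V0.map Om.subtype).map H0.subtype with hV
  have hcVV : Nat.card V = p ^ k := by
    rw [← hV0]
    refine (Nat.card_congr (((V0.map Om.subtype).equivMapOfInjective H0.subtype
      H0.subtype_injective).toEquiv)).symm.trans ?_
    exact (Nat.card_congr ((V0.equivMapOfInjective Om.subtype Om.subtype_injective).toEquiv)).symm
  have hVH : V ≤ H0 := Subgroup.map_subtype_le _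
  have hVp : ∀ v ∈ V, v ^ p = 1 := by
    rintro _ ⟨_, ⟨v, -, rfl⟩, rfl⟩
    exact congrArg Subtype.val ((hOm _).1 v.2)
  have hV1 : V ≠ ⊥ := by
    intro h2
    rw [h2, Subgroup.card_bot] at hcVV
    have := Nat.one_lt_pow (Nat.one_le_iff_ne_zero.1 hk) hp.out.one_lt
    omega
  have hVpg : IsPGroup p V := hH0p.to_le hVH
  have hQr : IsPGroup r Q := VJ_isPGroup R _
  have hTr : IsPGroup r ↥(Q ⊓ centralizer (V : Set Y)) := hQr.to_le inf_le_left
  refine ⟨P, r, V, Q ⊓ centralizer (V : Set Y), hPc, hr.out, hrp, fun K hK hPK => no_norm_of_index hF hG hidx P K hK hPK,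
    hVH.trans hP, hVp, hV1, ?_, hTr, ?_, ?_⟩
  · rw [hcVV, ← pow_succ']
    exact hom P
  · intro t ht v hv
    exact (mem_centralizer_iff.1 (mem_inf.1 ht).2 v hv).symm
  · obtain ⟨j, hj⟩ := IsPGroup.iff_card.1 hTr
    rw [hj]
    refine not_dvd_pred hr.out ho hm ?_
    have h2 := card_cent_modEq hVpg ((hVH.trans hH0L).trans (PJ_le_normalizer_VJ R {i | i ≠ j₀}))
    rw [hcV, hj] at h2
    have h3 := (ZMod.natCast_eq_natCast_iff _ _ _).2 h2
    rw [← h3]
    push_cast
    rfl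

end Par

end Cfsg.Agent.H28.S5Par
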