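import Cfsg.Agent.H28.ExcRow
import Cfsg.Agent.CpAut.RgdTwE6
import Cfsg.Agent.CpAut.RgdTwD4

/-!
# Minimal counterexamples to the `Z*_p` statement: `²E₆(q)`, `³D₄(q)` of characteristic `r ≠ p`

* `false_twE6`, `false_twD4` : `x ∉ G'` if `HasCent r p L`;
* `row_three_twE6`, `row_three_twD4`.
-/

set_option autoImplicit false
set_option linter.unusedSectionVars false
set_option maxHeartbeats 400000

namespace Cfsg.Agent.H28.ExcRowTw

open CoxeterSystem Cfsg.Agent.ChevalleyStructure.CoxeterGeom Cfsg.Agent.Tits.Roots Cfsg.Agent.Tits.Core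
  Cfsg.Agent.Nodes.Reps Cfsg.Agent.Nodes.BNOf Cfsg.Agent.Nodes.Bruhat
  Cfsg.Agent.Nodes.OppDec Cfsg.Agent.Nodes.RGDChev Cfsg.Agent.Nodes.RGDTwGen
  Cfsg.Agent.Nodes.RGDFold Cfsg.Agent.Nodes.RGDFoldSL
  Cfsg.Agent.KFacts.RgdAut Cfsg.Agent.KFacts.RgdDiag Cfsg.Agent.KFacts.RgdRigid
  Cfsg.Agent.KFacts.RgdField
open Cfsg.Lie Cfsg.Agent.ChevalleyStructure Cfsg.Agent.ChevalleyStructure.Elts Cfsg.Agent.ChevalleyStructure.TwistedU
open Cfsg.Agent.H28.SLTwoRow Cfsg.Agent.H28.FrameRow Cfsg.Agent.H28.ExcRow Cfsg.Agent.H256.ZRed Cfsg.Agent.H256.ZTool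
open Cfsg.Agent.ChevalleyStructure.SL2Hom (up lo)
open Subgroup (mem_centralizer_singleton_iff mem_sup_left mem_sup_right mem_inf mem_subgroupOf centralizer coe_mul)

universe u v

theorem wS_eq (F : Type*) [Field F] : wS (1 : F) = wy F := by
  apply Subtype.ext
  rw [coe_wS one_ne_zero, inv_one]
  rfl

/-- The data of a node. -/
theorem rk_of {I W L : Type*} [Fintype I] [DecidableEq I] [Group W] [Group L] {M : CoxeterMatrix I}
    {cs : CoxeterSystem M W} {A : I → I → ℤ} {hA : IsCartan M A} {r : ℕ} {T : Subgroup L} {n : I → L}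
    {X : (I → ℤ) → Subgroup L} (R : RGD cs hA r T n X) {i : I} {F : Type*} [Field F] {Φ : SL2 F →* L}
    (hX : ∀ g, g ∈ X (sr i) ↔ ∃ a, g = Φ (up a)) (hw : Φ (wS 1) = n i) {χ : L → F}
    (C : Coord T (X (sr i)) (fun a => Φ (up a)) χ) : Rk T (X (sr i)) (X (-sr i)) Φ where
  pos := hX
  neg y := by
    have h1 : cj (n i) (X (sr i)) = X (-sr i) := by
      rw [R.conj i _ (isRoot_sr cs hA i), rep_simple_sr]
    have h2 : ∀ a, n i * Φ (up a) * (n i)⁻¹ = Φ (lo (-a)) := by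
      intro a
      rw [← hw, wS_eq, ← map_mul, wy_up, map_mul, mul_inv_cancel_right]
    rw [← h1]
    constructor
    · rintro ⟨w, hw, rfl⟩
      obtain ⟨a, rfl⟩ := (hX w).1 hw
      exact ⟨-a, h2 a⟩
    · rintro ⟨a, rfl⟩
      refine ⟨Φ (up (-a)), (hX _).2 ⟨_, rfl⟩, ?_⟩
      have h3 := h2 (-a)
      rw [neg_neg] at h3
      exact h3
  inj := C.inj
  tor t ht := ⟨χ t, fun a => C.act t ht a⟩

section E6

open Cfsg.Agent.Nodes.RGDTwE6 Cfsg.Agent.Nodes.RGDTwNode.E6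
open Cfsg.Agent.KFacts.TwESix.Out Cfsg.Agent.KFacts.TwESix.OutTwo

variable {K : Type u} [Field K] [Fintype K] {q : ℕ} (hq : IsPrimePow q) (hK : Fintype.card K = q ^ 2)

theorem finite_F4 : Finite CoxeterMatrix.F₄.Group :=
  finite_W (D := chevF4) (l := 4) (M := CoxeterMatrix.F₄) (by simp [IsType, typeList]) CoxeterMatrix.F₄.toCoxeterSystem

include hq hK

/-- `G' ≅ ²E₆(q)`: `x ∉ G'`. -/
theorem false_twE6 (r : ℕ) [Fact r.Prime] [CharP K r] {G : Type v} [Group G] [Finite G] {p : ℕ}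
    [Fact p.Prime] {x : G} (hp2 : p ≠ 2) (h : MinCex p x) (e : commutator G ≃* ↥(twistedE6 K q)) (hrp : r ≠ p)
    (hs : HasCent r p ↥(twistedE6 K q)) (hx : x ∈ commutator G) : False := by
  have := finite_F4
  obtain ⟨φ, hφ, hqq⟩ := TwE6Basic.exists_frob hq hK
  have R := Cfsg.Agent.Nodes.RGDTwE6.rgd CoxeterMatrix.F₄.toCoxeterSystem hφ hqq r
  refine false_inner R (G1_eq_top CoxeterMatrix.F₄.toCoxeterSystem hφ hqq) hp2 (fun i => ?_) (fun i => ?_) h e hrp hs hx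
  · obtain ⟨j, hj⟩ := Fintype.exists_ne_of_one_lt_card (by rw [Fintype.card_fin]; norm_num) i
    exact ⟨j, hj⟩
  · exact ⟨KF φ i, inferInstance, PhiE hφ hqq i, rk_of R (mem_X hφ hqq i) (PhiE_wS hφ hqq i) (coordE hφ hqq i)⟩

/-- `Row 3 ²E₆(q)`. -/
theorem row_three_twE6 (r : ℕ) [Fact r.Prime] [CharP K r] (hr3 : r ≠ 3) : Row.{v} 3 ↥(twistedE6 K q) := by
  intro G _ _ x h e
  have : Fact (Nat.Prime 3) := ⟨Nat.prime_three⟩
  have := finite_F4
  obtain ⟨φ, hφ, hqq⟩ := TwE6Basic.exists_frob hq hK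
  have R := Cfsg.Agent.Nodes.RGDTwE6.rgd CoxeterMatrix.F₄.toCoxeterSystem hφ hqq r
  have N : ∀ i, Rk (T K q) (X φ q (sr i)) (X φ q (-sr i)) (PhiE hφ hqq i) := fun i =>
    rk_of R (mem_X hφ hqq i) (PhiE_wS hφ hqq i) (coordE hφ hqq i)
  refine false_dvd R (G1_eq_top CoxeterMatrix.F₄.toCoxeterSystem hφ hqq) (by norm_num) (fun i => ?_) (fun i => ?_)
    (fun σ hσ h3 => ?_) h e hr3 (hasCent_three R (i := 0) (j := 2) (by decide) (by decide) (N 2))
  · obtain ⟨j, hj⟩ := Fintype.exists_ne_of_one_lt_card (by rw [Fintype.card_fin]; norm_num) i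
    exact ⟨j, hj⟩
  · exact ⟨KF φ i, inferInstance, PhiE hφ hqq i, N i, inferInstance, three_dvd _⟩
  · have h2 := H936.symTwo_F4 σ hσ
    rw [pow_succ, h2, one_mul] at h3
    exact h3

end E6

section D4

open Cfsg.Agent.Nodes.RGDTwD4 Cfsg.Agent.Nodes.RGDTwNode.D4
open Cfsg.Agent.ChevalleyStructure.D4Fixed (sig)
open Cfsg.Agent.KFacts.TwDFour.Out

variable {K : Type u} [Field K] [Fintype K] {q : ℕ} (hq : IsPrimePow q) (hK : Fintype.card K = q ^ 3)

theorem finite_G2 : Finite CoxeterMatrix.G₂.Group :=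
  finite_W (D := chevG2) (l := 2) (M := CoxeterMatrix.G₂) (by simp [IsType, typeList]) CoxeterMatrix.G₂.toCoxeterSystem

include hq hK

/-- `G' ≅ ³D₄(q)`: `x ∉ G'`. -/
theorem false_twD4 (r : ℕ) [Fact r.Prime] [CharP K r] {G : Type v} [Group G] [Finite G] {p : ℕ}
    [Fact p.Prime] {x : G} (hp2 : p ≠ 2) (h : MinCex p x) (e : commutator G ≃* ↥(twistedD4 K q)) (hrp : r ≠ p)
    (hs : HasCent r p ↥(twistedD4 K q)) (hx : x ∈ commutator G) : False := by
  have := finite_G2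
  obtain ⟨φ, hφ⟩ := D4Fixed.exists_frob hq hK
  have R := Cfsg.Agent.Nodes.RGDTwD4.rgd CoxeterMatrix.G₂.toCoxeterSystem hK hφ r
  refine false_inner R (G1_eq_top CoxeterMatrix.G₂.toCoxeterSystem hK hφ) hp2 (fun i => ?_) (fun i => ?_) h e hrp hs hx
  · obtain ⟨j, hj⟩ := Fintype.exists_ne_of_one_lt_card (by rw [Fintype.card_fin]; norm_num) i
    exact ⟨j, hj⟩
  · exact ⟨KD φ i, inferInstance, PhiD hφ hK i, rk_of R (mem_X hφ hK i) (PhiD_wS hφ hK i) (coordD hφ hK i)⟩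

omit hq hK in
theorem comm23 : ∀ r ∈ [18, 13, 12, 5, 10, 11], r < chevD4.nroots ∧ 23 ≠ r ∧ 23 ≠ chevD4.neg r ∧
    chevD4.commTerms r 23 = [] := by decide +kernel

omit hq hK [Fintype K] in
/-- The highest root group commutes with the short simple root groups. -/
theorem commute_top {g : GL chevD4.Idx K} {S : Set ℕ} (hS : ∀ r ∈ S, r ∈ [18, 13, 12, 5, 10, 11])
    (hg : g ∈ rspan (xG Cfsg.Agent.Nodes.RGDTwD4.hp.inList) S) {s : GL chevD4.Idx K}
    (hs : s ∈ rspan (xG Cfsg.Agent.Nodes.RGDTwD4.hp.inList) {k | k ∈ [23]}) : g * s = s * g := by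
  have h1 : ∀ r ∈ S, ∀ t u : K, Commute (xG Cfsg.Agent.Nodes.RGDTwD4.hp.inList r t)
      (xG Cfsg.Agent.Nodes.RGDTwD4.hp.inList 23 u) := by
    intro r hr t u
    obtain ⟨h2, h3, h4, h5⟩ := comm23 r (hS r hr)
    exact commute_of_nil Cfsg.Agent.Nodes.RGDTwD4.hp h2 (by decide +kernel) h3 h4 h5 t u
  have h2 : rspan (xG (F := K) Cfsg.Agent.Nodes.RGDTwD4.hp.inList) {k | k ∈ [23]} ≤ centralizer {g} := by
    refine rspan_le _ fun k hk u => ?_
    rw [Set.mem_ofPred_eq, List.mem_singleton] at hk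
    subst hk
    rw [mem_centralizer_singleton_iff]
    have h3 : rspan (xG (F := K) Cfsg.Agent.Nodes.RGDTwD4.hp.inList) S ≤
        centralizer {xG Cfsg.Agent.Nodes.RGDTwD4.hp.inList 23 u} := by
      refine rspan_le _ fun r hr t => ?_
      rw [mem_centralizer_singleton_iff]
      exact h1 r hr t u
    exact (mem_centralizer_singleton_iff.1 (h3 hg)).symm
  exact (mem_centralizer_singleton_iff.1 (h2 hs)).symm

/-- `Row 3 ³D₄(q)`. -/
theorem row_three_twD4 (r : ℕ) [Fact r.Prime] [CharP K r] (hr3 : r ≠ 3) : Row.{v} 3 ↥(twistedD4 K q) := by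
  intro G _ _ x h e
  have : Fact (Nat.Prime 3) := ⟨Nat.prime_three⟩
  have := finite_G2
  obtain ⟨φ, hφ⟩ := D4Fixed.exists_frob hq hK
  have R := Cfsg.Agent.Nodes.RGDTwD4.rgd CoxeterMatrix.G₂.toCoxeterSystem hK hφ r
  have N : ∀ i, Rk (T K q) (X φ q (sr i)) (X φ q (-sr i)) (PhiD hφ hK i) := fun i =>
    rk_of R (mem_X hφ hK i) (PhiD_wS hφ hK i) (coordD hφ hK i)
  have hcent : HasCent r 3 ↥(twistedD4 K q) := by
    have hlt : ∀ k ∈ [23], k < chevD4.nroots := by decide +kernel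
    have hlt1 : ∀ k ∈ [18, 13, 12], k < chevD4.nroots := by decide +kernel
    have hlt2 : ∀ k ∈ [5, 10, 11], k < chevD4.nroots := by decide +kernel
    have hcls : ∀ k < chevD4.nroots, (V chevD4 J k = V chevD4 J 23 ↔ k ∈ [23]) := by decide +kernel
    have hroot : IsRoot CoxeterMatrix.G₂.toCoxeterSystem isCartan (V chevD4 J 23) := by
      rw [Cfsg.Agent.Nodes.RGDTwD4.foldData.isRoot_iff Cfsg.Agent.Nodes.RGDTwD4.hp.checked
        (fun i r hr => wp_lt Cfsg.Agent.Nodes.RGDTwD4.hp _ hr)]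
      exact ⟨23, by decide +kernel, rfl⟩
    obtain ⟨s, hs, hs1⟩ : ∃ s ∈ X φ q (V chevD4 J 23), s ≠ 1 := by
      by_contra h3
      push Not at h3
      exact X_ne_bot R hroot ((Subgroup.eq_bot_iff_forall _).2 h3)
    refine ⟨s, hs1, ?_, PhiD hφ hK 1 (g3 _), orderOf_g3 (N 1) (R.pgrp 1) (R.notp 1), ?_⟩
    · obtain ⟨k, hk⟩ := R.pgrp' hroot ⟨s, hs⟩
      have h3 : s ^ r ^ k = 1 := congrArg Subtype.val hk
      obtain ⟨j, -, hj⟩ := (Nat.dvd_prime_pow (Fact.out : r.Prime)).1 (orderOf_dvd_of_pow_eq_one h3)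
      exact ⟨j, hj⟩
    · have hs' : (s : GL chevD4.Idx K) ∈ rspan (xG Cfsg.Agent.Nodes.RGDTwD4.hp.inList) {k | k ∈ [23]} := by
        have h3 : (s : GL chevD4.Idx K) ∈ Nodes.RGDFold.R chevD4 Cfsg.Agent.Nodes.RGDTwD4.hp K J (sig φ)
            (V chevD4 J 23) := hs
        rw [R_eq hcls hlt] at h3
        exact h3.1
      have h4 : (PhiD hφ hK 1).range ≤ centralizer ({s} : Set ↥(twistedD4 K q)) := by
        refine range_le (fun a => ?_) (fun a => ?_)
        · rw [mem_centralizer_singleton_iff]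
          apply Subtype.ext
          have h5 : (PhiD hφ hK 1 (up a) : ↥(twistedD4 K q)) ∈ X φ q (sr 1) := ((N 1).pos _).2 ⟨a, rfl⟩
          have h6 : ((PhiD hφ hK 1 (up a) : ↥(twistedD4 K q)) : GL chevD4.Idx K) ∈
              Nodes.RGDFold.R chevD4 Cfsg.Agent.Nodes.RGDTwD4.hp K J (sig φ) (sr 1) := h5
          rw [R_eq cls1 hlt1] at h6
          exact commute_top (S := {k | k ∈ [18, 13, 12]}) (fun r hr => by
            simp only [Set.mem_ofPred_eq] at hr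
            simp only [List.mem_cons, List.not_mem_nil, or_false] at hr ⊢
            tauto) h6.1 hs'
        · rw [mem_centralizer_singleton_iff]
          apply Subtype.ext
          have h5 : (PhiD hφ hK 1 (lo a) : ↥(twistedD4 K q)) ∈ X φ q (-sr 1) := ((N 1).neg _).2 ⟨a, rfl⟩
          have h6 : ((PhiD hφ hK 1 (lo a) : ↥(twistedD4 K q)) : GL chevD4.Idx K) ∈
              Nodes.RGDFold.R chevD4 Cfsg.Agent.Nodes.RGDTwD4.hp K J (sig φ) (-sr 1) := h5
          rw [R_eq cls1' hlt2] at h6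
          exact commute_top (S := {k | k ∈ [5, 10, 11]}) (fun r hr => by
            simp only [Set.mem_ofPred_eq] at hr
            simp only [List.mem_cons, List.not_mem_nil, or_false] at hr ⊢
            tauto) h6.1 hs'
      exact mem_centralizer_singleton_iff.1 (h4 ⟨_, rfl⟩)
  refine false_dvd R (G1_eq_top CoxeterMatrix.G₂.toCoxeterSystem hK hφ) (by norm_num) (fun i => ?_) (fun i => ?_)
    (fun σ hσ h3 => ?_) h e hr3 hcent
  · obtain ⟨j, hj⟩ := Fintype.exists_ne_of_one_lt_card (by rw [Fintype.card_fin]; norm_num) i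
    exact ⟨j, hj⟩
  · exact ⟨KD φ i, inferInstance, PhiD hφ hK i, N i, inferInstance, three_dvd _⟩
  · have h2 := H936.symTwo_two _ σ hσ
    rw [pow_succ, h2, one_mul] at h3
    exact h3

end D4

end Cfsg.Agent.H28.ExcRowTw
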