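import Cfsg.Agent.H28.T5Tor
import Cfsg.Agent.H493.PGE7
import Cfsg.Agent.H493.PGE8
import Cfsg.Agent.H493.PGE6T
import Cfsg.Agent.H378.CycTab
import Cfsg.Agent.S1066

/-!
# Commutative Sylow `5`- and `7`-subgroups of `E₆(q)`, `²E₆(q)`, `E₇(q)`, `E₈(q)`

* `5 ∣ q² + 1` : `E₆(q)`, `²E₆(q)`, `E₇(q)`;
* `7 ∣ q² + q + 1` and `7 ∣ q² - q + 1` : `E₇(q)`, `E₈(q)`.
-/

set_option autoImplicit false
set_option linter.unusedSectionVars false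

namespace Cfsg.Agent.H28.T5TorRows

open CoxeterSystem Cfsg Cfsg.Lie Cfsg.Lie.ChevalleyDatum
open Cfsg.Agent.ChevalleyStructure Cfsg.Agent.ChevalleyStructure.Elts Cfsg.Agent.ChevalleyStructure.CoxeterGeom
  Cfsg.Agent.ChevalleyStructure.CoxeterGeomTypes Cfsg.Agent.ChevalleyStructure.NPerm
open Cfsg.Agent.Tits.Roots Cfsg.Agent.Tits.Core Cfsg.Agent.Nodes Cfsg.Agent.Nodes.Reps Cfsg.Agent.Nodes.BNOf
  Cfsg.Agent.Nodes.RGDChev Cfsg.Agent.Nodes.Bruhat Cfsg.Agent.Nodes.SubComb Cfsg.Agent.Nodes.Coroot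
open Cfsg.Agent.BpExc.Tow Cfsg.Agent.BpExc.TowChev Cfsg.Agent.BpExc.FamExt Cfsg.Agent.BpExc.FamUntw
  Cfsg.Agent.BpExc.FamInst Cfsg.Agent.BpExc.LangFr Cfsg.Agent.BpExc.FamField Cfsg.Agent.BpExc.Fr
open Cfsg.Agent.GpExc.Field (emb emb_injective)
open Cfsg.Agent.H129.WData Cfsg.Agent.H493.PGTorus Cfsg.Agent.H493.PGTwist Cfsg.Agent.H378.CycTab
open Cfsg.Agent.H28.T5Tor

universe u

/-- the tables -/
def TabOK {l f r : ℕ} (Th : Mat l) (c : Fin (f + 1) → ℤ) (V : Fin r → Fin (f + 1) → Fin l → ℤ)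
    (U : Fin r → Fin l → ℤ) : Prop :=
  (∀ i, EigOK (fun i j => Th j i) c (V i) (U i)) ∧ ∀ i j, i ≠ j → ∀ s, ∑ m, U j m * V i s m = 0

instance decTabOK {l f r : ℕ} (Th : Mat l) (c : Fin (f + 1) → ℤ) (V : Fin r → Fin (f + 1) → Fin l → ℤ)
    (U : Fin r → Fin l → ℤ) : Decidable (TabOK Th c V U) := by
  unfold TabOK; infer_instance

/-- the matrix of a product -/
def MulOK {l : ℕ} (T T' T'' : Mat l) : Prop := ∀ j m, T'' j m = ∑ n, T' j n * T n m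

instance decMulOK {l : ℕ} (T T' T'' : Mat l) : Decidable (MulOK T T' T'') := by
  unfold MulOK; infer_instance

section Rows

variable {D : ChevalleyDatum} {l : ℕ} {M : CoxeterMatrix (Fin l)} (hp : IsType D l M) {W : Type*} [Group W]
  [Finite W] (cs : CoxeterSystem M W)

theorem rows_mul {w w' : W} {T T' T'' : Mat l} (h : ∀ j, rep cs hp.isCartan w (sr j) = T j)
    (h' : ∀ j, rep cs hp.isCartan w' (sr j) = T' j) (hm : MulOK T T' T'') (j : Fin l) :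
    rep cs hp.isCartan (w * w') (sr j) = T'' j := by
  funext m
  rw [map_mul, Module.End.mul_apply, h', rep_apply_eq hp cs h, hm]

end Rows

/-! ### the numbers -/

section Num

open Cfsg.Agent.H172.SI

variable {ℓ : ℕ} [hℓ : Fact ℓ.Prime]

theorem pow_dvd_pv {q e f : ℕ} (hq : 1 ≤ q) {c : Fin f → ℤ} {G : ℤ} (hG : pv c (q : ℤ) * G = (q : ℤ) ^ e - 1)
    (hGℓ : ¬ (ℓ : ℤ) ∣ G) : ((ℓ ^ padicValNat ℓ (q ^ e - 1) : ℕ) : ℤ) ∣ pv c (q : ℤ) := by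
  have h1 : ((ℓ ^ padicValNat ℓ (q ^ e - 1) : ℕ) : ℤ) ∣ pv c (q : ℤ) * G := by
    have h2 : ((q ^ e - 1 : ℕ) : ℤ) = (q : ℤ) ^ e - 1 := by
      rw [Nat.cast_sub (Nat.one_le_pow _ _ hq)]; simp
    rw [hG, ← h2]
    exact_mod_cast pow_padicValNat_dvd
  refine IsCoprime.dvd_of_dvd_mul_right ?_ h1
  rw [Nat.cast_pow]
  apply IsCoprime.pow_left
  have hpi : Prime (ℓ : ℤ) := Nat.prime_iff_prime_int.1 hℓ.out
  exact (Irreducible.coprime_iff_not_dvd hpi.irreducible).2 hGℓ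

theorem dvd_c3 {q : ℕ} (hq : 1 ≤ q) (ho : orderOf (q : ZMod ℓ) = 3) :
    ((ℓ ^ padicValNat ℓ (q ^ 3 - 1) : ℕ) : ℤ) ∣ pv c3 (q : ℤ) := by
  refine pow_dvd_pv (G := (q : ℤ) ^ 1 - 1) hq (by rw [pv3]; ring) ?_
  rw [dvd_iff, ho]
  norm_num

theorem dvd_c4 {q : ℕ} (hq : 1 ≤ q) (ho : orderOf (q : ZMod ℓ) = 4) :
    ((ℓ ^ padicValNat ℓ (q ^ 4 - 1) : ℕ) : ℤ) ∣ pv c4 (q : ℤ) := by
  refine pow_dvd_pv (G := (q : ℤ) ^ 2 - 1) hq (by rw [pv4]; ring) ?_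
  rw [dvd_iff, ho]
  norm_num

theorem dvd_c6 {q : ℕ} (hq : 1 ≤ q) (ho : orderOf (q : ZMod ℓ) = 6) :
    ((ℓ ^ padicValNat ℓ (q ^ 6 - 1) : ℕ) : ℤ) ∣ pv c6 (q : ℤ) := by
  refine pow_dvd_pv (G := ((q : ℤ) + 1) * ((q : ℤ) ^ 3 - 1)) hq (by rw [pv6]; ring) ?_
  intro h
  rcases (Nat.prime_iff_prime_int.1 hℓ.out).dvd_or_dvd h with h | h
  · have h2 : (ℓ : ℤ) ∣ (q : ℤ) ^ 2 - 1 := by
      have e : (q : ℤ) ^ 2 - 1 = ((q : ℤ) + 1) * ((q : ℤ) - 1) := by ring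
      rw [e]
      exact Dvd.dvd.mul_right h _
    rw [dvd_iff, ho] at h2
    norm_num at h2
  · rw [dvd_iff, ho] at h
    norm_num at h

theorem fact_le (hℓ2 : Odd ℓ) {q N n : ℕ} (hq : ¬ ℓ ∣ q) (hq2 : 2 ≤ q) {ds : List ℕ} (hds : ∀ k ∈ ds, 0 < k)
    (hn : n ∣ q ^ N * pr q ds) : n.factorization ℓ ≤
      padicValNat ℓ (q ^ orderOf (q : ZMod ℓ) - 1) * nm (orderOf (q : ZMod ℓ)) ds + wt ℓ (orderOf (q : ZMod ℓ)) ds := by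
  have h1 := v_pr hℓ2 (j := 0) hq hq2 ds hds
  rw [pow_zero, pow_one, add_zero] at h1
  rw [← h1]
  have h0 : pr q ds ≠ 0 := pr_ne_zero hq2 hds
  have hq0 : q ^ N ≠ 0 := pow_ne_zero _ (by omega)
  have h2 : n ≠ 0 := by
    rintro rfl
    exact mul_ne_zero hq0 h0 (zero_dvd_iff.1 hn)
  have h3 := (Nat.factorization_le_iff_dvd h2 (mul_ne_zero hq0 h0)).2 hn ℓ
  refine h3.trans (le_of_eq ?_)
  rw [Nat.factorization_def _ hℓ.out, padicValNat.mul hq0 h0, padicValNat.eq_zero_of_not_dvd (n := q ^ N)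
    (fun h => hq (hℓ.out.dvd_of_dvd_pow h)), zero_add]

theorem order5 {q : ℕ} (h : 5 ∣ q ^ 2 + 1) : orderOf (q : ZMod 5) = 4 := by
  have h1 : (q : ZMod 5) ^ 2 + 1 = 0 := by
    have := (CharP.cast_eq_zero_iff (ZMod 5) 5 (q ^ 2 + 1)).2 h
    push_cast at this
    exact this
  have h2 : (q : ZMod 5) ^ 2 = -1 := eq_neg_of_add_eq_zero_left h1
  have : orderOf (q : ZMod 5) = 2 ^ (1 + 1) := by
    have : Fact (Nat.Prime 2) := ⟨Nat.prime_two⟩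
    refine orderOf_eq_prime_pow ?_ ?_
    · rw [pow_one, h2]
      decide
    · rw [show 2 ^ (1 + 1) = 2 * 2 from rfl, pow_mul, h2]
      decide
  rw [this]
  norm_num

theorem order3 {q : ℕ} (h : 7 ∣ q ^ 2 + q + 1) : orderOf (q : ZMod 7) = 3 := by
  have h1 : (q : ZMod 7) ^ 2 + q + 1 = 0 := by
    have := (CharP.cast_eq_zero_iff (ZMod 7) 7 (q ^ 2 + q + 1)).2 h
    push_cast at this
    exact this
  have : Fact (Nat.Prime 3) := ⟨Nat.prime_three⟩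
  refine orderOf_eq_prime ?_ ?_
  · have h3 : (q : ZMod 7) ^ 3 - 1 = ((q : ZMod 7) ^ 2 + q + 1) * (q - 1) := by ring
    rw [h1, zero_mul, sub_eq_zero] at h3
    exact h3
  · intro h2
    rw [h2] at h1
    revert h1
    decide

theorem order6 {q : ℕ} (h : (7 : ℤ) ∣ (q : ℤ) ^ 2 - q + 1) : orderOf (q : ZMod 7) = 6 := by
  have h1 : (q : ZMod 7) ^ 2 - q + 1 = 0 := by
    have := (ZMod.intCast_zmod_eq_zero_iff_dvd ((q : ℤ) ^ 2 - q + 1) 7).2 h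
    push_cast at this
    exact this
  have key : ∀ x : ZMod 7, x ^ 2 - x + 1 = 0 → x ^ 6 = 1 ∧ x ^ 2 ≠ 1 ∧ x ^ 3 ≠ 1 := by decide
  obtain ⟨h6, h2, h3⟩ := key _ h1
  have hd := orderOf_dvd_of_pow_eq_one h6
  have hle := Nat.le_of_dvd (by norm_num) hd
  have hd2 : ¬ orderOf (q : ZMod 7) ∣ 2 := fun h => h2 (orderOf_dvd_iff_pow_eq_one.1 h)
  have hd3 : ¬ orderOf (q : ZMod 7) ∣ 3 := fun h => h3 (orderOf_dvd_iff_pow_eq_one.1 h)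
  generalize orderOf (q : ZMod 7) = n at hd hle hd2 hd3
  interval_cases n <;> revert hd hd2 hd3 <;> decide

end Num

/-! ### the untwisted groups -/

section Untw

variable {D : ChevalleyDatum} {l : ℕ} {M : CoxeterMatrix (Fin l)} (hp : IsType D l M) {W : Type*} [Group W]
  [Finite W] (cs : CoxeterSystem M W)

theorem comm_untw {d : ℕ} {B : Fin l → Fin l → ℤ} (hB : InvC D l d B) (hd : d ≠ 0) {F : Type u} [Field F] [Finite F]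
    {w : W} {Th : Mat l} (hw : ∀ j, rep cs hp.isCartan w (sr j) = Th j) {f r : ℕ} {c : Fin (f + 1) → ℤ}
    {V : Fin r → Fin (f + 1) → Fin l → ℤ} {U : Fin r → Fin l → ℤ} (h : TabOK Th c V U)
    {ℓ : ℕ} [hℓ : Fact ℓ.Prime] (hℓd : ¬ ℓ ∣ Nat.gcd d (Nat.card F - 1)) (hℓq : ¬ ℓ ∣ Nat.card F) {a : ℕ}
    (ha : ((ℓ ^ a : ℕ) : ℤ) ∣ pv c ((Nat.card F : ℕ) : ℤ))
    (hcard : (Nat.card ↥(D.group F)).factorization ℓ ≤ a * r) (P : Sylow ℓ ↥(D.group F)) :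
    IsMulCommutative (P : Subgroup ↥(D.group F)) := by
  obtain ⟨k, _, _, g, p, _, _, n, hk, -, hn0, hn⟩ := Cfsg.Agent.H378.TorFin.exists_closure F
  have hℓp : ℓ ≠ p := by
    rintro rfl
    exact hℓq (hn ▸ dvd_pow_self _ hn0.ne')
  rw [hn] at ha
  exact comm_of_eig hp cs hk hn0 (phi_isFrob p n) (phi_fr hp cs p hk n) hB hd (emb_injective hp.inList g)
    (fun y hy => Cfsg.Agent.H378.RootTor.fix_pow_mem' hp g p hn hB hd hy) hw h.1 h.2 hℓd hℓp ha hcard P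

end Untw

/-! ### the tables -/

/-- the Cartan matrix -/
def A6 : Mat 6 := Cfsg.Agent.H493.PGE6.Am

/-- the Cartan matrix -/
def A7 : Mat 7 := Cfsg.Agent.H493.PGE7.Am

/-- the Cartan matrix -/
def A8 : Mat 8 := Cfsg.Agent.H493.PGE8.Am

/-- the partial products -/
def L6 : List (Fin 6 × Mat 6) := [
    (3, ![![1, 1, 1, 2, 1, 0],
      ![0, 0, 0, 0, -1, 0],
      ![0, -1, -1, -2, -1, 0],
      ![0, 0, 1, 1, 1, 0],
      ![0, 1, 0, 0, 0, 0],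
      ![0, 0, 0, 1, 1, 1]]),
    (4, ![![1, 1, 1, 1, 1, 0],
      ![0, 0, 0, -1, -1, 0],
      ![0, -1, -1, -1, -1, 0],
      ![0, 0, 1, 1, 1, 0],
      ![0, 1, 0, 1, 0, 0],
      ![0, 0, 0, 0, 1, 1]]),
    (1, ![![1, 1, 1, 1, 0, 0],
      ![0, 0, 0, -1, 0, 0],
      ![0, -1, -1, -1, 0, 0],
      ![0, 0, 1, 1, 0, 0],
      ![0, 1, 0, 1, 1, 0],
      ![0, 0, 0, 0, 0, 1]]),
    (3, ![![1, 0, 1, 1, 0, 0],
      ![0, -1, 0, -1, 0, 0],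
      ![0, 0, -1, -1, 0, 0],
      ![0, 1, 1, 1, 0, 0],
      ![0, 0, 0, 1, 1, 0],
      ![0, 0, 0, 0, 0, 1]]),
    (2, ![![1, 0, 1, 0, 0, 0],
      ![0, -1, 0, 0, 0, 0],
      ![0, 0, -1, 0, 0, 0],
      ![0, 1, 1, 1, 0, 0],
      ![0, 0, 0, 0, 1, 0],
      ![0, 0, 0, 0, 0, 1]]),
    (1, ![![1, 0, 0, 0, 0, 0],
      ![0, -1, 0, 0, 0, 0],
      ![0, 0, 1, 0, 0, 0],
      ![0, 1, 0, 1, 0, 0],
      ![0, 0, 0, 0, 1, 0],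
      ![0, 0, 0, 0, 0, 1]])]

/-- the eigenfunctionals -/
def V64 : Fin 2 → Fin (1 + 1) → Fin 6 → ℤ := ![![![1, 0, -2, 1, 0, 0], ![-1, 0, 0, 1, 0, -1]],
    ![![0, 1, -1, 0, 1, -1], ![-1, 1, 1, 0, -1, 0]]]

/-- the dual vectors -/
def U64 : Fin 2 → Fin 6 → ℤ := ![![-1, 0, -1, 0, 0, 1],
    ![-1, 0, -1, -1, 0, 0]]

theorem ch6 : ChainOK A6 L6 := by decide +kernel

theorem ok64 : TabOK (hd L6) c4 V64 U64 := by decide +kernel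

/-- the partial products -/
def L7 : List (Fin 7 × Mat 7) := [
    (3, ![![1, 1, 1, 2, 1, 0, 0],
      ![0, 0, 0, 0, -1, 0, 0],
      ![0, -1, -1, -2, -1, 0, 0],
      ![0, 0, 1, 1, 1, 0, 0],
      ![0, 1, 0, 0, 0, 0, 0],
      ![0, 0, 0, 1, 1, 1, 0],
      ![0, 0, 0, 0, 0, 0, 1]]),
    (4, ![![1, 1, 1, 1, 1, 0, 0],
      ![0, 0, 0, -1, -1, 0, 0],
      ![0, -1, -1, -1, -1, 0, 0],
      ![0, 0, 1, 1, 1, 0, 0],
      ![0, 1, 0, 1, 0, 0, 0],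
      ![0, 0, 0, 0, 1, 1, 0],
      ![0, 0, 0, 0, 0, 0, 1]]),
    (1, ![![1, 1, 1, 1, 0, 0, 0],
      ![0, 0, 0, -1, 0, 0, 0],
      ![0, -1, -1, -1, 0, 0, 0],
      ![0, 0, 1, 1, 0, 0, 0],
      ![0, 1, 0, 1, 1, 0, 0],
      ![0, 0, 0, 0, 0, 1, 0],
      ![0, 0, 0, 0, 0, 0, 1]]),
    (3, ![![1, 0, 1, 1, 0, 0, 0],
      ![0, -1, 0, -1, 0, 0, 0],
      ![0, 0, -1, -1, 0, 0, 0],
      ![0, 1, 1, 1, 0, 0, 0],
      ![0, 0, 0, 1, 1, 0, 0],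
      ![0, 0, 0, 0, 0, 1, 0],
      ![0, 0, 0, 0, 0, 0, 1]]),
    (2, ![![1, 0, 1, 0, 0, 0, 0],
      ![0, -1, 0, 0, 0, 0, 0],
      ![0, 0, -1, 0, 0, 0, 0],
      ![0, 1, 1, 1, 0, 0, 0],
      ![0, 0, 0, 0, 1, 0, 0],
      ![0, 0, 0, 0, 0, 1, 0],
      ![0, 0, 0, 0, 0, 0, 1]]),
    (1, ![![1, 0, 0, 0, 0, 0, 0],
      ![0, -1, 0, 0, 0, 0, 0],
      ![0, 0, 1, 0, 0, 0, 0],
      ![0, 1, 0, 1, 0, 0, 0],
      ![0, 0, 0, 0, 1, 0, 0],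
      ![0, 0, 0, 0, 0, 1, 0],
      ![0, 0, 0, 0, 0, 0, 1]])]

/-- the eigenfunctionals -/
def V74 : Fin 2 → Fin (1 + 1) → Fin 7 → ℤ := ![![![0, 0, 0, -1, 2, -1, 0], ![0, 2, 0, -1, 0, 0, 0]],
    ![![0, 1, -1, 0, 1, -1, 0], ![-1, 1, 1, 0, -1, 0, 0]]]

/-- the dual vectors -/
def U74 : Fin 2 → Fin 7 → ℤ := ![![1, 0, 1, 0, 0, -1, 0],
    ![-1, 0, -1, 0, 0, 0, 0]]

theorem ch7 : ChainOK A7 L7 := by decide +kernel

theorem ok74 : TabOK (hd L7) c4 V74 U74 := by decide +kernel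

/-- the Coxeter element -/
def C7 : List (Fin 7 × Mat 7) := [
    (0, ![![0, 0, 1, 0, 0, 0, 0],
      ![1, 0, 1, 1, 0, 0, 0],
      ![0, 1, 0, 1, 0, 0, 0],
      ![0, 0, 0, 0, 1, 0, 0],
      ![0, 0, 0, 0, 0, 1, 0],
      ![0, 0, 0, 0, 0, 0, 1],
      ![-1, -1, -1, -1, -1, -1, -1]]),
    (1, ![![1, 0, 1, 0, 0, 0, 0],
      ![0, 0, 1, 1, 0, 0, 0],
      ![0, 1, 0, 1, 0, 0, 0],
      ![0, 0, 0, 0, 1, 0, 0],
      ![0, 0, 0, 0, 0, 1, 0],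
      ![0, 0, 0, 0, 0, 0, 1],
      ![0, -1, -1, -1, -1, -1, -1]]),
    (2, ![![1, 0, 1, 0, 0, 0, 0],
      ![0, 1, 1, 1, 0, 0, 0],
      ![0, 0, 0, 1, 0, 0, 0],
      ![0, 0, 0, 0, 1, 0, 0],
      ![0, 0, 0, 0, 0, 1, 0],
      ![0, 0, 0, 0, 0, 0, 1],
      ![0, 0, -1, -1, -1, -1, -1]]),
    (3, ![![1, 0, 0, 0, 0, 0, 0],
      ![0, 1, 0, 1, 0, 0, 0],
      ![0, 0, 1, 1, 0, 0, 0],
      ![0, 0, 0, 0, 1, 0, 0],
      ![0, 0, 0, 0, 0, 1, 0],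
      ![0, 0, 0, 0, 0, 0, 1],
      ![0, 0, 0, -1, -1, -1, -1]]),
    (4, ![![1, 0, 0, 0, 0, 0, 0],
      ![0, 1, 0, 0, 0, 0, 0],
      ![0, 0, 1, 0, 0, 0, 0],
      ![0, 0, 0, 1, 1, 0, 0],
      ![0, 0, 0, 0, 0, 1, 0],
      ![0, 0, 0, 0, 0, 0, 1],
      ![0, 0, 0, 0, -1, -1, -1]]),
    (5, ![![1, 0, 0, 0, 0, 0, 0],
      ![0, 1, 0, 0, 0, 0, 0],
      ![0, 0, 1, 0, 0, 0, 0],
      ![0, 0, 0, 1, 0, 0, 0],
      ![0, 0, 0, 0, 1, 1, 0],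
      ![0, 0, 0, 0, 0, 0, 1],
      ![0, 0, 0, 0, 0, -1, -1]]),
    (6, ![![1, 0, 0, 0, 0, 0, 0],
      ![0, 1, 0, 0, 0, 0, 0],
      ![0, 0, 1, 0, 0, 0, 0],
      ![0, 0, 0, 1, 0, 0, 0],
      ![0, 0, 0, 0, 1, 0, 0],
      ![0, 0, 0, 0, 0, 1, 1],
      ![0, 0, 0, 0, 0, 0, -1]])]

theorem chC7 : ChainOK A7 C7 := by decide +kernel

/-- a matrix of an element of the Weyl group -/
def M72 : Mat 7 := ![![0, 1, 0, 1, 0, 0, 0],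
    ![0, 1, 1, 1, 1, 0, 0],
    ![1, 0, 1, 1, 1, 0, 0],
    ![0, 0, 0, 0, 0, 1, 0],
    ![0, 0, 0, 0, 0, 0, 1],
    ![-1, -1, -1, -1, -1, -1, -1],
    ![0, 0, -1, -1, 0, 0, 0]]

/-- a matrix of an element of the Weyl group -/
def M73 : Mat 7 := ![![1, 0, 1, 1, 1, 0, 0],
    ![1, 1, 1, 2, 1, 1, 0],
    ![0, 1, 1, 1, 1, 1, 0],
    ![0, 0, 0, 0, 0, 0, 1],
    ![-1, -1, -1, -1, -1, -1, -1],
    ![0, 0, -1, -1, 0, 0, 0],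
    ![0, -1, 0, -1, -1, 0, 0]]

/-- a matrix of an element of the Weyl group -/
def M76 : Mat 7 := ![![0, 0, 1, 1, 1, 0, 0],
    ![1, 1, 1, 2, 2, 1, 1],
    ![0, 1, 0, 1, 1, 1, 0],
    ![0, -1, 0, -1, -1, 0, 0],
    ![-1, 0, -1, -1, -1, -1, 0],
    ![0, -1, -1, -1, -1, -1, -1],
    ![0, 0, 0, -1, 0, 0, 0]]

theorem p72 : MulOK (hd C7) (hd C7) M72 := by decide +kernel

theorem p73 : MulOK (hd C7) M72 M73 := by decide +kernel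

theorem p76 : MulOK M73 M73 M76 := by decide +kernel

/-- the eigenfunctionals -/
def V73 : Fin 3 → Fin (1 + 1) → Fin 7 → ℤ := ![![![-1, -1, 0, 0, 1, 0, 0], ![-1, 0, 0, 0, 0, 0, 0]],
    ![![-1, -1, -1, 0, 1, 1, 0], ![0, 0, -1, 0, 0, 0, 0]],
    ![![-1, -2, -1, 0, 1, 1, 1], ![0, 0, 0, -1, 0, 0, 0]]]

/-- the dual vectors -/
def U73 : Fin 3 → Fin 7 → ℤ := ![![0, 0, 0, 0, 1, -1, 0],
    ![0, 0, 0, 0, 0, 1, -1],
    ![0, 0, 0, 0, 0, 0, 1]]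

theorem ok73 : TabOK M76 c3 V73 U73 := by decide +kernel

/-- the eigenfunctionals -/
def V76 : Fin 3 → Fin (1 + 1) → Fin 7 → ℤ := ![![![0, -1, 0, 0, 1, 0, 0], ![-1, 0, 0, 0, 0, 0, 0]],
    ![![0, -1, -1, 0, 1, 1, 0], ![0, 0, 0, 0, 0, -1, 0]],
    ![![-1, -2, -1, 1, 1, 1, 1], ![0, 0, 0, -1, 0, 0, 0]]]

/-- the dual vectors -/
def U76 : Fin 3 → Fin 7 → ℤ := ![![0, 0, 1, 0, 1, 0, 0],
    ![0, 0, -1, 0, 0, 0, -1],
    ![0, 0, 0, 0, 0, 0, 1]]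

theorem ok76 : TabOK M73 c6 V76 U76 := by decide +kernel

/-- the Coxeter element -/
def C8 : List (Fin 8 × Mat 8) := [
    (0, ![![0, 0, 1, 0, 0, 0, 0, 0],
      ![1, 0, 1, 1, 0, 0, 0, 0],
      ![0, 1, 0, 1, 0, 0, 0, 0],
      ![0, 0, 0, 0, 1, 0, 0, 0],
      ![0, 0, 0, 0, 0, 1, 0, 0],
      ![0, 0, 0, 0, 0, 0, 1, 0],
      ![0, 0, 0, 0, 0, 0, 0, 1],
      ![-1, -1, -1, -1, -1, -1, -1, -1]]),
    (1, ![![1, 0, 1, 0, 0, 0, 0, 0],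
      ![0, 0, 1, 1, 0, 0, 0, 0],
      ![0, 1, 0, 1, 0, 0, 0, 0],
      ![0, 0, 0, 0, 1, 0, 0, 0],
      ![0, 0, 0, 0, 0, 1, 0, 0],
      ![0, 0, 0, 0, 0, 0, 1, 0],
      ![0, 0, 0, 0, 0, 0, 0, 1],
      ![0, -1, -1, -1, -1, -1, -1, -1]]),
    (2, ![![1, 0, 1, 0, 0, 0, 0, 0],
      ![0, 1, 1, 1, 0, 0, 0, 0],
      ![0, 0, 0, 1, 0, 0, 0, 0],
      ![0, 0, 0, 0, 1, 0, 0, 0],
      ![0, 0, 0, 0, 0, 1, 0, 0],
      ![0, 0, 0, 0, 0, 0, 1, 0],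
      ![0, 0, 0, 0, 0, 0, 0, 1],
      ![0, 0, -1, -1, -1, -1, -1, -1]]),
    (3, ![![1, 0, 0, 0, 0, 0, 0, 0],
      ![0, 1, 0, 1, 0, 0, 0, 0],
      ![0, 0, 1, 1, 0, 0, 0, 0],
      ![0, 0, 0, 0, 1, 0, 0, 0],
      ![0, 0, 0, 0, 0, 1, 0, 0],
      ![0, 0, 0, 0, 0, 0, 1, 0],
      ![0, 0, 0, 0, 0, 0, 0, 1],
      ![0, 0, 0, -1, -1, -1, -1, -1]]),
    (4, ![![1, 0, 0, 0, 0, 0, 0, 0],
      ![0, 1, 0, 0, 0, 0, 0, 0],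
      ![0, 0, 1, 0, 0, 0, 0, 0],
      ![0, 0, 0, 1, 1, 0, 0, 0],
      ![0, 0, 0, 0, 0, 1, 0, 0],
      ![0, 0, 0, 0, 0, 0, 1, 0],
      ![0, 0, 0, 0, 0, 0, 0, 1],
      ![0, 0, 0, 0, -1, -1, -1, -1]]),
    (5, ![![1, 0, 0, 0, 0, 0, 0, 0],
      ![0, 1, 0, 0, 0, 0, 0, 0],
      ![0, 0, 1, 0, 0, 0, 0, 0],
      ![0, 0, 0, 1, 0, 0, 0, 0],
      ![0, 0, 0, 0, 1, 1, 0, 0],
      ![0, 0, 0, 0, 0, 0, 1, 0],
      ![0, 0, 0, 0, 0, 0, 0, 1],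
      ![0, 0, 0, 0, 0, -1, -1, -1]]),
    (6, ![![1, 0, 0, 0, 0, 0, 0, 0],
      ![0, 1, 0, 0, 0, 0, 0, 0],
      ![0, 0, 1, 0, 0, 0, 0, 0],
      ![0, 0, 0, 1, 0, 0, 0, 0],
      ![0, 0, 0, 0, 1, 0, 0, 0],
      ![0, 0, 0, 0, 0, 1, 1, 0],
      ![0, 0, 0, 0, 0, 0, 0, 1],
      ![0, 0, 0, 0, 0, 0, -1, -1]]),
    (7, ![![1, 0, 0, 0, 0, 0, 0, 0],
      ![0, 1, 0, 0, 0, 0, 0, 0],
      ![0, 0, 1, 0, 0, 0, 0, 0],
      ![0, 0, 0, 1, 0, 0, 0, 0],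
      ![0, 0, 0, 0, 1, 0, 0, 0],
      ![0, 0, 0, 0, 0, 1, 0, 0],
      ![0, 0, 0, 0, 0, 0, 1, 1],
      ![0, 0, 0, 0, 0, 0, 0, -1]])]

theorem chC8 : ChainOK A8 C8 := by decide +kernel

/-- a matrix of an element of the Weyl group -/
def M82 : Mat 8 := ![![0, 1, 0, 1, 0, 0, 0, 0],
    ![0, 1, 1, 1, 1, 0, 0, 0],
    ![1, 0, 1, 1, 1, 0, 0, 0],
    ![0, 0, 0, 0, 0, 1, 0, 0],
    ![0, 0, 0, 0, 0, 0, 1, 0],
    ![0, 0, 0, 0, 0, 0, 0, 1],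
    ![-1, -1, -1, -1, -1, -1, -1, -1],
    ![0, 0, -1, -1, 0, 0, 0, 0]]

/-- a matrix of an element of the Weyl group -/
def M84 : Mat 8 := ![![0, 1, 1, 1, 1, 1, 0, 0],
    ![1, 1, 2, 2, 2, 1, 1, 0],
    ![1, 1, 1, 2, 1, 1, 1, 0],
    ![0, 0, 0, 0, 0, 0, 0, 1],
    ![-1, -1, -1, -1, -1, -1, -1, -1],
    ![0, 0, -1, -1, 0, 0, 0, 0],
    ![0, -1, 0, -1, -1, 0, 0, 0],
    ![-1, 0, -1, -1, -1, -1, 0, 0]]

/-- a matrix of an element of the Weyl group -/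
def M85 : Mat 8 := ![![1, 1, 1, 2, 1, 1, 1, 0],
    ![1, 2, 2, 3, 2, 2, 1, 1],
    ![1, 1, 2, 2, 2, 1, 1, 1],
    ![-1, -1, -1, -1, -1, -1, -1, -1],
    ![0, 0, -1, -1, 0, 0, 0, 0],
    ![0, -1, 0, -1, -1, 0, 0, 0],
    ![-1, 0, -1, -1, -1, -1, 0, 0],
    ![0, -1, -1, -1, -1, -1, -1, 0]]

/-- a matrix of an element of the Weyl group -/
def M810 : Mat 8 := ![![0, 1, 1, 2, 1, 1, 1, 0],
    ![1, 1, 2, 3, 2, 2, 1, 1],
    ![1, 1, 1, 2, 2, 1, 1, 1],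
    ![-1, -1, -1, -2, -1, -1, -1, -1],
    ![0, 0, -1, -1, -1, 0, 0, 0],
    ![0, -1, 0, -1, -1, -1, 0, 0],
    ![-1, 0, -1, -1, -1, -1, -1, 0],
    ![0, -1, -1, -1, -1, -1, -1, -1]]

theorem p82 : MulOK (hd C8) (hd C8) M82 := by decide +kernel

theorem p84 : MulOK M82 M82 M84 := by decide +kernel

theorem p85 : MulOK (hd C8) M84 M85 := by decide +kernel

theorem p810 : MulOK M85 M85 M810 := by decide +kernel

/-- the eigenfunctionals -/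
def V83 : Fin 4 → Fin (1 + 1) → Fin 8 → ℤ := ![![![-1, -1, -1, 1, 0, 0, 1, 0], ![-1, 0, 0, 0, 0, 0, 0, 0]],
    ![![0, -1, -1, 1, 0, 0, 0, 0], ![0, 0, 0, 0, 0, 0, 0, -1]],
    ![![-1, -2, -1, 1, 0, 1, 0, 1], ![0, -1, 0, 0, 0, 0, 0, 0]],
    ![![-1, -2, -2, 1, 1, 0, 1, 1], ![0, 0, -1, 0, 0, 0, 0, 0]]]

/-- the dual vectors -/
def U83 : Fin 4 → Fin 8 → ℤ := ![![0, 0, 0, 0, -1, 0, 1, 0],
    ![0, 0, 0, 1, 0, -1, -1, 0],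
    ![0, 0, 0, 0, 0, 1, 0, 0],
    ![0, 0, 0, 0, 1, 0, 0, 0]]

theorem ok83 : TabOK M810 c3 V83 U83 := by decide +kernel

/-- the eigenfunctionals -/
def V86 : Fin 4 → Fin (1 + 1) → Fin 8 → ℤ := ![![![0, -1, -1, 1, 0, 0, 0, 1], ![0, 0, 0, 0, 0, 0, 0, -1]],
    ![![0, -1, -1, 1, 0, 0, 1, 0], ![-1, 0, 0, 0, 0, 0, 0, 0]],
    ![![-1, -1, -1, 1, 0, 1, 0, 1], ![0, -1, 0, 0, 0, 0, 0, 0]],
    ![![-1, -2, -1, 1, 1, 0, 1, 1], ![0, 0, -1, 0, 0, 0, 0, 0]]]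

/-- the dual vectors -/
def U86 : Fin 4 → Fin 8 → ℤ := ![![0, 0, 0, 1, 0, -1, -1, 0],
    ![0, 0, 0, 0, -1, 0, 1, 0],
    ![0, 0, 0, 0, 0, 1, 0, 0],
    ![0, 0, 0, 0, 1, 0, 0, 0]]

theorem ok86 : TabOK M85 c6 V86 U86 := by decide +kernel

/-- the partial products -/
def LT : List (Fin 6 × Mat 6) := [
    (0, ![![0, 0, -1, -1, -1, -1],
      ![-1, -1, -1, -2, -1, -1],
      ![-1, -1, -1, -1, -1, 0],
      ![1, 1, 1, 1, 1, 1],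
      ![0, 0, 0, 1, 1, 0],
      ![0, 1, 1, 1, 0, 0]]),
    (2, ![![-1, 0, -1, -1, -1, -1],
      ![0, -1, -1, -2, -1, -1],
      ![0, -1, -1, -1, -1, 0],
      ![0, 1, 1, 1, 1, 1],
      ![0, 0, 0, 1, 1, 0],
      ![1, 1, 1, 1, 0, 0]]),
    (3, ![![-1, 0, -1, -1, -1, -1],
      ![0, -1, -1, -2, -1, -1],
      ![0, -1, 0, -1, -1, 0],
      ![0, 1, 0, 1, 1, 1],
      ![0, 0, 1, 1, 1, 0],
      ![1, 1, 1, 1, 0, 0]]),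
    (4, ![![-1, 0, -1, -1, -1, -1],
      ![0, -1, -1, -1, -1, -1],
      ![0, -1, 0, -1, -1, 0],
      ![0, 1, 0, 1, 1, 1],
      ![0, 0, 1, 1, 1, 0],
      ![1, 1, 1, 1, 0, 0]]),
    (5, ![![-1, 0, -1, -1, -1, -1],
      ![0, -1, -1, -1, -1, -1],
      ![0, -1, 0, -1, 0, 0],
      ![0, 1, 0, 1, 1, 1],
      ![0, 0, 1, 1, 0, 0],
      ![1, 1, 1, 1, 1, 0]]),
    (0, ![![-1, 0, -1, -1, -1, 0],
      ![0, -1, -1, -1, -1, 0],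
      ![0, -1, 0, -1, 0, 0],
      ![0, 1, 0, 1, 1, 0],
      ![0, 0, 1, 1, 0, 0],
      ![1, 1, 1, 1, 1, 1]]),
    (2, ![![0, 0, -1, -1, -1, 0],
      ![-1, -1, -1, -1, -1, 0],
      ![0, -1, 0, -1, 0, 0],
      ![0, 1, 0, 1, 1, 0],
      ![1, 0, 1, 1, 0, 0],
      ![0, 1, 1, 1, 1, 1]]),
    (1, ![![0, 0, 0, -1, -1, 0],
      ![-1, -1, -1, -1, -1, 0],
      ![0, -1, -1, -1, 0, 0],
      ![0, 1, 1, 1, 1, 0],
      ![1, 0, 1, 1, 0, 0],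
      ![0, 1, 0, 1, 1, 1]]),
    (3, ![![0, -1, 0, -1, -1, 0],
      ![-1, 0, -1, -1, -1, 0],
      ![0, 0, -1, -1, 0, 0],
      ![0, 0, 1, 1, 1, 0],
      ![1, 1, 1, 1, 0, 0],
      ![0, 0, 0, 1, 1, 1]]),
    (4, ![![0, -1, 0, -1, -1, 0],
      ![-1, 0, -1, -1, -1, 0],
      ![0, 0, -1, 0, 0, 0],
      ![0, 0, 1, 1, 1, 0],
      ![1, 1, 1, 1, 0, 0],
      ![0, 0, 0, 0, 1, 1]]),
    (0, ![![0, -1, 0, -1, 0, 0],
      ![-1, 0, -1, -1, 0, 0],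
      ![0, 0, -1, 0, 0, 0],
      ![0, 0, 1, 1, 0, 0],
      ![1, 1, 1, 1, 1, 0],
      ![0, 0, 0, 0, 0, 1]]),
    (2, ![![0, -1, 0, -1, 0, 0],
      ![0, 0, -1, -1, 0, 0],
      ![-1, 0, -1, 0, 0, 0],
      ![1, 0, 1, 1, 0, 0],
      ![0, 1, 1, 1, 1, 0],
      ![0, 0, 0, 0, 0, 1]]),
    (1, ![![0, -1, -1, -1, 0, 0],
      ![0, 0, 0, -1, 0, 0],
      ![-1, 0, 0, 0, 0, 0],
      ![1, 0, 1, 1, 0, 0],
      ![0, 1, 0, 1, 1, 0],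
      ![0, 0, 0, 0, 0, 1]]),
    (3, ![![0, 0, -1, -1, 0, 0],
      ![0, -1, 0, -1, 0, 0],
      ![-1, 0, 0, 0, 0, 0],
      ![1, 1, 1, 1, 0, 0],
      ![0, 0, 0, 1, 1, 0],
      ![0, 0, 0, 0, 0, 1]]),
    (0, ![![0, 0, -1, 0, 0, 0],
      ![0, -1, 0, 0, 0, 0],
      ![-1, 0, 0, 0, 0, 0],
      ![1, 1, 1, 1, 0, 0],
      ![0, 0, 0, 0, 1, 0],
      ![0, 0, 0, 0, 0, 1]]),
    (2, ![![-1, 0, -1, 0, 0, 0],
      ![0, -1, 0, 0, 0, 0],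
      ![1, 0, 0, 0, 0, 0],
      ![0, 1, 1, 1, 0, 0],
      ![0, 0, 0, 0, 1, 0],
      ![0, 0, 0, 0, 0, 1]]),
    (1, ![![-1, 0, 0, 0, 0, 0],
      ![0, -1, 0, 0, 0, 0],
      ![1, 0, 1, 0, 0, 0],
      ![0, 1, 0, 1, 0, 0],
      ![0, 0, 0, 0, 1, 0],
      ![0, 0, 0, 0, 0, 1]]),
    (0, ![![-1, 0, 0, 0, 0, 0],
      ![0, 1, 0, 0, 0, 0],
      ![1, 0, 1, 0, 0, 0],
      ![0, 0, 0, 1, 0, 0],
      ![0, 0, 0, 0, 1, 0],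
      ![0, 0, 0, 0, 0, 1]])]

/-- a matrix of an element of the Weyl group -/
def MT : Mat 6 := ![![0, 1, 1, 1, 0, 0],
    ![-1, -1, -1, -2, -1, -1],
    ![0, 0, 0, 1, 1, 0],
    ![1, 1, 1, 1, 1, 1],
    ![-1, -1, -1, -1, -1, 0],
    ![0, 0, -1, -1, -1, -1]]

theorem chT : ChainOK A6 LT := by decide +kernel

theorem thT : ∀ j, hd LT (Cfsg.Agent.H493.TwE6Alg.pi j) = MT j := by decide +kernel

/-- the eigenfunctionals -/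
def VT4 : Fin 2 → Fin (1 + 1) → Fin 6 → ℤ := ![![![-1, 1, 0, -1, 1, 0], ![0, -1, 0, 0, 0, 0]],
    ![![-1, 2, -1, -1, 1, 1], ![0, 0, 0, -1, 0, 0]]]

/-- the dual vectors -/
def UT4 : Fin 2 → Fin 6 → ℤ := ![![-1, 0, 1, 0, 0, 0],
    ![0, 0, -1, 0, 0, 0]]

theorem okT4 : TabOK MT c4 VT4 UT4 := by decide +kernel

/-! ### the rows -/

section Main

open Cfsg.Agent.H172.SI Cfsg.Agent.H129

theorem comm_main {D : ChevalleyDatum} {l : ℕ} {M : CoxeterMatrix (Fin l)} (hp : IsType D l M)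
    (hW : Finite M.Group) {d : ℕ} {B : Fin l → Fin l → ℤ} (hB : InvC D l d B) (hd : d ≠ 0)
    {dd : ℕ → ℕ} {N : ℕ} {ds : List ℕ} (hdeg : Deg D dd N ds) (hds : ∀ k ∈ ds, 0 < k)
    {w : M.Group} {Th : Mat l} (hw : ∀ j, rep M.toCoxeterSystem hp.isCartan w (sr j) = Th j)
    {f r : ℕ} {c : Fin (f + 1) → ℤ} {V : Fin r → Fin (f + 1) → Fin l → ℤ} {U : Fin r → Fin l → ℤ} (h : TabOK Th c V U)
    {ℓ : ℕ} [hℓ : Fact ℓ.Prime] (hℓ2 : Odd ℓ) (hℓd : ¬ ℓ ∣ d) {F : Type} [Field F] [Fintype F]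
    (hℓq : ¬ ℓ ∣ Fintype.card F) {e : ℕ} (he : orderOf (Fintype.card F : ZMod ℓ) = e)
    (ha : ((ℓ ^ padicValNat ℓ (Fintype.card F ^ e - 1) : ℕ) : ℤ) ∣ pv c ((Fintype.card F : ℕ) : ℤ))
    (hnm : nm e ds = r) (hwt : wt ℓ e ds = 0) (P : Sylow ℓ ↥(D.group F)) :
    IsMulCommutative (P : Subgroup ↥(D.group F)) := by
  have hq2 : 2 ≤ Fintype.card F := Fintype.one_lt_card
  have hc : Nat.card F = Fintype.card F := Nat.card_eq_fintype_card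
  refine comm_untw hp M.toCoxeterSystem hB hd hw h (fun h1 => hℓd (h1.trans (Nat.gcd_dvd_left _ _))) (by rwa [hc])
    (a := padicValNat ℓ (Fintype.card F ^ e - 1)) (by rwa [hc]) ?_ P
  have h1 := fact_le hℓ2 hℓq hq2 hds (n := Nat.card ↥(D.group F)) (N := N) ⟨dd (Fintype.card F), by
    rw [mul_comm (Nat.card ↥(D.group F)), hdeg.card]; rfl⟩
  rw [he, hwt, add_zero, hnm] at h1
  exact h1

variable {F : Type} [Field F] [Fintype F]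

instance fact5 : Fact (Nat.Prime 5) := ⟨by norm_num⟩

instance fact7 : Fact (Nat.Prime 7) := ⟨by norm_num⟩

theorem not_dvd_of {ℓ q e : ℕ} [hℓ : Fact ℓ.Prime] (he0 : e ≠ 0) (he : orderOf (q : ZMod ℓ) = e) : ¬ ℓ ∣ q := by
  intro h
  rw [(CharP.cast_eq_zero_iff (ZMod ℓ) ℓ q).2 h] at he
  have h1 : orderOf (0 : ZMod ℓ) = 0 := by
    rw [orderOf_eq_zero_iff']
    intro n hn h2
    rw [zero_pow hn.ne'] at h2
    exact zero_ne_one h2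
  exact he0 (he ▸ h1)

theorem wt5 {ds : List ℕ} (h : ∀ k ∈ ds, 4 ∣ k → ¬ 5 ∣ k) : wt 5 4 ds = 0 := by
  induction ds with
  | nil => rfl
  | cons k ds ih =>
    rw [wt, ih fun k hk => h k (List.mem_cons_of_mem _ hk), add_zero]
    split_ifs with h1
    · exact padicValNat.eq_zero_of_not_dvd (h k List.mem_cons_self h1)
    · rfl

theorem wt7 {e : ℕ} {ds : List ℕ} (h : ∀ k ∈ ds, e ∣ k → ¬ 7 ∣ k) : wt 7 e ds = 0 := by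
  induction ds with
  | nil => rfl
  | cons k ds ih =>
    rw [wt, ih fun k hk => h k (List.mem_cons_of_mem _ hk), add_zero]
    split_ifs with h1
    · exact padicValNat.eq_zero_of_not_dvd (h k List.mem_cons_self h1)
    · rfl

/-- **`E₆(q)`, `p = 5`, `q` of order `4` modulo `5`.** -/
theorem comm_E6 (ho : orderOf (Fintype.card F : ZMod 5) = 4) (P : Sylow 5 ↥(chevE6.group F)) :
    IsMulCommutative (P : Subgroup ↥(chevE6.group F)) :=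
  comm_main Cfsg.Agent.H493.PGE6.hp Cfsg.Agent.H493.PGE6.finW TorusChar.invC_E6 (by norm_num) deg_E6 (by decide)
    (fun j => WData.chain_rep Cfsg.Agent.H493.PGE6.hp _ Cfsg.Agent.H493.PGE6.hA ch6 j) ok64 (by decide) (by norm_num)
    (not_dvd_of (by norm_num) ho) ho (dvd_c4 Fintype.card_pos ho) (by decide) (wt5 (by decide)) P

/-- **`E₇(q)`, `p = 5`, `q` of order `4` modulo `5`.** -/
theorem comm_E7 (ho : orderOf (Fintype.card F : ZMod 5) = 4) (P : Sylow 5 ↥(chevE7.group F)) :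
    IsMulCommutative (P : Subgroup ↥(chevE7.group F)) :=
  comm_main Cfsg.Agent.H493.PGE7.hp Cfsg.Agent.H493.PGE7.finW TorusChar.invC_E7 (by norm_num) deg_E7 (by decide)
    (fun j => WData.chain_rep Cfsg.Agent.H493.PGE7.hp _ Cfsg.Agent.H493.PGE7.hA ch7 j) ok74 (by decide) (by norm_num)
    (not_dvd_of (by norm_num) ho) ho (dvd_c4 Fintype.card_pos ho) (by decide) (wt5 (by decide)) P

/-- the Coxeter element -/
theorem cox7 : ∀ j, rep CoxeterMatrix.E₇.toCoxeterSystem Cfsg.Agent.H493.PGE7.hp.isCartan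
    (CoxeterMatrix.E₇.toCoxeterSystem.wordProd (C7.map Prod.fst)) (sr j) = hd C7 j :=
  fun j => WData.chain_rep Cfsg.Agent.H493.PGE7.hp _ Cfsg.Agent.H493.PGE7.hA chC7 j

/-- the Coxeter element -/
theorem cox8 : ∀ j, rep CoxeterMatrix.E₈.toCoxeterSystem Cfsg.Agent.H493.PGE8.hp.isCartan
    (CoxeterMatrix.E₈.toCoxeterSystem.wordProd (C8.map Prod.fst)) (sr j) = hd C8 j :=
  fun j => WData.chain_rep Cfsg.Agent.H493.PGE8.hp _ Cfsg.Agent.H493.PGE8.hA chC8 j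

/-- **`E₇(q)`, `p = 7`, `q` of order `3` modulo `7`.** -/
theorem comm_E7_three (ho : orderOf (Fintype.card F : ZMod 7) = 3) (P : Sylow 7 ↥(chevE7.group F)) :
    IsMulCommutative (P : Subgroup ↥(chevE7.group F)) := by
  have := Cfsg.Agent.H493.PGE7.finW
  have h2 := rows_mul Cfsg.Agent.H493.PGE7.hp _ cox7 cox7 p72
  have h3 := rows_mul Cfsg.Agent.H493.PGE7.hp _ cox7 h2 p73
  have h6 := rows_mul Cfsg.Agent.H493.PGE7.hp _ h3 h3 p76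
  exact comm_main Cfsg.Agent.H493.PGE7.hp Cfsg.Agent.H493.PGE7.finW TorusChar.invC_E7 (by norm_num) deg_E7 (by decide)
    h6 ok73 (by decide) (by norm_num)
    (not_dvd_of (by norm_num) ho) ho (dvd_c3 Fintype.card_pos ho) (by decide) (wt7 (by decide)) P

/-- **`E₇(q)`, `p = 7`, `q` of order `6` modulo `7`.** -/
theorem comm_E7_six (ho : orderOf (Fintype.card F : ZMod 7) = 6) (P : Sylow 7 ↥(chevE7.group F)) :
    IsMulCommutative (P : Subgroup ↥(chevE7.group F)) := by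
  have := Cfsg.Agent.H493.PGE7.finW
  have h2 := rows_mul Cfsg.Agent.H493.PGE7.hp _ cox7 cox7 p72
  have h3 := rows_mul Cfsg.Agent.H493.PGE7.hp _ cox7 h2 p73
  exact comm_main Cfsg.Agent.H493.PGE7.hp Cfsg.Agent.H493.PGE7.finW TorusChar.invC_E7 (by norm_num) deg_E7 (by decide)
    h3 ok76 (by decide) (by norm_num)
    (not_dvd_of (by norm_num) ho) ho (dvd_c6 Fintype.card_pos ho) (by decide) (wt7 (by decide)) P

/-- **`E₈(q)`, `p = 7`, `q` of order `3` modulo `7`.** -/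
theorem comm_E8_three (ho : orderOf (Fintype.card F : ZMod 7) = 3) (P : Sylow 7 ↥(chevE8.group F)) :
    IsMulCommutative (P : Subgroup ↥(chevE8.group F)) := by
  have := Cfsg.Agent.H493.PGE8.finW
  have h2 := rows_mul Cfsg.Agent.H493.PGE8.hp _ cox8 cox8 p82
  have h4 := rows_mul Cfsg.Agent.H493.PGE8.hp _ h2 h2 p84
  have h5 := rows_mul Cfsg.Agent.H493.PGE8.hp _ cox8 h4 p85
  have h10 := rows_mul Cfsg.Agent.H493.PGE8.hp _ h5 h5 p810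
  exact comm_main Cfsg.Agent.H493.PGE8.hp Cfsg.Agent.H493.PGE8.finW TorusChar.invC_E8 (by norm_num) deg_E8 (by decide)
    h10 ok83 (by decide) (by norm_num)
    (not_dvd_of (by norm_num) ho) ho (dvd_c3 Fintype.card_pos ho) (by decide) (wt7 (by decide)) P

/-- **`E₈(q)`, `p = 7`, `q` of order `6` modulo `7`.** -/
theorem comm_E8_six (ho : orderOf (Fintype.card F : ZMod 7) = 6) (P : Sylow 7 ↥(chevE8.group F)) :
    IsMulCommutative (P : Subgroup ↥(chevE8.group F)) := by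
  have := Cfsg.Agent.H493.PGE8.finW
  have h2 := rows_mul Cfsg.Agent.H493.PGE8.hp _ cox8 cox8 p82
  have h4 := rows_mul Cfsg.Agent.H493.PGE8.hp _ h2 h2 p84
  have h5 := rows_mul Cfsg.Agent.H493.PGE8.hp _ cox8 h4 p85
  exact comm_main Cfsg.Agent.H493.PGE8.hp Cfsg.Agent.H493.PGE8.finW TorusChar.invC_E8 (by norm_num) deg_E8 (by decide)
    h5 ok86 (by decide) (by norm_num)
    (not_dvd_of (by norm_num) ho) ho (dvd_c6 Fintype.card_pos ho) (by decide) (wt7 (by decide)) P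

/-- **`²E₆(q)`, `p = 5`, `q` of order `4` modulo `5`.** -/
theorem comm_twE6 {K : Type} [Field K] [Fintype K] {q : ℕ} (hq : IsPrimePow q) (hK : Fintype.card K = q ^ 2)
    (ho : orderOf (q : ZMod 5) = 4) (P : Sylow 5 ↥(twistedE6 K q)) :
    IsMulCommutative (P : Subgroup ↥(twistedE6 K q)) := by
  have := Cfsg.Agent.H493.PGE6.finW
  obtain ⟨p, e, hpF, hpk, he, hqe, hk⟩ := Cfsg.Agent.H493.PGE6T.setup hq hK
  have hqe' : (q : ℤ) = ((p ^ e : ℕ) : ℤ) := by rw [hqe]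
  have hℓq := not_dvd_of (by norm_num) ho
  have hℓp : 5 ≠ p := by
    rintro rfl
    exact hℓq (hqe ▸ dvd_pow_self _ he.ne')
  refine comm_of_eig RGDTwE6.hp CoxeterMatrix.E₆.toCoxeterSystem hk he Cfsg.Agent.H493.TwE6Alg.isFrob_tau
    (Cfsg.Agent.H493.TwE6Alg.fr_tau _)
    TorusChar.invC_E6 (by norm_num)
    (Cfsg.Agent.H493.TwE6Alg.embT_injective (algebraMap K (AlgebraicClosure K)) q) (d := Nat.gcd 3 (q + 1))
    (fun y hy => Cfsg.Agent.H493.TwE6Alg.tau_pow _ hqe hq hK hy) (Cfsg.Agent.H493.PGE6T.lin _ chT thT)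
    okT4.1 okT4.2 (fun h => ?_) hℓp (a := padicValNat 5 (q ^ 4 - 1)) ?_ ?_ P
  · have := h.trans (Nat.gcd_dvd_left _ _)
    norm_num at this
  · rw [← hqe']
    exact dvd_c4 hq.pos ho
  · have h1 := fact_le (ℓ := 5) (by decide) hℓq hq.two_le (n := Nat.card ↥(twistedE6 K q)) (N := 36)
      (ds := [2, 10, 6, 8, 18, 12]) (by decide) ?_
    · rw [ho, wt5 (by decide), add_zero] at h1
      exact h1
    · refine ⟨Nat.gcd 3 (q + 1) * ((q ^ 5 - 1) * (q ^ 9 - 1)), ?_⟩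
      have h2 := Cfsg.Agent.S1066.result hq hK
      have h5 : q ^ 10 - 1 = (q ^ 5 + 1) * (q ^ 5 - 1) := by
        rw [← Nat.sq_sub_sq, ← pow_mul]
      have h9 : q ^ 18 - 1 = (q ^ 9 + 1) * (q ^ 9 - 1) := by
        rw [← Nat.sq_sub_sq, ← pow_mul]
      have h3 : pr q [2, 10, 6, 8, 18, 12] =
          (q ^ 2 - 1) * ((q ^ 10 - 1) * ((q ^ 6 - 1) * ((q ^ 8 - 1) * ((q ^ 18 - 1) * ((q ^ 12 - 1) * 1))))) := rfl
      rw [h3, h5, h9]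
      calc _ = q ^ 36 * (q ^ 2 - 1) * (q ^ 5 + 1) * (q ^ 6 - 1) * (q ^ 8 - 1) * (q ^ 9 + 1) * (q ^ 12 - 1) *
            ((q ^ 5 - 1) * (q ^ 9 - 1)) := by ring
        _ = _ := by rw [← h2]; ring

end Main

end Cfsg.Agent.H28.T5TorRows
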