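import Cfsg.Agent.H28.SLTwoRow
import Cfsg.Agent.KFacts.RgdAutFacts
import Cfsg.Agent.KFacts.RgdRigid
import Cfsg.Agent.H936.DSChev

/-!
# Minimal counterexamples to the `Z*_p` statement: groups of Lie type of characteristic `r ≠ p`

`G' ≅ L`, `L` a group with a root group datum of characteristic `r ≠ p`; `s` an `r`-element of `L` whose centraliser has
order divisible by `p`.

* `exists_frame` : a conjugate of `x` acts on `L` as a frame automorphism;
* `Rk T P Q F Φ` : `P = Φ(up F)`, `Q = Φ(lo F)` for `Φ : SL(2,F) →* L`, `T` acts on `P` by scalars;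
* `false_inner` : `x ∉ G'` (all the root groups of the simple roots have this form, rank `≥ 2`);
* `false_three` : `p = 3` is impossible.
-/

set_option autoImplicit false
set_option linter.unusedSectionVars false

namespace Cfsg.Agent.H28.FrameRow

open CoxeterSystem Cfsg.Agent.ChevalleyStructure.CoxeterGeom Cfsg.Agent.Tits.Roots Cfsg.Agent.Tits.Core
  Cfsg.Agent.Tits.RootComb Cfsg.Agent.Tits.Exchange Cfsg.Agent.Nodes.Reps Cfsg.Agent.Nodes.BNOf
  Cfsg.Agent.Nodes.StabComb Cfsg.Agent.Nodes.Bruhat Cfsg.Agent.Nodes.OppDec Cfsg.Agent.Nodes.LeviDec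
  Cfsg.Agent.Nodes.NormalForm Cfsg.Agent.KFacts.RgdVJ Cfsg.Agent.KFacts.RgdPar
  Cfsg.Agent.KFacts.RgdOpp Cfsg.Agent.KFacts.RgdAut Cfsg.Agent.KFacts.RgdDiag Cfsg.Agent.KFacts.RgdRigid
  Cfsg.Agent.KFacts.RgdField
open Subgroup Cfsg Cfsg.Agent.H256.ZBasic Cfsg.Agent.H256.ZRed Cfsg.Agent.H256.ZTool Cfsg.Agent.H28.ZIso
  Cfsg.Agent.H28.SLTwoRow
open Cfsg.Agent.ChevalleyStructure.SL2Hom (up lo)

universe u v

/-! ### the inclusion of `L` -/

section Inc

variable {G : Type u} [Group G] {L : Type v} [Group L] {x : G}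

/-- The inclusion `L ≅ G' → G`. -/
def inc (e : commutator G ≃* L) : L →* G := (commutator G).subtype.comp e.symm.toMonoidHom

/-- The automorphism of `L` induced by `x`. -/
def ind (e : commutator G ≃* L) (x : G) : MulAut L := MulAut.congr e (MulAut.conjNormal x)

theorem inc_injective (e : commutator G ≃* L) : Function.Injective (inc e) :=
  (commutator G).subtype_injective.comp e.symm.injective

theorem inc_mem (e : commutator G ≃* L) (y : L) : inc e y ∈ commutator G := (e.symm y).2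

theorem exists_inc (e : commutator G ≃* L) {g : G} (hg : g ∈ commutator G) : ∃ y, inc e y = g :=
  ⟨e ⟨g, hg⟩, congrArg Subtype.val (e.symm_apply_apply ⟨g, hg⟩)⟩

theorem inc_ind (e : commutator G ≃* L) (x : G) (y : L) : inc e (ind e x y) = x * inc e y * x⁻¹ := by
  obtain ⟨X, hX, h⟩ := exists_induced (x := x) e
  have h1 := h (e.symm y)
  rw [e.apply_symm_apply, hX] at h1
  exact h1

theorem ind_mul (e : commutator G ≃* L) (x y : G) : ind e (x * y) = ind e x * ind e y := by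
  rw [ind, map_mul, map_mul]; rfl

theorem ind_one (e : commutator G ≃* L) : ind e 1 = 1 := by
  rw [ind, map_one, map_one]

theorem ind_pow (e : commutator G ≃* L) (x : G) (k : ℕ) : ind e (x ^ k) = ind e x ^ k := by
  rw [ind, map_pow, map_pow]; rfl

theorem ind_inc (e : commutator G ≃* L) (y : L) : ind e (inc e y) = MulAut.conj y := by
  ext z
  apply inc_injective e
  rw [inc_ind, MulAut.conj_apply, map_mul, map_mul, map_inv]

theorem ind_injective [Finite G] {p : ℕ} [Fact p.Prime] (h : MinCex p x) (e : commutator G ≃* L) :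
    Function.Injective (ind e) := (MulAut.congr e).injective.comp (conjNormal_injective h)

end Inc

/-- `N` normalised by `x` of prime order `p`, `|N|` prime to `p`: the elements of order `p` of `N x` are conjugate. -/
theorem exists_conj_of_coprime {G : Type u} [Group G] [Finite G] {p : ℕ} [hp : Fact p.Prime] {x : G} (hx : orderOf x = p)
    {N : Subgroup G} (hN : x ∈ normalizer (N : Set G)) (hc : (Nat.card N).Coprime p) {u : G} (hu : u ∈ N)
    (hux : (u * x) ^ p = 1) : ∃ n ∈ N, u * x = n * x * n⁻¹ := by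
  obtain ⟨H, hH⟩ : ∃ H, H = N ⊔ zpowers x := ⟨_, rfl⟩
  have hNH : N ≤ H := by rw [hH]; exact le_sup_left
  have hxH : x ∈ H := by rw [hH]; exact mem_sup_right (mem_zpowers x)
  have hle : zpowers x ≤ normalizer (N : Set G) := (zpowers_le).2 hN
  have hmem : ∀ g ∈ H, ∃ n ∈ N, ∃ k : ℤ, g = n * x ^ k := by
    intro g hg
    rw [hH, ← SetLike.mem_coe, coe_mul_of_right_le_normalizer_left _ _ hle] at hg
    obtain ⟨n, hn, _, ⟨k, rfl⟩, rfl⟩ := hg
    exact ⟨n, hn, k, rfl⟩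
  -- `p`-elements of `N` are trivial
  have hone : ∀ z ∈ N, (∃ k : ℕ, z ^ p ^ k = 1) → z = 1 := by
    rintro z hz ⟨k, hk⟩
    have h1 : orderOf z ∣ p ^ k := orderOf_dvd_of_pow_eq_one hk
    have h2 : orderOf (⟨z, hz⟩ : N) ∣ Nat.card N := orderOf_dvd_natCard _
    rw [← orderOf_injective N.subtype N.subtype_injective ⟨z, hz⟩] at h2
    have h3 : orderOf z ∣ 1 := by
      rw [← Nat.Coprime.pow_right k hc]
      exact Nat.dvd_gcd h2 h1
    exact orderOf_eq_one_iff.1 (Nat.dvd_one.1 h3)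
  have hxp : x ^ p = 1 := by rw [← hx, pow_orderOf_eq_one]
  have huxH : u * x ∈ H := mul_mem (hNH hu) hxH
  have hpg : ∀ y : H, y ^ p = 1 → IsPGroup p (zpowers y) := by
    intro y hy
    rcases (Nat.dvd_prime hp.out).1 (orderOf_dvd_of_pow_eq_one hy) with h1 | h1
    · exact IsPGroup.of_card (n := 0) (by rw [Nat.card_zpowers, h1, pow_zero])
    · exact IsPGroup.of_card (n := 1) (by rw [Nat.card_zpowers, h1, pow_one])
  obtain ⟨P, hP⟩ := (hpg ⟨x, hxH⟩ (Subtype.ext hxp)).exists_le_sylow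
  obtain ⟨Q, hQ⟩ := (hpg ⟨u * x, huxH⟩ (Subtype.ext hux)).exists_le_sylow
  have hxP : (⟨x, hxH⟩ : H) ∈ P := hP (mem_zpowers _)
  have huxQ : (⟨u * x, huxH⟩ : H) ∈ Q := hQ (mem_zpowers _)
  obtain ⟨g, hg⟩ := MulAction.exists_smul_eq H P Q
  rw [← hg] at huxQ
  obtain ⟨z, hz, hzu⟩ : ∃ z ∈ P, g * z * g⁻¹ = ⟨u * x, huxH⟩ := by
    refine ⟨g⁻¹ * ⟨u * x, huxH⟩ * g, ?_, by group⟩
    exact conj_mem_sylow rfl huxQ
  have hPx : ∃ j : ℤ, (z : G) = x ^ j := by
    obtain ⟨n, hn, k, hk⟩ := hmem z z.2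
    have h1 : (⟨n, hNH hn⟩ : H) ∈ P := by
      have h2 : (⟨n, hNH hn⟩ : H) = z * (⟨x, hxH⟩ ^ k)⁻¹ := by
        apply Subtype.ext
        rw [coe_mul, coe_inv, coe_zpow, hk]
        group
      rw [h2]
      exact mul_mem hz (inv_mem (zpow_mem hxP k))
    obtain ⟨m, hm⟩ := P.isPGroup' ⟨_, h1⟩
    have h2 : n ^ p ^ m = 1 := by
      have := congrArg (fun y : (P : Subgroup H) => ((y : H) : G)) hm
      simpa using this
    rw [hone n hn ⟨m, h2⟩, one_mul] at hk
    exact ⟨k, hk⟩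
  obtain ⟨j, hj⟩ := hPx
  obtain ⟨n, hn, k, hk⟩ := hmem g g.2
  have h1 : u * x = n * x ^ j * n⁻¹ := by
    have h2 : (g : G) * z * (g : G)⁻¹ = u * x := congrArg Subtype.val hzu
    rw [hj, hk] at h2
    rw [← h2]
    group
  refine ⟨n, hn, ?_⟩
  have h2 : x ^ (j - 1) ∈ N := by
    have h3 : x ^ (j - 1) = n⁻¹ * u * (x * n * x⁻¹) := by
      rw [zpow_sub_one]
      have h4 : x ^ j = n⁻¹ * (u * x) * n := by rw [h1]; group
      rw [h4]
      group
    rw [h3]
    exact mul_mem (mul_mem (inv_mem hn) hu) ((mem_normalizer_iff.1 hN n).1 hn)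
  have h3 : x ^ (j - 1) = 1 := hone _ h2 ⟨1, by
    rw [pow_one, ← zpow_natCast, ← zpow_mul, mul_comm, zpow_mul, zpow_natCast, hxp, one_zpow]⟩
  have h4 : x ^ j = x := by
    have h5 : x ^ j = x ^ (j - 1) * x := by rw [zpow_sub_one]; group
    rw [h5, h3, one_mul]
  rw [h1, h4]

/-! ### the frame -/

section Frame

variable {I W : Type*} [Fintype I] [DecidableEq I] [Group W] {L : Type v} [Group L] {M : CoxeterMatrix I}
  {cs : CoxeterSystem M W} {A : I → I → ℤ} {hA : IsCartan M A} {r : ℕ} {T : Subgroup L} {n : I → L}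
  {X : (I → ℤ) → Subgroup L} (R : RGD cs hA r T n X)
variable {G : Type u} [Group G] [Finite G] {p : ℕ} [hp : Fact p.Prime] {x : G}

/-- `p` divides the order of the centraliser of some nontrivial `r`-element. -/
def HasCent (r p : ℕ) (L : Type v) [Group L] : Prop :=
  ∃ s : L, s ≠ 1 ∧ (∃ k : ℕ, orderOf s = r ^ k) ∧ ∃ y : L, orderOf y = p ∧ y * s = s * y

/-- `x` normalises a Sylow `r`-subgroup of `L`. -/
theorem exists_sylow_fix [hr : Fact r.Prime] (h : MinCex p x) (e : commutator G ≃* L) (hrp : r ≠ p)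
    (hs : HasCent r p L) : ∃ P : Sylow r L, ∀ y, ind e x y ∈ (P : Subgroup L) ↔ y ∈ (P : Subgroup L) := by
  obtain ⟨s, hs1, ⟨k, hk⟩, y, hy, hys⟩ := hs
  have hfi := inc_injective e
  have hd : p ∣ Nat.card (centralizer ({inc e s} : Set G)) := by
    have h1 : inc e y ∈ centralizer ({inc e s} : Set G) := by
      rw [mem_centralizer_singleton_iff, ← map_mul, ← map_mul, hys]
    have h2 : orderOf (⟨inc e y, h1⟩ : centralizer ({inc e s} : Set G)) = p := by
      rw [← hy, ← orderOf_injective (inc e) hfi y]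
      exact (orderOf_injective (centralizer ({inc e s} : Set G)).subtype (subtype_injective _) ⟨inc e y, h1⟩).symm
    rw [← h2]
    exact orderOf_dvd_natCard _
  obtain ⟨S, hS⟩ := exists_sylow_of_dvd h hrp (s := inc e s)
    (fun h1 => hs1 (hfi (by rw [h1, map_one]))) ⟨k, by rw [orderOf_injective (inc e) hfi, hk]⟩ hd
  -- `S ≤ G'`
  have hquot : ∀ z : G, z ^ p ∈ commutator G := by
    intro z
    obtain ⟨w, hw, j, hj⟩ := exists_mul_zpow h.sup_commutator z
    have h1 : (QuotientGroup.mk' (commutator G)) z ^ p = 1 := by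
      have h2 : QuotientGroup.mk' (commutator G) w = 1 := by
        rw [← MonoidHom.mem_ker, QuotientGroup.ker_mk']; exact hw
      rw [hj, map_mul, h2, one_mul, map_zpow, ← zpow_natCast, ← zpow_mul, mul_comm, zpow_mul, zpow_natCast,
        ← map_pow, ← h.ord, pow_orderOf_eq_one, map_one, one_zpow]
    rw [← map_pow, ← MonoidHom.mem_ker, QuotientGroup.ker_mk'] at h1
    exact h1
  have hSG : (S : Subgroup G) ≤ commutator G := by
    intro z hz
    obtain ⟨j, hj⟩ := S.isPGroup' ⟨z, hz⟩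
    have h1 : z ^ r ^ j = 1 := congrArg Subtype.val hj
    have h2 : Nat.Coprime p (r ^ j) :=
      Nat.Coprime.pow_right _ ((Nat.coprime_primes hp.out hr.out).2 (Ne.symm hrp))
    have h3 := hquot z
    have h4 : z = (z ^ p) ^ (Nat.gcdA p (r ^ j)) * (z ^ r ^ j) ^ (Nat.gcdB p (r ^ j)) := by
      have h5 := Nat.gcd_eq_gcd_ab p (r ^ j)
      rw [h2.gcd_eq_one] at h5
      conv_lhs => rw [← zpow_one z]
      have h6 : (1 : ℤ) = ((p : ℕ) : ℤ) * p.gcdA (r ^ j) + ((r ^ j : ℕ) : ℤ) * p.gcdB (r ^ j) := by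
        rw [← h5]; norm_num
      rw [h6, zpow_add, zpow_mul, zpow_mul, zpow_natCast, zpow_natCast]
    rw [h4, h1, one_zpow, mul_one]
    exact zpow_mem h3 _
  -- the Sylow subgroup of `L`
  have hrS : IsPGroup r ((S : Subgroup G).comap (inc e)) := S.isPGroup'.comap_of_injective _ hfi
  obtain ⟨P, hP⟩ := hrS.exists_le_sylow
  have h1 : (S : Subgroup G) ≤ (P : Subgroup L).map (inc e) := by
    intro z hz
    obtain ⟨y, rfl⟩ := exists_inc e (hSG hz)
    exact ⟨y, hP hz, rfl⟩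
  have h2 : (P : Subgroup L).map (inc e) = S := S.is_maximal' (P.isPGroup'.map _) h1
  have hmem : ∀ y : L, y ∈ (P : Subgroup L) ↔ inc e y ∈ (S : Subgroup G) := by
    intro y
    rw [← h2]
    exact ⟨fun hy => ⟨y, hy, rfl⟩, fun ⟨w, hw, hwy⟩ => by rw [← hfi hwy]; exact hw⟩
  refine ⟨P, fun y => ?_⟩
  rw [hmem, hmem, inc_ind]
  exact (mem_normalizer_iff.1 hS _).symm

include R in
/-- **The frame**: a conjugate of `x` acts on `L` as a frame automorphism. -/
theorem exists_frame [Finite W] [hr : Fact r.Prime] (hG : GG cs hA T X = ⊤) (h : MinCex p x) (e : commutator G ≃* L)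
    (hrp : r ≠ p) (hs : HasCent r p L) :
    ∃ g : G, ∃ σ : Equiv.Perm I, Diag T X (ind e (g * x * g⁻¹)) σ ∧
      Fix (ind e (g * x * g⁻¹)) (RGD.Sup X (RGD.Pos cs hA)) ∧ Fix (ind e (g * x * g⁻¹)) (UN cs hA X) := by
  have : Finite L := Finite.of_equiv _ e.toEquiv
  obtain ⟨P, hP⟩ := exists_sylow_fix h e hrp hs
  obtain ⟨l, hl⟩ := KFacts.RgdAutFacts.sylow_eq_cj R hG P
  have hmem : ∀ y, y ∈ RGD.Sup X (RGD.Pos cs hA) ↔ l * y * l⁻¹ ∈ (P : Subgroup L) := by
    intro y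
    rw [hl]
    constructor
    · intro hy
      exact ⟨y, hy, rfl⟩
    · rintro ⟨w, hw, hwy⟩
      have h1 : l * w * l⁻¹ = l * y * l⁻¹ := hwy
      rw [← mul_left_cancel (mul_right_cancel h1)]
      exact hw
  obtain ⟨g₁, hg₁⟩ : ∃ g₁, g₁ = inc e l⁻¹ := ⟨_, rfl⟩
  obtain ⟨x₁, hx₁⟩ : ∃ x₁, x₁ = g₁ * x * g₁⁻¹ := ⟨_, rfl⟩
  have h₁ : MinCex p x₁ := hx₁ ▸ MinCex.conj h g₁
  have hind : ind e x₁ = MulAut.conj l⁻¹ * ind e x * MulAut.conj l := by
    rw [hx₁, ind_mul, ind_mul, hg₁, ind_inc, ← map_inv, ind_inc, inv_inv]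
  have hfix : Fix (ind e x₁) (RGD.Sup X (RGD.Pos cs hA)) := by
    intro y
    rw [hmem, hmem y, ← hP (l * y * l⁻¹), hind]
    have h1 : l * (MulAut.conj l⁻¹ * ind e x * MulAut.conj l) y * l⁻¹ = ind e x (l * y * l⁻¹) := by
      simp only [MulAut.mul_apply, MulAut.conj_apply]
      group
    rw [h1]
  obtain ⟨u, hu, hU, hUN, hpow, σ, hσ⟩ := exists_frame_pow R hG hfix
  have hx1p : x₁ ^ p = 1 := by rw [← h₁.ord, pow_orderOf_eq_one]
  have hβ : MulAut.conj u * ind e x₁ = ind e (inc e u * x₁) := by rw [ind_mul, ind_inc]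
  have hpow' := hpow p (by rw [← ind_pow, hx1p, ind_one])
  rw [hβ, ← ind_pow, ← ind_one e] at hpow'
  have h2 : (inc e u * x₁) ^ p = 1 := ind_injective h₁ e hpow'
  obtain ⟨N, hN⟩ : ∃ N, N = (RGD.Sup X (RGD.Pos cs hA)).map (inc e) := ⟨_, rfl⟩
  have hNc : (Nat.card N).Coprime p := by
    have hpU : IsPGroup r N := by rw [hN]; exact (R.isPGroup_Upos (cs := cs)).map _
    obtain ⟨k, hk⟩ := IsPGroup.iff_card.1 hpU
    rw [hk]
    exact Nat.Coprime.pow_left _ ((Nat.coprime_primes hr.out hp.out).2 hrp)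
  have hNn : x₁ ∈ normalizer (N : Set G) := by
    rw [mem_normalizer_iff]
    intro z
    rw [hN]
    constructor
    · rintro ⟨y, hy, rfl⟩
      rw [← inc_ind]
      exact ⟨_, (hfix y).2 hy, rfl⟩
    · rintro ⟨y, hy, hyz⟩
      refine ⟨(ind e x₁)⁻¹ y, (hfix.inv y).2 hy, ?_⟩
      have h3 := inc_ind e x₁ ((ind e x₁)⁻¹ y)
      rw [MulAut.apply_inv_self, hyz] at h3
      exact (mul_left_cancel (mul_right_cancel h3)).symm
  obtain ⟨m, -, hm⟩ := exists_conj_of_coprime h₁.ord hNn hNc (u := inc e u) (by rw [hN]; exact ⟨u, hu, rfl⟩) h2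
  have h3 : inc e u * x₁ = m * g₁ * x * (m * g₁)⁻¹ := by rw [hm, hx₁]; group
  rw [hβ, h3] at hσ hU hUN
  exact ⟨m * g₁, σ, hσ, hU, hUN⟩

include R in
/-- `⟨X_i, X_{-i}⟩ ≠ L` in rank at least two. -/
theorem sup_ne_top [Finite W] {i j : I} (hij : j ≠ i) : X (sr i) ⊔ X (-sr i) ≠ ⊤ := by
  intro h1
  apply X_ne_bot R (isRoot_sr cs hA j).neg
  have h2 : X (-sr j) ≤ VNJ cs hA X {i} := RGD.le_Sup (S := NotNJ cs hA {i}) (by
    show - -sr j ∈ NotJ cs hA {i}
    rw [neg_neg]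
    exact sr_mem_NotJ (by simpa using hij))
  have h3 := VNJ_inf_PJ R {i}
  have hri : sr i ∈ RootsJ cs hA {i} := PosJ_subset {i} (sr_mem_PosJ (by simp))
  have h4 : (⊤ : Subgroup L) ≤ PJ cs hA T X {i} := by
    rw [← h1]
    exact (sup_le (X_le_LJ hri) (X_le_LJ (RootsJ.neg hri))).trans LJ_le_PJ
  rw [top_le_iff] at h4
  rw [h4, inf_top_eq] at h3
  rw [eq_bot_iff, ← h3]
  exact h2

/-- `P = Φ(up F)`, `Q = Φ(lo F)`, `T` acts on `P` by scalars. -/
structure Rk (T P Q : Subgroup L) {F : Type*} [Field F] (Φ : SL2 F →* L) : Prop where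
  pos : ∀ y, y ∈ P ↔ ∃ a, y = Φ (up a)
  neg : ∀ y, y ∈ Q ↔ ∃ a, y = Φ (lo a)
  inj : Function.Injective fun a => Φ (up a)
  tor : ∀ t ∈ T, ∃ c : F, ∀ a, t * Φ (up a) * t⁻¹ = Φ (up (c * a))

theorem Rk.range {T P Q : Subgroup L} {F : Type*} [Field F] {Φ : SL2 F →* L} (N : Rk T P Q Φ) : Φ.range = P ⊔ Q := by
  apply le_antisymm
  · exact range_le (fun a => mem_sup_left ((N.pos _).2 ⟨a, rfl⟩)) (fun a => mem_sup_right ((N.neg _).2 ⟨a, rfl⟩))
  · refine sup_le (fun y hy => ?_) (fun y hy => ?_)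
    · obtain ⟨a, rfl⟩ := (N.pos y).1 hy
      exact ⟨_, rfl⟩
    · obtain ⟨a, rfl⟩ := (N.neg y).1 hy
      exact ⟨_, rfl⟩

/-- `K⟨x⟩ ≠ G` for the proper subgroups `K` of `L` normalised by `x`. -/
theorem ne_top (e : commutator G ≃* L) {K : Subgroup L} (hx : Fix (ind e x) K) (hK : K ≠ ⊤) :
    K.map (inc e) ⊔ zpowers x ≠ ⊤ := by
  intro h1
  have hmem : ∀ y : L, inc e y ∈ K.map (inc e) ↔ y ∈ K := fun y =>
    ⟨fun ⟨w, hw, hwy⟩ => inc_injective e hwy ▸ hw, fun hy => ⟨y, hy, rfl⟩⟩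
  have h2 : (⊤ : Subgroup G) ≤ normalizer ((K.map (inc e) : Subgroup G) : Set G) := by
    rw [← h1, sup_le_iff, zpowers_le]
    refine ⟨le_normalizer, ?_⟩
    rw [mem_normalizer_iff]
    intro z
    constructor
    · rintro ⟨y, hy, rfl⟩
      rw [← inc_ind]
      exact ⟨_, (hx y).2 hy, rfl⟩
    · rintro ⟨y, hy, hyz⟩
      refine ⟨(ind e x)⁻¹ y, (hx.inv y).2 hy, ?_⟩
      have h3 := inc_ind e x ((ind e x)⁻¹ y)
      rw [MulAut.apply_inv_self, hyz] at h3
      exact (mul_left_cancel (mul_right_cancel h3)).symm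
  have h3 : (K.map (inc e)).Normal := normalizer_eq_top_iff.1 (top_le_iff.1 h2)
  have h4 := commutator_le_of_sup h1
  apply hK
  rw [eq_top_iff]
  intro y _
  exact (hmem y).1 (h4 (inc_mem e y))

theorem comp_range (e : commutator G ≃* L) {F : Type*} [Field F] (Φ : SL2 F →* L) :
    ((inc e).comp Φ).range = Φ.range.map (inc e) := MonoidHom.range_comp _ _

/-- `x` is not trivial on `L`. -/
theorem ind_ne_one (h : MinCex p x) (e : commutator G ≃* L) : ind e x ≠ 1 := by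
  intro h1
  have h2 : orderOf (ind e x) = p := orderOf_induced h e
  rw [h1, orderOf_one] at h2
  exact hp.out.one_lt.ne h2

include R in
/-- **`x ∉ G'`.** -/
theorem false_inner [Finite W] [hr : Fact r.Prime] (hG1 : RGD.Sup X {x | IsRoot cs hA x} = ⊤) (hp2 : p ≠ 2)
    (h2 : ∀ i : I, ∃ j, j ≠ i)
    (hRk : ∀ i, ∃ (F : Type v) (_ : Field F) (Φ : SL2 F →* L), Rk T (X (sr i)) (X (-sr i)) Φ)
    (h : MinCex p x) (e : commutator G ≃* L) (hrp : r ≠ p) (hs : HasCent r p L) (hx : x ∈ commutator G) : False := by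
  have hG := KFacts.RgdRigid.GG_eq_top (T := T) hG1
  obtain ⟨g, σ, D, hU, hUN⟩ := exists_frame R hG h e hrp hs
  have h' : MinCex p (g * x * g⁻¹) := MinCex.conj h g
  obtain ⟨y, hy⟩ := exists_inc e ((inferInstance : (commutator G).Normal).conj_mem x hx g)
  have hβ : ind e (g * x * g⁻¹) = MulAut.conj y := by rw [← hy, ind_inc]
  -- `y ∈ T`
  have hyT : y ∈ T := by
    rw [← B_inf_BN R, ← KFacts.RgdAut.normalizer_U' R hG, ← KFacts.RgdRigid.normalizer_UN R hG, mem_inf, mem_normalizer_iff,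
      mem_normalizer_iff]
    rw [hβ] at hU hUN
    exact ⟨fun z => (hU z).symm, fun z => (hUN z).symm⟩
  apply ind_ne_one h' e
  refine eq_one_of_fix R hG1 hU hUN fun i z hz => ?_
  obtain ⟨F, _, Φ, N⟩ := hRk i
  obtain ⟨c, hc⟩ := N.tor y hyT
  obtain ⟨j, hj⟩ := h2 i
  have hfix : Fix (ind e (g * x * g⁻¹)) Φ.range := by
    rw [N.range]
    have h3 : ∀ w, w ∈ X (sr i) ⊔ X (-sr i) ↔ y * w * y⁻¹ ∈ X (sr i) ⊔ X (-sr i) := by
      intro w
      have h4 : cj y (X (sr i) ⊔ X (-sr i)) = X (sr i) ⊔ X (-sr i) := by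
        rw [cj_sup, R.tor _ (isRoot_sr cs hA i) y hyT, R.tor _ (isRoot_sr cs hA i).neg y hyT]
      rw [← conj_mem_cj (g := y), h4]
    intro w
    rw [hβ, MulAut.conj_apply]
    exact (h3 w).symm
  have hne : ((inc e).comp Φ).range ⊔ zpowers (g * x * g⁻¹) ≠ ⊤ := by
    rw [comp_range]
    refine ne_top e hfix ?_
    rw [N.range]
    exact sup_ne_top R hj
  have hc1 : c = 1 := by
    refine scalar_one hp2 h' (Φ := (inc e).comp Φ) ((inc_injective e).comp N.inj) (fun a => ?_) hne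
    rw [MonoidHom.comp_apply, MonoidHom.comp_apply, ← hc, ← inc_ind, hβ, MulAut.conj_apply]
  obtain ⟨a, rfl⟩ := (N.pos z).1 hz
  rw [hβ, MulAut.conj_apply, hc, hc1, one_mul]

include R in
/-- `p ∣ |SL(2,F_i)|` for all `i` is impossible. -/
theorem false_dvd [Finite W] [hr : Fact r.Prime] (hG1 : RGD.Sup X {x | IsRoot cs hA x} = ⊤) (hp2 : p ≠ 2)
    (h2 : ∀ i : I, ∃ j, j ≠ i)
    (hRk : ∀ i, ∃ (F : Type v) (_ : Field F) (Φ : SL2 F →* L), Rk T (X (sr i)) (X (-sr i)) Φ ∧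
      Finite F ∧ p ∣ Nat.card (SL2 F))
    (hsym : ∀ σ : Equiv.Perm I, (∀ i j, M (σ i) (σ j) = M i j) → σ ^ p = 1 → σ = 1)
    (h : MinCex p x) (e : commutator G ≃* L) (hrp : r ≠ p) (hs : HasCent r p L) : False := by
  have hG := KFacts.RgdRigid.GG_eq_top (T := T) hG1
  obtain ⟨g, σ, D, hU, hUN⟩ := exists_frame R hG h e hrp hs
  have h' : MinCex p (g * x * g⁻¹) := MinCex.conj h g
  obtain ⟨x', hx'⟩ : ∃ x', x' = g * x * g⁻¹ := ⟨_, rfl⟩
  rw [← hx'] at D hU hUN h'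
  have hxp : x' ^ p = 1 := by rw [← h'.ord, pow_orderOf_eq_one]
  have hσ : σ = 1 := by
    refine hsym σ (D.matrix R) ?_
    have h3 := D.pow p
    rw [← ind_pow, hxp, ind_one] at h3
    ext i
    obtain ⟨u, hu, hu1⟩ := exists_ne_one R i
    exact Diag.apply_eq R h3 hu hu1 rfl
  subst hσ
  apply ind_ne_one h' e
  refine Diag.eq_one R hG1 D fun i z hz => ?_
  obtain ⟨F, _, Φ, N, hfin, hd⟩ := hRk i
  obtain ⟨j, hj⟩ := h2 i
  have hpos : Fix (ind e x') (X (sr i)) := fun w => D.pos i w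
  have hneg : Fix (ind e x') (X (-sr i)) := fun w => D.neg i w
  have hfix : Fix (ind e x') Φ.range := by
    have h3 : ∀ β : MulAut L, Fix β (X (sr i)) → Fix β (X (-sr i)) → ∀ w ∈ Φ.range, β w ∈ Φ.range := by
      intro β h4 h5 w hw
      have h6 : Φ.range ≤ Φ.range.comap β.toMonoidHom := by
        conv_lhs => rw [N.range]
        refine sup_le (fun v hv => ?_) (fun v hv => ?_)
        · rw [N.range]
          exact mem_sup_left ((h4 v).2 hv)
        · rw [N.range]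
          exact mem_sup_right ((h5 v).2 hv)
      exact h6 hw
    intro w
    refine ⟨fun hw => ?_, fun hw => h3 _ hpos hneg w hw⟩
    have := h3 _ hpos.inv hneg.inv _ hw
    rwa [MulAut.inv_apply_self] at this
  have hne : ((inc e).comp Φ).range ⊔ zpowers x' ≠ ⊤ := by
    rw [comp_range]
    refine ne_top e hfix ?_
    rw [N.range]
    exact sup_ne_top R hj
  have hinj : Function.Injective fun a => ((inc e).comp Φ) (up a) := (inc_injective e).comp N.inj
  have hcomm : ∀ a, x' * inc e (Φ (up a)) = inc e (Φ (up a)) * x' := by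
    by_cases h3 : 3 < Nat.card F
    · intro a
      refine (comm_of_dvd hp2 h' hinj h3 hd ?_ hne _ ⟨up a, rfl⟩).symm
      rw [comp_range]
      rintro _ ⟨w, hw, rfl⟩
      rw [← inc_ind]
      exact ⟨_, (hfix w).2 hw, rfl⟩
    · refine comm_of_small hp2 hxp hinj (by omega) fun a => ?_
      obtain ⟨b, hb⟩ := (N.pos _).1 ((hpos _).2 ((N.pos _).2 ⟨a, rfl⟩))
      refine ⟨b, ?_⟩
      rw [MonoidHom.comp_apply, MonoidHom.comp_apply, ← inc_ind, hb]
  obtain ⟨a, rfl⟩ := (N.pos z).1 hz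
  apply inc_injective e
  rw [inc_ind, hcomm, mul_inv_cancel_right]

end Frame

end Cfsg.Agent.H28.FrameRow
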