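import Cfsg.Agent.H28.FrameRow
import Cfsg.Agent.KFacts.RgdChevCoord
import Cfsg.Agent.KFacts.RgdSL
import Cfsg.Agent.Nodes.ClsPair

/-!
# Minimal counterexamples to the `Z*_p` statement: the untwisted exceptional groups of characteristic `r ≠ p`

* `hasCent_of`, `hasCent_three` : elements of order `3` commuting with `r`-elements;
* `false_untw` : `x ∉ G'` for `G' ≅ D.group K` if `HasCent r p (D.group K)`;
* `row_three_untw` : `Row 3 (D.group K)` if the characteristic of `K` is not `3`.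
-/

set_option autoImplicit false
set_option linter.unusedSectionVars false

namespace Cfsg.Agent.H28.ExcRow

open CoxeterSystem Cfsg.Agent.ChevalleyStructure.CoxeterGeom Cfsg.Agent.Tits.Roots Cfsg.Agent.Tits.Core
  Cfsg.Agent.Nodes.Reps Cfsg.Agent.Nodes.BNOf Cfsg.Agent.Nodes.Bruhat
  Cfsg.Agent.Nodes.OppDec Cfsg.Agent.Nodes.RGDChev
  Cfsg.Agent.KFacts.RgdAut Cfsg.Agent.KFacts.RgdDiag Cfsg.Agent.KFacts.RgdRigid
  Cfsg.Agent.KFacts.RgdField Cfsg.Agent.KFacts.RgdTau Cfsg.Agent.KFacts.RgdChevCoord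
open Cfsg.Lie Cfsg.Agent.ChevalleyStructure Cfsg.Agent.ChevalleyStructure.Elts
  Cfsg.Agent.ChevalleyStructure.NPerm Cfsg.Agent.ChevalleyStructure.CoxeterGeomTypes
open Subgroup Cfsg Cfsg.Agent.H256.ZBasic Cfsg.Agent.H256.ZRed Cfsg.Agent.H256.ZTool Cfsg.Agent.H28.ZIso
  Cfsg.Agent.H28.SLTwoRow Cfsg.Agent.H28.FrameRow
open Cfsg.Agent.ChevalleyStructure.SL2Hom (up lo)

universe u v

/-! ### elements of order three -/

/-- an element of order three of `SL(2,F)` -/
def g3 (F : Type*) [Field F] : SL2 F := ⟨!![0, -1; 1, -1], by simp [Matrix.det_fin_two]⟩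

theorem g3_pow (F : Type*) [Field F] : g3 F ^ 3 = 1 := by
  apply Subtype.ext
  rw [pow_succ, pow_two, Matrix.SpecialLinearGroup.coe_mul, Matrix.SpecialLinearGroup.coe_mul]
  ext i j
  fin_cases i <;> fin_cases j <;> simp [g3, Matrix.mul_apply, Fin.sum_univ_two]

theorem wy_g3 (F : Type*) [Field F] : wy F * g3 F = up (-1) := by
  apply Subtype.ext
  rw [Matrix.SpecialLinearGroup.coe_mul]
  ext i j
  fin_cases i <;> fin_cases j <;> simp [g3, wy, up, Matrix.mul_apply, Fin.sum_univ_two]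

/-- `Φ(g₃)` has order three. -/
theorem orderOf_g3 {L : Type*} [Group L] {r : ℕ} {T P Q : Subgroup L} {F : Type*} [Field F] {Φ : SL2 F →* L}
    (N : Rk T P Q Φ) (hP : IsPGroup r P) (hPQ : ¬ IsPGroup r (P ⊔ Q : Subgroup L)) : orderOf (Φ (g3 F)) = 3 := by
  have : Fact (Nat.Prime 3) := ⟨Nat.prime_three⟩
  apply orderOf_eq_prime
  · rw [← map_pow, g3_pow, map_one]
  · intro h1
    have h2 : Φ (wy F) = Φ (up (-1)) := by rw [← wy_g3, map_mul, h1, mul_one]
    have h3 : Φ (wy F) ∈ P := by rw [h2]; exact (N.pos _).2 ⟨_, rfl⟩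
    apply hPQ
    have h4 : Q ≤ P := by
      intro y hy
      obtain ⟨a, rfl⟩ := (N.neg y).1 hy
      have h5 : Φ (lo a) = Φ (wy F) * Φ (up (-a)) * (Φ (wy F))⁻¹ := by
        rw [← map_mul, wy_up, neg_neg, map_mul, mul_inv_cancel_right]
      rw [h5]
      exact mul_mem (mul_mem h3 ((N.pos _).2 ⟨_, rfl⟩)) (inv_mem h3)
    rw [sup_eq_left.2 h4]
    exact hP

section Gen

variable {I W : Type*} [Fintype I] [DecidableEq I] [Group W] {L : Type v} [Group L] {M : CoxeterMatrix I}
  {cs : CoxeterSystem M W} {A : I → I → ℤ} {hA : IsCartan M A} {r : ℕ} {T : Subgroup L} {n : I → L}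
  {X : (I → ℤ) → Subgroup L} (R : RGD cs hA r T n X)

include R

/-- The root groups of two strongly orthogonal roots. -/
theorem hasCent_of [Finite W] [hr : Fact r.Prime] {p : ℕ} {a b : I → ℤ} (ha : IsRoot cs hA a) (hb : IsRoot cs hA b)
    (hab : a ≠ b) (hab' : a ≠ -b) (h1 : ∀ z, ¬ Btwn cs hA a b z) (h2 : ∀ z, ¬ Btwn cs hA a (-b) z) {y : L}
    (hy : y ∈ X b ⊔ X (-b)) (hyp : orderOf y = p) : HasCent r p L := by
  obtain ⟨s, hs, hs1⟩ : ∃ s ∈ X a, s ≠ 1 := by
    by_contra h3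
    push Not at h3
    exact X_ne_bot R ha ((eq_bot_iff_forall _).2 h3)
  refine ⟨s, hs1, ?_, y, hyp, ?_⟩
  · obtain ⟨k, hk⟩ := R.pgrp' ha ⟨s, hs⟩
    have h3 : s ^ r ^ k = 1 := congrArg Subtype.val hk
    obtain ⟨j, -, hj⟩ := (Nat.dvd_prime_pow hr.out).1 (orderOf_dvd_of_pow_eq_one h3)
    exact ⟨j, hj⟩
  · have h3 : X b ⊔ X (-b) ≤ centralizer ({s} : Set L) := by
      refine sup_le (fun w hw => ?_) (fun w hw => ?_)
      · rw [mem_centralizer_singleton_iff]
        exact (KFacts.RgdSL.comm_of_not_btwn R ha hb hab hab' h1 hs hw).symm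
      · rw [mem_centralizer_singleton_iff]
        exact (KFacts.RgdSL.comm_of_not_btwn R ha hb.neg hab' (by rwa [neg_neg]) h2 hs hw).symm
    exact mem_centralizer_singleton_iff.1 (h3 hy)

/-- Orthogonal nodes. -/
theorem hasCent_nodes [Finite W] [hr : Fact r.Prime] {p : ℕ} {i j : I} (hij : i ≠ j) (h2 : M i j = 2) {y : L}
    (hy : y ∈ X (sr j) ⊔ X (-sr j)) (hyp : orderOf y = p) : HasCent r p L := by
  have hne : sr i ≠ (sr j : I → ℤ) := by
    intro h1
    have h3 := congrFun h1 i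
    rw [sr_self, sr_ne hij] at h3
    exact one_ne_zero h3
  have hne' : sr i ≠ (-sr j : I → ℤ) := by
    intro h1
    have h3 := congrFun h1 i
    rw [sr_self, Pi.neg_apply, sr_ne hij, neg_zero] at h3
    exact one_ne_zero h3
  have key : ∀ c : ℤ, (c = 1 ∨ c = -1) → ∀ z, ¬ Btwn cs hA (sr i) (c • sr j) z := by
    rintro c hc z ⟨hz, m, a, b, hm, ha, hb, he⟩
    have h3 : ∀ k, m * z k = a * sr i k + b * (c * sr j k) := fun k => by
      have := congrFun he k
      simpa using this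
    have h4 : Nodes.Comb.Supp i j z := by
      intro k hki hkj
      have h5 := h3 k
      rw [sr_ne hki, sr_ne hkj, mul_zero, mul_zero, mul_zero, add_zero] at h5
      rcases mul_eq_zero.1 h5 with h6 | h6
      · omega
      · exact h6
    obtain ⟨k, hk, h5⟩ := Nodes.ClsPair.eq_of_supp_two hij h2 hz h4
    have h6 := h3 i
    have h7 := h3 j
    rw [sr_self, sr_ne hij, mul_zero, mul_zero, add_zero, mul_one] at h6
    rw [sr_self, sr_ne hij.symm, mul_zero, zero_add, mul_one] at h7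
    have h8 : z i ≠ 0 := by
      intro h9
      rw [h9, mul_zero] at h6
      omega
    have h9 : z j ≠ 0 := by
      intro h9
      rw [h9, mul_zero] at h7
      rcases hc with rfl | rfl <;> omega
    rcases hk with rfl | rfl <;> rcases h5 with h5 | h5
    · exact h9 (by rw [h5, sr_ne hij.symm])
    · exact h9 (by rw [h5, Pi.neg_apply, sr_ne hij.symm, neg_zero])
    · exact h8 (by rw [h5, sr_ne hij])
    · exact h8 (by rw [h5, Pi.neg_apply, sr_ne hij, neg_zero])
  refine hasCent_of R (isRoot_sr cs hA i) (isRoot_sr cs hA j) hne hne' ?_ ?_ hy hyp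
  · have := key 1 (Or.inl rfl)
    rwa [one_smul] at this
  · have := key (-1) (Or.inr rfl)
    rwa [neg_smul, one_smul] at this

/-- `p = 3`: a node orthogonal to another one. -/
theorem hasCent_three [Finite W] [hr : Fact r.Prime] {i j : I} (hij : i ≠ j) (h2 : M i j = 2)
    {F : Type*} [Field F] {Φ : SL2 F →* L} (N : Rk T (X (sr j)) (X (-sr j)) Φ) : HasCent r 3 L := by
  refine hasCent_nodes R hij h2 (y := Φ (g3 F)) ?_ (orderOf_g3 N (R.pgrp j) (R.notp j))
  rw [← N.range]
  exact ⟨_, rfl⟩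

end Gen

/-! ### the untwisted groups -/

section Untw

variable {D : ChevalleyDatum} {l : ℕ} {M : CoxeterMatrix (Fin l)} (hp : IsType D l M) {K : Type u} [Field K]

include hp in
theorem exists_rk (i : Fin l) : ∃ Φ : SL2 K →* ↥(D.group K), Rk (TT D K) (XX D l K (sr i)) (XX D l K (-sr i)) Φ ∧
    (∀ a, ((Φ (up a) : ↥(D.group K)) : GL D.Idx K) = xG hp.inList (D.simple i) a) ∧
    ∀ a, ((Φ (lo a) : ↥(D.group K)) : GL D.Idx K) = xG hp.inList (D.neg (D.simple i)) a := by
  have hi := simple_lt hp.inList (lt_rank hp i)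
  obtain ⟨φ, hφ, hxy⟩ := Cfsg.Agent.S1030.result (F := K) D hp.inList (D.simple i) hi
  have hup : ∀ a : K, φ (up a) = xG hp.inList (D.simple i) a := fun a =>
    Units.ext (by rw [(hxy (up a) a).1 rfl, coe_xG])
  have hlo : ∀ a : K, φ (lo a) = xG hp.inList (D.neg (D.simple i)) a := fun a =>
    Units.ext (by rw [(hxy (lo a) a).2 rfl, coe_xG])
  have hmem : ∀ g, φ g ∈ D.group K := by
    intro g
    have h1 : φ.range ≤ D.group K := range_le (fun a => by rw [hup]; exact xG_mem_group hp.inList _ a)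
      (fun a => by rw [hlo]; exact xG_mem_group hp.inList _ a)
    exact h1 ⟨g, rfl⟩
  have hinj : ∀ a b : K, φ (up a) = φ (up b) → a = b := by
    intro a b hab
    rw [hup, hup] at hab
    exact xG_injective hp.inList hi hab
  refine ⟨φ.codRestrict (D.group K) hmem, ⟨fun y => ?_, fun y => ?_, fun a b hab => ?_, fun t ht => ?_⟩, hup, hlo⟩
  · rw [mem_subgroupOf, XV_sr hp, mem_rootSubgroup_iff hp.inList]
    constructor
    · rintro ⟨a, ha⟩
      exact ⟨a, Subtype.ext (ha.trans (hup a).symm)⟩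
    · rintro ⟨a, rfl⟩
      exact ⟨a, by rw [← hup]; rfl⟩
  · rw [mem_subgroupOf, XV_neg_sr hp, mem_rootSubgroup_iff hp.inList]
    constructor
    · rintro ⟨a, ha⟩
      exact ⟨a, Subtype.ext (ha.trans (hlo a).symm)⟩
    · rintro ⟨a, rfl⟩
      exact ⟨a, by rw [← hlo]; rfl⟩
  · exact hinj a b (congrArg Subtype.val hab)
  · obtain ⟨c, -, hct⟩ := BNChev.diagonal_conj hp.inList (F := K) (h := t) ht hi
    refine ⟨c, fun a => Subtype.ext ?_⟩
    have h1 := hct a
    rw [← hup, ← hup] at h1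
    exact h1

include hp in
/-- `G' ≅ D.group K`: `x ∉ G'`. -/
theorem false_untw [Finite K] (hl : 2 ≤ l) (r : ℕ) [Fact r.Prime] [CharP K r] {G : Type v} [Group G] [Finite G] {p : ℕ}
    [Fact p.Prime] {x : G} (hp2 : p ≠ 2) (h : MinCex p x) (e : commutator G ≃* ↥(D.group K)) (hrp : r ≠ p)
    (hs : HasCent r p ↥(D.group K)) (hx : x ∈ commutator G) : False := by
  have hW := finite_W hp M.toCoxeterSystem
  refine false_inner (rgd (K := K) hp M.toCoxeterSystem r) (G1_eq_top hp M.toCoxeterSystem) hp2 (fun i => ?_)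
    (fun i => ?_) h e hrp hs hx
  · obtain ⟨j, hj⟩ := Fintype.exists_ne_of_one_lt_card (by rw [Fintype.card_fin]; omega) i
    exact ⟨j, hj⟩
  · obtain ⟨Φ, N, -⟩ := exists_rk hp (K := K) i
    exact ⟨K, inferInstance, Φ, N⟩

include hp in
/-- `Row 3 (D.group K)`. -/
theorem row_three_untw [Finite K] (hl : 2 ≤ l) (r : ℕ) [Fact r.Prime] [CharP K r] (hr3 : r ≠ 3) (hM : H936.SymTwo M)
    (hs : HasCent r 3 ↥(D.group K)) : Row.{v} 3 ↥(D.group K) := by
  intro G _ _ x h e
  have : Fact (Nat.Prime 3) := ⟨Nat.prime_three⟩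
  have hW := finite_W hp M.toCoxeterSystem
  refine false_dvd (rgd (K := K) hp M.toCoxeterSystem r) (G1_eq_top hp M.toCoxeterSystem) (by norm_num) (fun i => ?_)
    (fun i => ?_) (fun σ hσ h3 => ?_) h e hr3 hs
  · obtain ⟨j, hj⟩ := Fintype.exists_ne_of_one_lt_card (by rw [Fintype.card_fin]; omega) i
    exact ⟨j, hj⟩
  · obtain ⟨Φ, N, -⟩ := exists_rk hp (K := K) i
    exact ⟨K, inferInstance, Φ, N, inferInstance, three_dvd K⟩
  · have h2 := hM σ hσ
    rw [pow_succ, h2, one_mul] at h3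
    exact h3

include hp in
/-- Orthogonal nodes. -/
theorem hasCent_untw [Finite K] (r : ℕ) [Fact r.Prime] [CharP K r] {i j : Fin l} (hij : i ≠ j) (h2 : M i j = 2) :
    HasCent r 3 ↥(D.group K) := by
  have hW := finite_W hp M.toCoxeterSystem
  obtain ⟨Φ, N, -⟩ := exists_rk hp (K := K) j
  exact hasCent_three (rgd (K := K) hp M.toCoxeterSystem r) hij h2 N

include hp in
/-- A root `s` such that `s ± α_j` are not roots. -/
theorem hasCent_comm [Finite K] (r : ℕ) [Fact r.Prime] [CharP K r] {j : Fin l} {s : ℕ} (hs : s < D.nroots)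
    (h1 : s ≠ D.simple j) (h2 : s ≠ D.neg (D.simple j)) (h3 : s ≠ D.neg (D.neg (D.simple j)))
    (hn : D.neg (D.simple j) < D.nroots) (hc : D.commTerms (D.simple j) s = [])
    (hc' : D.commTerms (D.neg (D.simple j)) s = []) : HasCent r 3 ↥(D.group K) := by
  have hW := finite_W hp M.toCoxeterSystem
  have R := rgd (K := K) hp M.toCoxeterSystem r
  obtain ⟨Φ, N, hup, hlo⟩ := exists_rk hp (K := K) j
  have hj := simple_lt hp.inList (lt_rank hp j)
  have key : ∀ v, v < D.nroots → s ≠ v → s ≠ D.neg v → D.commTerms v s = [] → ∀ t u : K,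
      xG hp.inList v t * xG hp.inList s u = xG hp.inList s u * xG hp.inList v t := by
    intro v hv h4 h5 h6 t u
    have h7 := comm_xG hp (K := K) hv hs h4 h5 (-t) (-u)
    have h8 : D.commWord K v s (-t) (-u) = [] := by
      unfold ChevalleyDatum.commWord
      rw [h6]
      rfl
    rw [h8, xG_inv, xG_inv, _root_.neg_neg, _root_.neg_neg] at h7
    have h9 : wordG (F := K) hp.inList [] = 1 := rfl
    rw [h9, commutatorElement_eq_one_iff_mul_comm] at h7
    exact h7.symm
  have hrs : r ≠ 0 := (Fact.out : r.Prime).ne_zero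
  have hx1 : (⟨xG hp.inList s 1, xG_mem_group hp.inList s 1⟩ : ↥(D.group K)) ^ r = 1 := by
    apply Subtype.ext
    change xG hp.inList s (1 : K) ^ r = 1
    have h4 : ∀ k : ℕ, xG hp.inList s (1 : K) ^ k = xG hp.inList s (k : K) := by
      intro k
      induction k with
      | zero => rw [pow_zero, Nat.cast_zero, xG_zero]
      | succ k ih => rw [pow_succ, ih, xG_add, Nat.cast_succ]
    rw [h4, CharP.cast_eq_zero, xG_zero]
  refine ⟨⟨xG hp.inList s 1, xG_mem_group hp.inList s 1⟩, ?_, ?_, Φ (g3 K), orderOf_g3 N (R.pgrp j) (R.notp j), ?_⟩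
  · intro h4
    have h5 : xG hp.inList s (1 : K) = xG hp.inList s 0 := by rw [xG_zero]; exact congrArg Subtype.val h4
    exact one_ne_zero (xG_injective hp.inList hs h5)
  · obtain ⟨k, -, hk⟩ := (Nat.dvd_prime_pow (Fact.out : r.Prime)).1
      (show orderOf (⟨xG hp.inList s 1, xG_mem_group hp.inList s 1⟩ : ↥(D.group K)) ∣ r ^ 1 by
        rw [pow_one]; exact orderOf_dvd_of_pow_eq_one hx1)
    exact ⟨k, hk⟩
  · have h4 : Φ.range ≤ centralizer ({⟨xG hp.inList s 1, xG_mem_group hp.inList s 1⟩} : Set ↥(D.group K)) := by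
      refine range_le (fun a => ?_) (fun a => ?_)
      · rw [mem_centralizer_singleton_iff]
        apply Subtype.ext
        rw [coe_mul, coe_mul, hup]
        exact key _ hj h1 h2 hc a 1
      · rw [mem_centralizer_singleton_iff]
        apply Subtype.ext
        rw [coe_mul, coe_mul, hlo]
        exact key _ hn h2 h3 hc' a 1
    exact mem_centralizer_singleton_iff.1 (h4 ⟨_, rfl⟩)

end Untw

end Cfsg.Agent.H28.ExcRow
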