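import Mathlib
import Cfsg.Prelude.Def_Local
import Cfsg.Agent.Lib.Cores

/-!
# Relative traces: weakly closed elements and splitting (helper28)

`G` finite, `S` a Sylow `p`-subgroup, `N = O_{p'}(G)`:

* `mem_center_mk_iff` : for `x ∈ S` with image in `O_p(G/N)`: the image of `x` is central in `G/N` iff `x` is weakly closed
  in `S` with respect to `G`;
* `splits` : if `Z(S) ≤ O_{p',p}(G)` then the weakly closed elements form a direct factor of `Z(S)`. The complement is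
  the kernel of the relative trace.
-/

set_option autoImplicit false

namespace Cfsg.Agent.H28.TraceSplit

open Subgroup Cfsg
open scoped Pointwise

variable {G : Type*} [Group G] {p : ℕ}

/-- the centre of `S` as a subgroup of `G` -/
abbrev ZS (S : Sylow p G) : Subgroup G := (S : Subgroup G) ⊓ centralizer ((S : Subgroup G) : Set G)

theorem inf_core_eq_bot [Finite G] [Fact p.Prime] (S : Sylow p G) : (S : Subgroup G) ⊓ pPrimeCore p G = ⊥ := by
  have h1 := Cfsg.Agent.Lib.Cores.pPrimeCore_coprime (G := G) p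
  apply Subgroup.eq_bot_of_card_eq
  have h2 : Nat.card ↥((S : Subgroup G) ⊓ pPrimeCore p G : Subgroup G) ∣ Nat.card ↥(pPrimeCore p G) :=
    Subgroup.card_dvd_of_le inf_le_right
  have h3 : IsPGroup p ↥((S : Subgroup G) ⊓ pPrimeCore p G : Subgroup G) := S.2.to_le inf_le_left
  obtain ⟨k, hk⟩ := IsPGroup.iff_card.1 h3
  have h4 : Nat.Coprime (p ^ k) (Nat.card ↥(pPrimeCore p G)) := (h1.symm.pow_left k)
  rw [hk] at h2 ⊢
  exact Nat.Coprime.eq_one_of_dvd h4 h2

theorem eq_one_of_mem [Finite G] [Fact p.Prime] (S : Sylow p G) {x : G} (hx : x ∈ (S : Subgroup G)) (hN : x ∈ pPrimeCore p G) : x = 1 := by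
  have : x ∈ (S : Subgroup G) ⊓ pPrimeCore p G := ⟨hx, hN⟩
  rwa [inf_core_eq_bot, mem_bot] at this

/-- an element of `S N`, of the form needed, is conjugate under `N` into `S` -/
theorem exists_conj_mem [Finite G] [Fact p.Prime] (S : Sylow p G) (N : Subgroup G) [N.Normal] {y : G} (hy : IsPGroup p ↥(zpowers y))
    (hyS : ∃ s ∈ (S : Subgroup G), s⁻¹ * y ∈ N) : ∃ n ∈ N, n * y * n⁻¹ ∈ (S : Subgroup G) := by
  obtain ⟨s, hs, hsy⟩ := hyS
  obtain ⟨H, hH⟩ : ∃ H : Subgroup G, H = (S : Subgroup G) ⊔ N := ⟨_, rfl⟩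
  have hSH : (S : Subgroup G) ≤ H := hH ▸ le_sup_left
  have hNH : N ≤ H := hH ▸ le_sup_right
  have hyH : y ∈ H := by
    have : y = s * (s⁻¹ * y) := by group
    rw [this]
    exact mul_mem (hSH hs) (hNH hsy)
  have h1 : IsPGroup p ↥(zpowers (⟨y, hyH⟩ : ↥H)) := by
    have : zpowers (⟨y, hyH⟩ : ↥H) = (zpowers y).subgroupOf H := by
      ext z
      rw [mem_subgroupOf, mem_zpowers_iff, mem_zpowers_iff]
      constructor
      · rintro ⟨k, hk⟩
        exact ⟨k, by rw [← hk]; rfl⟩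
      · rintro ⟨k, hk⟩
        exact ⟨k, Subtype.ext hk⟩
    rw [this]
    exact hy.comap_of_injective _ (Subgroup.subtype_injective _)
  obtain ⟨Q, hQ⟩ := h1.exists_le_sylow
  obtain ⟨h, hh⟩ := MulAction.exists_smul_eq ↥H Q (S.subtype hSH)
  have h2 : (h : ↥H) * ⟨y, hyH⟩ * h⁻¹ ∈ ((S.subtype hSH : Sylow p ↥H) : Subgroup ↥H) := by
    rw [← hh]
    exact ⟨⟨y, hyH⟩, hQ (mem_zpowers _), rfl⟩
  rw [Sylow.coe_subtype, mem_subgroupOf] at h2
  have h3 : (h : G) * y * (h : G)⁻¹ ∈ (S : Subgroup G) := h2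
  have hhm : (h : G) ∈ (S : Subgroup G) ⊔ N := hH ▸ h.2
  obtain ⟨a, ha, n, hn, han⟩ := Subgroup.mem_sup_of_normal_right.1 hhm
  refine ⟨n, hn, ?_⟩
  rw [← han] at h3
  have h4 : a⁻¹ * (a * n * y * (a * n)⁻¹) * a ∈ (S : Subgroup G) := mul_mem (mul_mem (inv_mem ha) h3) ha
  have h5 : a⁻¹ * (a * n * y * (a * n)⁻¹) * a = n * y * n⁻¹ := by group
  rwa [h5] at h4

theorem isPGroup_zpowers_of_mem {S : Sylow p G} {x : G} (hx : x ∈ (S : Subgroup G)) (g : G) :
    IsPGroup p ↥(zpowers (g * x * g⁻¹)) := by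
  have h1 : zpowers (g * x * g⁻¹) ≤ ((g • S : Sylow p G) : Subgroup G) := by
    rw [zpowers_le]
    exact ⟨x, hx, rfl⟩
  exact (g • S).2.to_le h1

/-- `x ∈ S` with image in `O_p(G/N)` is weakly closed iff its image in `G / N` is central. -/
theorem mk_mem_center_iff [Finite G] [Fact p.Prime] (S : Sylow p G) [(pPrimeCore p G).Normal] {x : G} (hx : x ∈ (S : Subgroup G))
    (hxc : (∀ g : G, g * x * g⁻¹ ∈ (S : Subgroup G) → g * x * g⁻¹ = x) →
      (QuotientGroup.mk x : G ⧸ pPrimeCore p G) ∈ pCore p (G ⧸ pPrimeCore p G)) :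
    (QuotientGroup.mk x : G ⧸ pPrimeCore p G) ∈ center (G ⧸ pPrimeCore p G) ↔
      ∀ g : G, g * x * g⁻¹ ∈ (S : Subgroup G) → g * x * g⁻¹ = x := by
  constructor
  · intro hc g hg
    have h1 : (QuotientGroup.mk g : G ⧸ pPrimeCore p G) * QuotientGroup.mk x =
        QuotientGroup.mk x * QuotientGroup.mk g := mem_center_iff.1 hc _
    have h2 : x⁻¹ * (g * x * g⁻¹) ∈ pPrimeCore p G := by
      rw [← QuotientGroup.eq]
      change (QuotientGroup.mk x : G ⧸ pPrimeCore p G) =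
        QuotientGroup.mk g * QuotientGroup.mk x * (QuotientGroup.mk g)⁻¹
      rw [h1, mul_inv_cancel_right]
    have h3 := eq_one_of_mem S (mul_mem (inv_mem hx) hg) h2
    rw [inv_mul_eq_one] at h3
    exact h3.symm
  · intro hw
    have hcore := hxc hw
    rw [mem_center_iff]
    intro q
    obtain ⟨g, rfl⟩ := QuotientGroup.mk_surjective q
    have hn : (pCore p (G ⧸ pPrimeCore p G)).Normal := Cfsg.Agent.Lib.Cores.pCore_normal p
    have h1 := hn.conj_mem _ hcore (QuotientGroup.mk g)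
    -- the image of `S` is a Sylow subgroup of the quotient
    have hle : pCore p (G ⧸ pPrimeCore p G) ≤ (S : Subgroup G).map (QuotientGroup.mk' (pPrimeCore p G)) :=
      Cfsg.Agent.Lib.Cores.pCore_le_sylow (S.mapSurjective (QuotientGroup.mk'_surjective (pPrimeCore p G)))
    obtain ⟨s, hs, hsg⟩ := hle h1
    have h2 : s⁻¹ * (g * x * g⁻¹) ∈ pPrimeCore p G := by
      rw [← QuotientGroup.eq]
      exact hsg
    obtain ⟨n, hn, hnS⟩ := exists_conj_mem S (pPrimeCore p G) (isPGroup_zpowers_of_mem hx g) ⟨s, hs, h2⟩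
    have h3 : n * (g * x * g⁻¹) * n⁻¹ = (n * g) * x * (n * g)⁻¹ := by group
    rw [h3] at hnS
    have h4 := hw (n * g) hnS
    have h5 : (QuotientGroup.mk (n * g) : G ⧸ pPrimeCore p G) = QuotientGroup.mk g := by
      rw [eq_comm, QuotientGroup.eq]
      have : g⁻¹ * (n * g) = g⁻¹ * n * g⁻¹⁻¹ := by group
      rw [this]
      exact (inferInstance : (pPrimeCore p G).Normal).conj_mem n hn g⁻¹
    have h6 := congrArg (fun y : G => (QuotientGroup.mk y : G ⧸ pPrimeCore p G)) h4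
    have h7 : (QuotientGroup.mk (n * g) : G ⧸ pPrimeCore p G) * QuotientGroup.mk x *
        (QuotientGroup.mk (n * g))⁻¹ = QuotientGroup.mk x := h6
    rw [h5, mul_inv_eq_iff_eq_mul] at h7
    exact h7

/-- **Splitting by the relative trace.** `A ≤ Z(S)` a subgroup normalized by nothing in particular, with image in
`O_p(G/N)`. -/
theorem splits [Finite G] [Fact p.Prime] (S : Sylow p G) (hZ : ZS S ≤ pPrimePCore p G) :
    ∃ W K : Subgroup G, (∀ x : G, x ∈ W ↔ (x ∈ (S : Subgroup G) ∧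
        ∀ g : G, g * x * g⁻¹ ∈ (S : Subgroup G) → g * x * g⁻¹ = x)) ∧
      K ≤ ZS S ∧ W ⊓ K = ⊥ ∧ W ⊔ K = ZS S := by
  classical
  have hpp : p.Prime := Fact.out
  have hNn : (pPrimeCore p G).Normal := Cfsg.Agent.Lib.Cores.pPrimeCore_normal p
  have hZS : ∀ z ∈ ZS S, ∀ s ∈ (S : Subgroup G), s * z = z * s := fun z hz s hs =>
    mem_centralizer_iff.1 hz.2 s hs
  have hwZ : ∀ x ∈ (S : Subgroup G), (∀ g : G, g * x * g⁻¹ ∈ (S : Subgroup G) → g * x * g⁻¹ = x) → x ∈ ZS S := by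
    intro x hx h
    refine ⟨hx, mem_centralizer_iff.2 fun s hs => ?_⟩
    have := h s (mul_mem (mul_mem hs hx) (inv_mem hs))
    rw [mul_inv_eq_iff_eq_mul] at this
    exact this
  have hcore : ∀ z ∈ ZS S, (QuotientGroup.mk z : G ⧸ pPrimeCore p G) ∈ pCore p (G ⧸ pPrimeCore p G) :=
    fun z hz => hZ hz
  have hmk : ∀ x ∈ (S : Subgroup G), ((QuotientGroup.mk x : G ⧸ pPrimeCore p G) ∈ center (G ⧸ pPrimeCore p G) ↔
      ∀ g : G, g * x * g⁻¹ ∈ (S : Subgroup G) → g * x * g⁻¹ = x) := fun x hx =>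
    mk_mem_center_iff S hx fun h => hcore x (hwZ x hx h)
  -- the subgroup `W`
  let W : Subgroup G := (S : Subgroup G) ⊓ (center (G ⧸ pPrimeCore p G)).comap (QuotientGroup.mk' (pPrimeCore p G))
  have hWmem : ∀ x : G, x ∈ W ↔ (x ∈ (S : Subgroup G) ∧
      ∀ g : G, g * x * g⁻¹ ∈ (S : Subgroup G) → g * x * g⁻¹ = x) := by
    intro x
    constructor
    · rintro ⟨h1, h2⟩
      exact ⟨h1, (hmk x h1).1 h2⟩
    · rintro ⟨h1, h2⟩
      exact ⟨h1, (hmk x h1).2 h2⟩
  have hWZ : W ≤ ZS S := fun x hx => hwZ x ((hWmem x).1 hx).1 ((hWmem x).1 hx).2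
  -- the abelian normal subgroup `V` of the quotient
  obtain ⟨O, hO⟩ : ∃ O, O = pCore p (G ⧸ pPrimeCore p G) := ⟨_, rfl⟩
  have hOn : O.Normal := hO ▸ Cfsg.Agent.Lib.Cores.pCore_normal p
  obtain ⟨V, hV⟩ : ∃ V, V = O ⊓ centralizer (O : Set (G ⧸ pPrimeCore p G)) := ⟨_, rfl⟩
  have hVn : V.Normal := by rw [hV]; infer_instance
  have hVO : V ≤ O := by rw [hV]; exact inf_le_left
  have hVc : ∀ v ∈ V, ∀ w ∈ V, v * w = w * v := by
    intro v hv w hw
    rw [hV] at hv hw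
    exact (mem_centralizer_iff.1 hv.2 w hw.1).symm
  have hOS : O ≤ (S : Subgroup G).map (QuotientGroup.mk' (pPrimeCore p G)) := by
    rw [hO]
    exact Cfsg.Agent.Lib.Cores.pCore_le_sylow (S.mapSurjective (QuotientGroup.mk'_surjective (pPrimeCore p G)))
  have hzV : ∀ z ∈ ZS S, (QuotientGroup.mk z : G ⧸ pPrimeCore p G) ∈ V := by
    intro z hz
    rw [hV]
    refine ⟨hO ▸ hcore z hz, mem_centralizer_iff.2 fun o ho => ?_⟩
    obtain ⟨s, hs, rfl⟩ := hOS ho
    change (QuotientGroup.mk s : G ⧸ pPrimeCore p G) * QuotientGroup.mk z = QuotientGroup.mk z * QuotientGroup.mk s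
    rw [← QuotientGroup.mk_mul, ← QuotientGroup.mk_mul, hZS z hz s hs]
  let _ : CommGroup ↥V := { (inferInstance : Group ↥V) with
    mul_comm := fun a b => Subtype.ext (hVc a a.2 b b.2) }
  let ρ : (G ⧸ pPrimeCore p G) →* MulAut ↥V := MulAut.conjNormal
  have hρ : ∀ g (v : ↥V), ((ρ g v : ↥V) : G ⧸ pPrimeCore p G) = g * v * g⁻¹ := fun g v => MulAut.conjNormal_apply g v
  let ι : ↥(ZS S) →* ↥V :=
    { toFun := fun z => ⟨QuotientGroup.mk (z : G), hzV z z.2⟩
      map_one' := rfl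
      map_mul' := fun _ _ => rfl }
  let c : G ⧸ (S : Subgroup G) → ↥(ZS S) → ↥V := fun q z => Quotient.liftOn' q
    (fun g => ρ (QuotientGroup.mk g) (ι z)) (by
      intro a b hab
      rw [QuotientGroup.leftRel_apply] at hab
      apply Subtype.ext
      rw [hρ, hρ]
      change (QuotientGroup.mk (a * (z : G) * a⁻¹) : G ⧸ pPrimeCore p G) = QuotientGroup.mk (b * (z : G) * b⁻¹)
      have h1 := hZS z z.2 _ hab
      have h2 : b * (z : G) * b⁻¹ = a * (a⁻¹ * b * z) * b⁻¹ := by group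
      rw [h2, h1]
      congr 1
      group)
  have hc : ∀ (g : G) (z : ↥(ZS S)), c (QuotientGroup.mk g) z = ρ (QuotientGroup.mk g) (ι z) := fun _ _ => rfl
  let _ : Fintype (G ⧸ (S : Subgroup G)) := Fintype.ofFinite _
  let τ : ↥(ZS S) →* ↥V :=
    { toFun := fun z => ∏ q, c q z
      map_one' := by
        apply Finset.prod_eq_one
        intro q _
        obtain ⟨g, rfl⟩ := QuotientGroup.mk_surjective q
        rw [hc, map_one, map_one]
      map_mul' := fun a b => by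
        change ∏ q, c q (a * b) = (∏ q, c q a) * ∏ q, c q b
        rw [← Finset.prod_mul_distrib]
        refine Finset.prod_congr rfl fun q _ => ?_
        obtain ⟨g, rfl⟩ := QuotientGroup.mk_surjective q
        rw [hc, hc, hc, map_mul, map_mul] }
  have hτ : ∀ z, τ z = ∏ q, c q z := fun _ => rfl
  -- the trace is invariant
  have hτinv : ∀ (g : G) (z : ↥(ZS S)), ρ (QuotientGroup.mk g) (τ z) = τ z := by
    intro g z
    rw [hτ, map_prod]
    conv_rhs => rw [← Equiv.prod_comp (MulAction.toPerm g : Equiv.Perm (G ⧸ (S : Subgroup G))) (fun q => c q z)]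
    refine Finset.prod_congr rfl fun q _ => ?_
    obtain ⟨a, rfl⟩ := QuotientGroup.mk_surjective q
    have : (MulAction.toPerm g : Equiv.Perm (G ⧸ (S : Subgroup G))) (QuotientGroup.mk a) =
      QuotientGroup.mk (g * a) := rfl
    rw [this, hc, hc, QuotientGroup.mk_mul, map_mul, MulAut.mul_apply]
  have hτcent : ∀ z, ((τ z : ↥V) : G ⧸ pPrimeCore p G) ∈ center (G ⧸ pPrimeCore p G) := by
    intro z
    rw [mem_center_iff]
    intro q
    obtain ⟨g, rfl⟩ := QuotientGroup.mk_surjective q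
    have h1 := congrArg Subtype.val (hτinv g z)
    rw [hρ, mul_inv_eq_iff_eq_mul] at h1
    exact h1
  -- the trace on `W`
  obtain ⟨m, hm⟩ : ∃ m, m = Fintype.card (G ⧸ (S : Subgroup G)) := ⟨_, rfl⟩
  have hmp : ¬ p ∣ m := by
    rw [hm, ← Nat.card_eq_fintype_card]
    exact S.not_dvd_index
  have hτW : ∀ (z : ↥(ZS S)), (z : G) ∈ W → τ z = (ι z) ^ m := by
    intro z hz
    rw [hτ]
    have h1 : ∀ q, c q z = ι z := by
      intro q
      obtain ⟨g, rfl⟩ := QuotientGroup.mk_surjective q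
      rw [hc]
      apply Subtype.ext
      rw [hρ]
      have h2 : (QuotientGroup.mk (z : G) : G ⧸ pPrimeCore p G) ∈ center (G ⧸ pPrimeCore p G) := hz.2
      have h3 := mem_center_iff.1 h2 (QuotientGroup.mk g)
      change (QuotientGroup.mk g : G ⧸ pPrimeCore p G) * QuotientGroup.mk (z : G) * (QuotientGroup.mk g)⁻¹ =
        QuotientGroup.mk (z : G)
      rw [h3, mul_inv_cancel_right]
    rw [Finset.prod_congr rfl fun q _ => h1 q, Finset.prod_const, Finset.card_univ, hm]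
  have hιinj : ∀ z : ↥(ZS S), ι z = 1 → z = 1 := by
    intro z hz
    have h1 : (QuotientGroup.mk (z : G) : G ⧸ pPrimeCore p G) = 1 := congrArg Subtype.val hz
    rw [QuotientGroup.eq_one_iff] at h1
    exact Subtype.ext (eq_one_of_mem S z.2.1 h1)
  refine ⟨W, (τ.ker).map (ZS S).subtype, hWmem, Subgroup.map_subtype_le _, ?_, ?_⟩
  · rw [eq_bot_iff]
    rintro x ⟨hxW, ⟨z, hz, rfl⟩⟩
    have h1 := hτW z hxW
    have h1' : τ z = 1 := hz
    rw [h1'] at h1
    have h2 : ι (z ^ m) = 1 := by rw [map_pow]; exact h1.symm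
    have h3 := hιinj _ h2
    -- `z` is a `p`-element
    obtain ⟨k, hk⟩ := IsPGroup.iff_orderOf.1 S.2 ⟨(z : G), z.2.1⟩
    rw [Subgroup.orderOf_mk] at hk
    have h4 : (z : G) ^ m = 1 := congrArg Subtype.val h3
    have h5 : orderOf (z : G) ∣ m := orderOf_dvd_of_pow_eq_one h4
    have h6 : orderOf (z : G) = 1 := by
      rw [hk] at h5 ⊢
      rcases Nat.eq_zero_or_pos k with h | h
      · rw [h, pow_zero]
      · exact absurd ((dvd_pow_self p h.ne').trans h5) hmp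
    rw [mem_bot]
    exact orderOf_eq_one_iff.1 h6
  · apply le_antisymm (sup_le hWZ (Subgroup.map_subtype_le _))
    intro z hz
    -- the element `s`
    have h1 := hτcent ⟨z, hz⟩
    have h2 : ((τ ⟨z, hz⟩ : ↥V) : G ⧸ pPrimeCore p G) ∈ O := hVO (τ ⟨z, hz⟩ : ↥V).2
    obtain ⟨s, hs, hsz⟩ := hOS h2
    have hsz' : (QuotientGroup.mk s : G ⧸ pPrimeCore p G) = (τ ⟨z, hz⟩ : ↥V) := hsz
    have hsW : s ∈ W := by
      refine ⟨hs, ?_⟩
      have h5 : (QuotientGroup.mk s : G ⧸ pPrimeCore p G) ∈ center (G ⧸ pPrimeCore p G) := by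
        rw [hsz']; exact h1
      exact h5
    -- a power
    obtain ⟨k, hk⟩ := IsPGroup.iff_orderOf.1 S.2 ⟨s, hs⟩
    rw [Subgroup.orderOf_mk] at hk
    have hcop : m.Coprime (orderOf s) := by
      rw [hk]
      exact ((hpp.coprime_iff_not_dvd.2 hmp).symm).pow_right k
    obtain ⟨l, hl⟩ := exists_pow_eq_self_of_coprime hcop
    have hw : s ^ l ∈ W := pow_mem hsW l
    have h3 : τ ⟨s ^ l, hWZ hw⟩ = τ ⟨z, hz⟩ := by
      rw [hτW _ hw]
      apply Subtype.ext
      rw [← hsz']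
      change (QuotientGroup.mk ((s ^ l) ^ m) : G ⧸ pPrimeCore p G) = QuotientGroup.mk s
      rw [← pow_mul, mul_comm l m, pow_mul, hl]
    have h4 : z = s ^ l * ((s ^ l)⁻¹ * z) := by group
    rw [h4]
    refine mul_mem ((le_sup_left : W ≤ _) hw) ((le_sup_right : _ ≤ W ⊔ _) ?_)
    refine ⟨(⟨s ^ l, hWZ hw⟩ : ↥(ZS S))⁻¹ * ⟨z, hz⟩, ?_, rfl⟩
    rw [SetLike.mem_coe, MonoidHom.mem_ker, map_mul, map_inv, h3, inv_mul_cancel]

end Cfsg.Agent.H28.TraceSplit
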