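import Mathlib
import Cfsg.Prelude.Def_PLocal
import Cfsg.Prelude.Def_IsolatedElements
import Cfsg.Prelude.Def_CaseTheorems
import Cfsg.Agent.PLocal.ThompsonJA
import Cfsg.Agent.Lib.Cores
import Cfsg.Agent.Lib.ComponentSolvable
import Cfsg.Agent.H28.WeakClosure
import Cfsg.Agent.H28.TraceSplit

/-!
# Consequences of the `Z*_p`-statement (helper28)

The relative trace `tr : Z(S) → C(N_G(J(S)))` and Glauberman's weak closure theorem.
* `inner` : `p` odd, `O_{p'}(G) = 1`: an automorphism of `p`-power order fixing a Sylow `p`-subgroup elementwise is inner;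
* `quasi` : the statement on the centre of a Sylow `p`-subgroup of a quasisimple group.
-/

set_option autoImplicit false
set_option linter.unusedSectionVars false
set_option linter.style.haveILetI false

namespace Cfsg.Agent.H28.FromZStar

open Subgroup Cfsg

universe u

/-! ### the trace -/

section Trace

variable {L : Type*} [Group L] [Finite L] {A : Type*} [CommGroup A] [MulDistribMulAction L A] (T : Subgroup L)

/-- the trace -/
noncomputable def tr : A →* A :=
  letI := Fintype.ofFinite (L ⧸ T)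
  { toFun := fun a => ∏ q : L ⧸ T, (Quotient.out q : L) • a
    map_one' := by simp
    map_mul' := fun a b => by simp [Finset.prod_mul_distrib] }

variable {T}

theorem tr_apply [Fintype (L ⧸ T)] (a : A) : tr T a = ∏ q : L ⧸ T, (Quotient.out q : L) • a := by
  unfold tr
  simp only [MonoidHom.coe_mk, OneHom.coe_mk]
  congr!

theorem out_smul {a : A} (ha : ∀ t ∈ T, t • a = a) (l : L) : (Quotient.out (l : L ⧸ T) : L) • a = l • a := by
  obtain ⟨t, ht⟩ := QuotientGroup.mk_out_eq_mul T l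
  have h1 : (Quotient.out (l : L ⧸ T) : L) = l * t := ht
  rw [h1, mul_smul, ha _ t.2]

theorem smul_tr {a : A} (ha : ∀ t ∈ T, t • a = a) (l : L) : l • tr T a = tr T a := by
  letI := Fintype.ofFinite (L ⧸ T)
  rw [tr_apply, Finset.smul_prod']
  have h1 : ∀ q : L ⧸ T, l • ((Quotient.out q : L) • a) = (Quotient.out (l • q) : L) • a := by
    intro q
    induction q using QuotientGroup.induction_on with
    | H b => rw [out_smul ha, MulAction.Quotient.smul_coe, out_smul ha, smul_eq_mul, mul_smul]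
  simp_rw [h1]
  exact Equiv.prod_comp (MulAction.toPerm l : Equiv.Perm (L ⧸ T)) fun q => (Quotient.out q : L) • a

theorem tr_of_fixed {a : A} (ha : ∀ l : L, l • a = a) : tr T a = a ^ T.index := by
  letI := Fintype.ofFinite (L ⧸ T)
  rw [tr_apply]
  simp only [ha, Finset.prod_const, Finset.card_univ, Subgroup.index_eq_card, Nat.card_eq_fintype_card]

/-- a homomorphism constant on the orbits -/
theorem hom_tr {B : Type*} [CommGroup B] (φ : A →* B) (h : ∀ (l : L) a, φ (l • a) = φ a) (a : A) :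
    φ (tr T a) = φ a ^ T.index := by
  letI := Fintype.ofFinite (L ⧸ T)
  rw [tr_apply, map_prod]
  simp only [h, Finset.prod_const, Finset.card_univ, Subgroup.index_eq_card, Nat.card_eq_fintype_card]

theorem tr_sigma {σ : L ≃* L} (hσ : ∀ l, σ l ∈ T ↔ l ∈ T) {τ : A →* A} (h : ∀ (l : L) a, τ (l • a) = σ l • τ a)
    {a : A} (ha : ∀ t ∈ T, t • a = a) : tr T (τ a) = τ (tr T a) := by
  letI := Fintype.ofFinite (L ⧸ T)
  have ha' : ∀ t ∈ T, t • τ a = τ a := by
    intro t ht
    have h1 := h (σ.symm t) a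
    rw [ha _ ((hσ _).1 (by rwa [σ.apply_symm_apply])), σ.apply_symm_apply] at h1
    exact h1.symm
  let e : L ⧸ T → L ⧸ T := Quotient.map' σ (by
    intro x y hxy
    rw [QuotientGroup.leftRel_apply] at hxy ⊢
    rw [← map_inv, ← map_mul, hσ]
    exact hxy)
  have he : ∀ l : L, e (l : L ⧸ T) = ((σ l : L) : L ⧸ T) := fun l => rfl
  have hb : Function.Bijective e := by
    refine Finite.injective_iff_bijective.1 ?_
    intro x y
    induction x using QuotientGroup.induction_on with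
    | H x =>
      induction y using QuotientGroup.induction_on with
      | H y =>
        rw [he, he, QuotientGroup.eq, QuotientGroup.eq, ← map_inv, ← map_mul, hσ]
        exact id
  rw [tr_apply, tr_apply, map_prod]
  refine (Fintype.prod_bijective e hb _ _ fun q => ?_).symm
  induction q using QuotientGroup.induction_on with
  | H l => rw [he, out_smul ha, out_smul ha', h]

end Trace

/-! ### the trace of a Sylow subgroup -/

section Grp

variable {G : Type u} [Group G]

/-- `N` acts on `M` -/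
@[implicit_reducible] def act {N M : Subgroup G} (h : ∀ n ∈ N, ∀ m ∈ M, n * m * n⁻¹ ∈ M) [CommGroup ↥M]
    (hM : ∀ a b : ↥M, ((a * b : ↥M) : G) = a * b) (hM1 : ((1 : ↥M) : G) = 1) : MulDistribMulAction ↥N ↥M where
  smul n m := ⟨n * m * n⁻¹, h n n.2 m m.2⟩
  one_smul m := Subtype.ext (by show ((1 : ↥N) : G) * m * ((1 : ↥N) : G)⁻¹ = m; simp)
  mul_smul a b m := Subtype.ext (by
    show ((a * b : ↥N) : G) * m * ((a * b : ↥N) : G)⁻¹ = a * (b * m * (b : G)⁻¹) * (a : G)⁻¹
    simp [mul_assoc])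
  smul_mul a x y := Subtype.ext (by
    rw [hM]
    show (a : G) * ((x * y : ↥M) : G) * (a : G)⁻¹ = (a * x * (a : G)⁻¹) * (a * y * (a : G)⁻¹)
    rw [hM]
    group)
  smul_one a := Subtype.ext (by
    rw [hM1]
    show (a : G) * ((1 : ↥M) : G) * (a : G)⁻¹ = 1
    rw [hM1]
    group)

/-- **The relative trace from the centre of a Sylow subgroup `S` to the centralizer of `N(J(S))`.** -/
theorem exists_trace [Finite G] {p : ℕ} [Fact p.Prime] (S : Sylow p G) : ∃ (T : G → G) (k : ℕ), k.Coprime p ∧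
    (∀ x ∈ (S : Subgroup G) ⊓ centralizer ((S : Subgroup G) : Set G), T x ∈ (S : Subgroup G) ∧
      ∀ n ∈ normalizer (thompsonSubgroupAOf (S : Subgroup G) : Set G), n * T x = T x * n) ∧
    (∀ x ∈ (S : Subgroup G) ⊓ centralizer ((S : Subgroup G) : Set G),
      ∀ y ∈ (S : Subgroup G) ⊓ centralizer ((S : Subgroup G) : Set G), T (x * y) = T x * T y) ∧
    (∀ (B : Type u) [CommGroup B] (φ : G →* B), ∀ x ∈ (S : Subgroup G) ⊓ centralizer ((S : Subgroup G) : Set G),
      φ (T x) = φ x ^ k) ∧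
    (∀ x ∈ (S : Subgroup G) ⊓ centralizer ((S : Subgroup G) : Set G),
      (∀ n ∈ normalizer (thompsonSubgroupAOf (S : Subgroup G) : Set G), n * x = x * n) → T x = x ^ k) ∧
    ∀ σ : MulAut G, (S : Subgroup G).map σ.toMonoidHom = S →
      ∀ x ∈ (S : Subgroup G) ⊓ centralizer ((S : Subgroup G) : Set G), T (σ x) = σ (T x) := by
  classical
  obtain ⟨J, hJ⟩ : ∃ J, J = thompsonSubgroupAOf (S : Subgroup G) := ⟨_, rfl⟩
  obtain ⟨M, hM⟩ : ∃ M, M = centerThompsonAOf (S : Subgroup G) := ⟨_, rfl⟩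
  obtain ⟨Z, hZ⟩ : ∃ Z, Z = (S : Subgroup G) ⊓ centralizer ((S : Subgroup G) : Set G) := ⟨_, rfl⟩
  obtain ⟨N, hN⟩ : ∃ N, N = normalizer (J : Set G) := ⟨_, rfl⟩
  rw [← hZ, ← hJ, ← hN]
  have hZM : Z ≤ M := by rw [hZ, hM]; exact PLocal.ThompsonJA.inf_centralizer_le_centerThompsonAOf _
  have hMS : M ≤ S := by rw [hM]; exact PLocal.ThompsonJA.centerThompsonAOf_le _
  have hSN : (S : Subgroup G) ≤ N := by
    rw [hN, hJ]
    exact le_trans Subgroup.le_normalizer (PLocal.ThompsonJA.normalizer_le_normalizer_thompsonSubgroupAOf _)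
  have hcomm : ∀ a ∈ M, ∀ b ∈ M, a * b = b * a := by
    rw [hM]
    exact (PLocal.ThompsonJA.isMulCommutative_iff _).1 (PLocal.ThompsonJA.isMulCommutative_centerThompsonAOf _)
  have hnorm : ∀ n ∈ N, ∀ m ∈ M, n * m * n⁻¹ ∈ M := by
    intro n hn m hm
    rw [hM] at hm ⊢
    rw [hN] at hn
    have h1 := Subgroup.mem_normalizer_iff.1 hn
    refine ⟨?_, Subgroup.mem_centralizer_iff.2 fun z hz => ?_⟩
    · have h2 := (h1 m).1
      rw [hJ] at h2
      exact h2 hm.1
    · have h2 := (h1 (n⁻¹ * z * n)).2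
      have e : n * (n⁻¹ * z * n) * n⁻¹ = z := by group
      rw [e, hJ] at h2
      have h3 := Subgroup.mem_centralizer_iff.1 hm.2 _ (h2 hz)
      calc z * (n * m * n⁻¹) = n * ((n⁻¹ * z * n) * m) * n⁻¹ := by group
        _ = n * (m * (n⁻¹ * z * n)) * n⁻¹ := by rw [h3]
        _ = n * m * n⁻¹ * z := by group
  let _ : CommGroup ↥M := { (inferInstance : Group ↥M) with
    mul_comm := fun a b => Subtype.ext (hcomm a a.2 b b.2) }
  let _ : MulDistribMulAction ↥N ↥M := act hnorm (fun _ _ => rfl) rfl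
  have hsm : ∀ (n : ↥N) (m : ↥M), ((n • m : ↥M) : G) = n * m * (n : G)⁻¹ := fun _ _ => rfl
  obtain ⟨T, hT⟩ : ∃ T, T = (S : Subgroup G).subgroupOf N := ⟨_, rfl⟩
  have hfix : ∀ x (hx : x ∈ Z), ∀ t ∈ T, t • (⟨x, hZM hx⟩ : ↥M) = ⟨x, hZM hx⟩ := by
    intro x hx t ht
    apply Subtype.ext
    rw [hsm]
    rw [hT] at ht
    rw [hZ] at hx
    have h1 := Subgroup.mem_centralizer_iff.1 hx.2 _ ht
    show (t : G) * x * (t : G)⁻¹ = x
    have h1' : (t : G) * x = x * t := h1
    rw [h1', mul_inv_cancel_right]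
  obtain ⟨F, hF⟩ : ∃ F : G → G, ∀ x (h : x ∈ M), F x = ((tr T (⟨x, h⟩ : ↥M) : ↥M) : G) :=
    ⟨fun x => if h : x ∈ M then ((tr T (⟨x, h⟩ : ↥M) : ↥M) : G) else 1, fun x h => dif_pos h⟩
  refine ⟨F, T.index, ?_, ?_, ?_, ?_, ?_, ?_⟩
  · have h1 : T.index ∣ (S : Subgroup G).index := by
      rw [hT]
      have h2 : ((S : Subgroup G).subgroupOf N).index = (S : Subgroup G).relIndex N := rfl
      rw [h2]
      exact Subgroup.relIndex_dvd_index_of_le hSN
    have h3 : ¬ p ∣ (S : Subgroup G).index := S.not_dvd_index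
    exact ((Nat.Prime.coprime_iff_not_dvd Fact.out).2 fun h => h3 (h.trans h1)).symm
  · intro x hx
    rw [hF _ (hZM hx)]
    refine ⟨hMS (SetLike.coe_mem _), fun n hn => ?_⟩
    have h1 := congrArg (fun y : ↥M => (y : G)) (smul_tr (hfix x hx) ⟨n, hn⟩)
    simp only [hsm] at h1
    exact mul_inv_eq_iff_eq_mul.1 h1
  · intro x hx y hy
    have h1 : (⟨x * y, hZM (mul_mem hx hy)⟩ : ↥M) = ⟨x, hZM hx⟩ * ⟨y, hZM hy⟩ := rfl
    rw [hF _ (hZM hx), hF _ (hZM hy), hF _ (hZM (mul_mem hx hy)), h1, map_mul]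
    rfl
  · intro B _ φ x hx
    rw [hF _ (hZM hx)]
    have h1 := hom_tr (T := T) (φ.comp M.subtype) (fun l a => by
      show φ ((l • a : ↥M) : G) = φ a
      rw [hsm, map_mul, map_mul, map_inv, mul_comm, ← mul_assoc, inv_mul_cancel, one_mul]) ⟨x, hZM hx⟩
    exact h1
  · intro x hx hxN
    rw [hF _ (hZM hx)]
    have h1 := tr_of_fixed (T := T) (a := (⟨x, hZM hx⟩ : ↥M)) (fun l => Subtype.ext (by
      rw [hsm]
      show (l : G) * x * (l : G)⁻¹ = x
      rw [hxN l l.2, mul_inv_cancel_right]))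
    rw [h1]
    rfl
  · intro σ hσ x hx
    have hσJ : J.map σ.toMonoidHom = J := by
      rw [hJ, PLocal.ThompsonJA.map_thompsonSubgroupAOf _ σ.injective, hσ]
    have hσM : M.map σ.toMonoidHom = M := by
      rw [hM, PLocal.ThompsonJA.map_centerThompsonAOf _ σ.injective, hσ]
    have hmem : ∀ {H : Subgroup G}, H.map σ.toMonoidHom = H → ∀ y, σ y ∈ H ↔ y ∈ H := by
      intro H hH y
      constructor
      · intro h
        rw [← hH] at h
        obtain ⟨z, hz, e⟩ := h
        rwa [← σ.injective e]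
      · intro h
        rw [← hH]
        exact ⟨y, h, rfl⟩
    have hσN : ∀ y, σ y ∈ N ↔ y ∈ N := by
      intro y
      rw [hN, Subgroup.mem_normalizer_iff, Subgroup.mem_normalizer_iff]
      constructor
      · intro h z
        have h1 := h (σ z)
        rw [hmem hσJ, ← map_mul, ← map_inv, ← map_mul, hmem hσJ] at h1
        exact h1
      · intro h z
        obtain ⟨z, rfl⟩ := σ.surjective z
        rw [hmem hσJ, ← map_mul, ← map_inv, ← map_mul, hmem hσJ]
        exact h z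
    have hxM := hZM hx
    have hσx : σ x ∈ M := (hmem hσM x).2 hxM
    rw [hF _ hxM, hF _ hσx]
    let σN : ↥N ≃* ↥N :=
      { toFun := fun n => ⟨σ n, (hσN _).2 n.2⟩
        invFun := fun n => ⟨σ.symm n, (hσN _).1 (by rw [MulEquiv.apply_symm_apply]; exact n.2)⟩
        left_inv := fun n => Subtype.ext (σ.symm_apply_apply _)
        right_inv := fun n => Subtype.ext (σ.apply_symm_apply _)
        map_mul' := fun a b => Subtype.ext (map_mul σ _ _) }
    let τ : ↥M →* ↥M :=
      { toFun := fun m => ⟨σ m, (hmem hσM _).2 m.2⟩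
        map_one' := Subtype.ext (map_one σ)
        map_mul' := fun a b => Subtype.ext (map_mul σ _ _) }
    have h1 := tr_sigma (T := T) (σ := σN) (fun l => by
      rw [hT, Subgroup.mem_subgroupOf, Subgroup.mem_subgroupOf]
      exact hmem hσ _) (τ := τ) (fun l a => Subtype.ext (by
        show σ ((l • a : ↥M) : G) = σ l * σ a * (σ l)⁻¹
        rw [hsm, map_mul, map_mul, map_inv])) (hfix x hx)
    exact congrArg Subtype.val h1

end Grp

/-! ### the two statements -/

/-- the `Z*_p`-statement -/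
def ZStarP (p : ℕ) : Prop := ∀ {G : Type u} [Group G] [Finite G] (S : Sylow p G) (x : G), x ∈ (S : Subgroup G) →
  (∀ g : G, g * x * g⁻¹ ∈ (S : Subgroup G) → g * x * g⁻¹ = x) → InZStar p x

/-- `p` odd: an element of `S` commuting with `N(J(S))` is central modulo `O_{p'}(G)`. -/
theorem inZStar {p : ℕ} [Fact p.Prime] (hZS : ZStarP.{u} p) (hp : p ≠ 2) {G : Type u} [Group G] [Finite G]
    (S : Sylow p G) {x : G} (hx : x ∈ (S : Subgroup G))
    (hN : ∀ n ∈ normalizer (thompsonSubgroupAOf (S : Subgroup G) : Set G), n * x = x * n) : InZStar p x :=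
  hZS S x hx (WeakClosure.weakly_closed hp S x hx hN)

section Inner

variable {G : Type u} [Group G] {p : ℕ} [Fact p.Prime] (P : Sylow p G) (α : MulAut G)

/-- the semidirect product -/
abbrev Ext (α : MulAut G) : Type u := G ⋊[(zpowers α).subtype] ↥(zpowers α)

theorem finite_zpowers [Finite G] : Finite ↥(zpowers α) := inferInstance

instance finite_ext [Finite G] : Finite (Ext α) :=
  Finite.of_equiv _ (SemidirectProduct.equivProd (φ := (zpowers α).subtype)).symm

theorem card_ext : Nat.card (Ext α) = Nat.card G * Nat.card ↥(zpowers α) := by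
  rw [Nat.card_congr (SemidirectProduct.equivProd (φ := (zpowers α).subtype)), Nat.card_prod]

variable {P α} in
theorem fix_zpowers (hfix : ∀ x ∈ (P : Subgroup G), α x = x) {β : MulAut G} (hβ : β ∈ zpowers α) {x : G}
    (hx : x ∈ (P : Subgroup G)) : β x = x := by
  have h1 : zpowers α ≤ MulAction.stabilizer (MulAut G) x := by
    rw [zpowers_le]
    exact hfix x hx
  exact h1 hβ

/-- `P × ⟨α⟩` -/
def sub (hfix : ∀ x ∈ (P : Subgroup G), α x = x) : Subgroup (Ext α) where
  carrier := {γ | γ.left ∈ (P : Subgroup G)}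
  one_mem' := one_mem (P : Subgroup G)
  mul_mem' := by
    intro a b ha hb
    show a.left * (a.right : MulAut G) b.left ∈ (P : Subgroup G)
    rw [fix_zpowers hfix a.right.2 hb]
    exact mul_mem ha hb
  inv_mem' := by
    intro a ha
    show ((a.right⁻¹ : ↥(zpowers α)) : MulAut G) a.left⁻¹ ∈ (P : Subgroup G)
    rw [fix_zpowers hfix (a.right⁻¹).2 (inv_mem ha)]
    exact inv_mem ha

theorem mem_sub (hfix : ∀ x ∈ (P : Subgroup G), α x = x) (γ : Ext α) : γ ∈ sub P α hfix ↔ γ.left ∈ (P : Subgroup G) :=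
  Iff.rfl

theorem card_sub (hfix : ∀ x ∈ (P : Subgroup G), α x = x) :
    Nat.card ↥(sub P α hfix) = Nat.card ↥(P : Subgroup G) * Nat.card ↥(zpowers α) := by
  rw [← Nat.card_prod]
  refine Nat.card_congr
    { toFun := fun γ => (⟨γ.1.left, γ.2⟩, γ.1.right)
      invFun := fun q => ⟨⟨q.1, q.2⟩, q.1.2⟩
      left_inv := fun γ => rfl
      right_inv := fun q => rfl }

/-- **`p` odd, `O_{p'}(G) = 1`: an automorphism of `p`-power order fixing a Sylow `p`-subgroup elementwise is inner.** -/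
theorem inner [Finite G] (hZS : ZStarP.{u} p) (hp : p ≠ 2) (hcore : pPrimeCore p G = ⊥)
    (hα : ∃ j : ℕ, orderOf α = p ^ j) (hfix : ∀ x ∈ (P : Subgroup G), α x = x) :
    ∃ g : G, ∀ x : G, α x = g * x * g⁻¹ := by
  obtain ⟨j, hj⟩ := hα
  have hpp : p.Prime := Fact.out
  have hfin : Finite ↥(zpowers α) := inferInstance
  have hca : Nat.card ↥(zpowers α) = p ^ j := by rw [Nat.card_zpowers, hj]
  -- the Sylow subgroup
  have hind : (sub P α hfix).index = (P : Subgroup G).index := by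
    have h1 := Subgroup.card_mul_index (sub P α hfix)
    have h2 := Subgroup.card_mul_index (P : Subgroup G)
    rw [card_sub, card_ext, ← h2] at h1
    have h3 : Nat.card ↥(P : Subgroup G) * Nat.card ↥(zpowers α) ≠ 0 :=
      mul_ne_zero Nat.card_pos.ne' Nat.card_pos.ne'
    apply Nat.eq_of_mul_eq_mul_left (Nat.pos_of_ne_zero h3)
    rw [h1]
    ring
  have hPG : IsPGroup p ↥(sub P α hfix) := by
    obtain ⟨i, hi⟩ := IsPGroup.iff_card.1 P.2
    refine IsPGroup.of_card (n := i + j) ?_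
    rw [card_sub, hca, hi, pow_add]
  obtain ⟨S, hS⟩ : ∃ S : Sylow p (Ext α), (S : Subgroup (Ext α)) = sub P α hfix :=
    ⟨hPG.toSylow (by rw [hind]; exact P.not_dvd_index), rfl⟩
  have hSm : ∀ γ : Ext α, γ ∈ (S : Subgroup (Ext α)) ↔ γ.left ∈ (P : Subgroup G) := by
    intro γ
    rw [hS]
    exact Iff.rfl
  let _ : CommGroup ↥(zpowers α) := { (inferInstance : Group ↥(zpowers α)) with
    mul_comm := fun a b => by
      obtain ⟨a, m, rfl⟩ := a
      obtain ⟨b, n, rfl⟩ := b
      exact Subtype.ext (zpow_mul_comm α m n) }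
  -- `α` is central in `S`
  obtain ⟨a, ha⟩ : ∃ a : Ext α, a = SemidirectProduct.inr ⟨α, mem_zpowers α⟩ := ⟨_, rfl⟩
  have haZ : a ∈ (S : Subgroup (Ext α)) ⊓ centralizer ((S : Subgroup (Ext α)) : Set (Ext α)) := by
    refine ⟨?_, Subgroup.mem_centralizer_iff.2 fun γ hγ => ?_⟩
    · exact (hSm a).2 (by rw [ha]; exact one_mem _)
    · have hγ' := (hSm γ).1 hγ
      rw [ha]
      apply SemidirectProduct.ext
      · show γ.left * (γ.right : MulAut G) 1 = 1 * α γ.left
        rw [hfix _ hγ', map_one, mul_one, one_mul]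
      · show γ.right * _ = _ * γ.right
        exact mul_comm _ _
  obtain ⟨T, k, hk, hT1, -, hT3, -, -⟩ := exists_trace S
  obtain ⟨hTS, hTN⟩ := hT1 a haZ
  have hTr : (T a).right = (⟨α, mem_zpowers α⟩ : ↥(zpowers α)) ^ k := by
    have h1 := hT3 ↥(zpowers α) (SemidirectProduct.rightHom (φ := (zpowers α).subtype)) a haZ
    rw [ha] at h1 ⊢
    exact h1
  obtain ⟨i, hi⟩ : ∃ i, α ^ (k * i) = α := by
    have h1 : k.Coprime (p ^ j) := hk.pow_right j
    rcases Nat.eq_zero_or_pos j with h0 | h0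
    · rw [h0, pow_zero, orderOf_eq_one_iff] at hj
      exact ⟨0, by rw [hj, one_pow]⟩
    · obtain ⟨i, -, hi⟩ := Nat.exists_mul_mod_eq_one_of_coprime h1 (Nat.one_lt_pow h0.ne' hpp.one_lt)
      refine ⟨i, ?_⟩
      rw [← Nat.div_add_mod (k * i) (p ^ j), hi, pow_add, pow_mul, ← hj, pow_orderOf_eq_one, one_pow, one_mul, pow_one]
  obtain ⟨c, hc⟩ : ∃ c, c = T a ^ i := ⟨_, rfl⟩
  have hcS : c ∈ (S : Subgroup (Ext α)) := hc ▸ pow_mem hTS i
  have hcN : ∀ n ∈ normalizer (thompsonSubgroupAOf (S : Subgroup (Ext α)) : Set (Ext α)), n * c = c * n := by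
    intro n hn
    rw [hc]
    exact ((show Commute n (T a) from hTN n hn).pow_right i).eq
  have hcr : ((c.right : ↥(zpowers α)) : MulAut G) = α := by
    have h1 : c.right = (T a).right ^ i := by
      rw [hc]
      exact map_pow (SemidirectProduct.rightHom (φ := (zpowers α).subtype)) (T a) i
    rw [h1, hTr, ← pow_mul]
    exact hi
  -- `O_{p'}(Ext) = 1`
  have hcore' : pPrimeCore p (Ext α) = ⊥ := by
    have h1 := Lib.Cores.pPrimeCore_coprime (G := Ext α) p
    have h2 := Lib.Cores.pPrimeCore_normal (G := Ext α) p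
    have h3 : ∀ γ ∈ pPrimeCore p (Ext α), γ.right = 1 := by
      intro γ hγ
      have h4 : orderOf (SemidirectProduct.rightHom γ) ∣ orderOf γ := orderOf_map_dvd _ _
      have h5 : orderOf γ ∣ Nat.card ↥(pPrimeCore p (Ext α)) := by
        have := orderOf_dvd_natCard (⟨γ, hγ⟩ : ↥(pPrimeCore p (Ext α)))
        rwa [Subgroup.orderOf_mk] at this
      have h6 : orderOf (SemidirectProduct.rightHom γ) ∣ p ^ j := by
        rw [← hca]
        exact orderOf_dvd_natCard _
      have h7 : (p ^ j).Coprime (Nat.card ↥(pPrimeCore p (Ext α))) := h1.symm.pow_left j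
      exact orderOf_eq_one_iff.1 (Nat.Coprime.eq_one_of_dvd (h7.coprime_dvd_left h6) (h4.trans h5))
    have h4 : (pPrimeCore p (Ext α)).comap (SemidirectProduct.inl (φ := (zpowers α).subtype)) ≤ pPrimeCore p G := by
      refine Lib.Cores.le_pPrimeCore (h2.comap _) ?_
      refine Nat.Coprime.coprime_dvd_left ?_ h1
      exact Subgroup.card_comap_dvd_of_injective _ _ SemidirectProduct.inl_injective
    rw [hcore, le_bot_iff] at h4
    rw [eq_bot_iff]
    intro γ hγ
    have h5 : γ = SemidirectProduct.inl γ.left := by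
      apply SemidirectProduct.ext
      · rfl
      · exact h3 γ hγ
    have h6 : γ.left ∈ (pPrimeCore p (Ext α)).comap (SemidirectProduct.inl (φ := (zpowers α).subtype)) := by
      rw [Subgroup.mem_comap, ← h5]
      exact hγ
    rw [h4, Subgroup.mem_bot] at h6
    rw [Subgroup.mem_bot, h5, h6, map_one]
  have hz := inZStar hZS hp S hcS hcN
  refine ⟨c.left⁻¹, fun x => ?_⟩
  have h1 := hz (SemidirectProduct.inl x)
  rw [hcore', Subgroup.mem_bot, mul_inv_eq_one, mul_inv_eq_iff_eq_mul] at h1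
  have h2 : x * c.left = c.left * α x := by
    have h3 := congrArg SemidirectProduct.left h1
    rw [SemidirectProduct.mul_left, SemidirectProduct.mul_left, SemidirectProduct.left_inl,
      SemidirectProduct.right_inl, map_one, MulAut.one_apply] at h3
    rw [h3]
    show c.left * ((c.right : ↥(zpowers α)) : MulAut G) x = _
    rw [hcr]
  rw [inv_inv, mul_assoc, h2, inv_mul_cancel_left]

end Inner

/-! ### quasisimple groups -/

/-- an element commuting with a perfect group up to central elements is central -/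
theorem mem_center_of_perfect {Q : Type*} [Group Q] (hQ : Group.IsPerfect Q) {c : Q}
    (h : ∀ g : Q, g * c * g⁻¹ * c⁻¹ ∈ center Q) : c ∈ center Q := by
  let f : Q →* ↥(center Q) :=
    { toFun := fun g => ⟨g * c * g⁻¹ * c⁻¹, h g⟩
      map_one' := Subtype.ext (by show 1 * c * 1⁻¹ * c⁻¹ = 1; group)
      map_mul' := fun a b => Subtype.ext (by
        show a * b * c * (a * b)⁻¹ * c⁻¹ = (a * c * a⁻¹ * c⁻¹) * (b * c * b⁻¹ * c⁻¹)
        have h1 := Subgroup.mem_center_iff.1 (h b)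
        calc a * b * c * (a * b)⁻¹ * c⁻¹ = a * (b * c * b⁻¹ * c⁻¹) * (c * a⁻¹ * c⁻¹) := by group
          _ = (b * c * b⁻¹ * c⁻¹) * a * (c * a⁻¹ * c⁻¹) := by rw [h1]
          _ = (b * c * b⁻¹ * c⁻¹) * (a * c * a⁻¹ * c⁻¹) := by group
          _ = (a * c * a⁻¹ * c⁻¹) * (b * c * b⁻¹ * c⁻¹) := (h1 _).symm) }
  have h1 : commutator Q ≤ f.ker := by
    rw [commutator_def, Subgroup.commutator_le]
    intro a _ b _
    rw [MonoidHom.mem_ker, map_commutatorElement, commutatorElement_eq_one_iff_mul_comm]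
    exact Subtype.ext (Subgroup.mem_center_iff.1 (f b).2 (f a : Q))
  rw [hQ.commutator_eq_top, top_le_iff] at h1
  refine Subgroup.mem_center_iff.2 fun g => ?_
  have h2 : g ∈ f.ker := by rw [h1]; exact Subgroup.mem_top g
  rw [MonoidHom.mem_ker] at h2
  have h3 : g * c * g⁻¹ * c⁻¹ = 1 := congrArg Subtype.val h2
  rwa [mul_inv_eq_one, mul_inv_eq_iff_eq_mul] at h3

/-- **The centre of a Sylow `p`-subgroup of a quasisimple group.** -/
theorem quasi {p : ℕ} [Fact p.Prime] (hZS : ZStarP.{u} p) (hp : p ≠ 2) {Q : Type u} [Group Q] [Finite Q]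
    (hQ : IsQuasisimple Q) (P : Sylow p Q) (x : Q) (hxP : x ∈ (P : Subgroup Q))
    (hxZ : ∀ y ∈ (P : Subgroup Q), x * y = y * x) :
    ∃ y : Q, y * x⁻¹ ∈ center Q ∧ (∃ k : ℕ, orderOf y = p ^ k) ∧
      ∀ σ : MulAut Q, σ x * x⁻¹ ∈ center Q → σ y = y := by
  have hpp : p.Prime := Fact.out
  have hpow : ∀ y ∈ (P : Subgroup Q), ∃ e : ℕ, orderOf y = p ^ e := by
    intro y hy
    obtain ⟨e, he⟩ := (IsPGroup.iff_orderOf.1 P.2) ⟨y, hy⟩
    exact ⟨e, by rw [← he, Subgroup.orderOf_mk]⟩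
  -- elements of `P` commuting with `N(J(P))` are central
  have hcen : ∀ c ∈ (P : Subgroup Q), (∀ n ∈ normalizer (thompsonSubgroupAOf (P : Subgroup Q) : Set Q), n * c = c * n) →
      c ∈ center Q := by
    intro c hc hcN
    have h1 := inZStar hZS hp P hc hcN
    rcases Lib.ComponentSolvable.quasisimple_normal_cases hQ (Lib.Cores.pPrimeCore_normal (G := Q) p) with h | h
    · have h2 : c = 1 := TraceSplit.eq_one_of_mem P hc (by rw [h]; exact Subgroup.mem_top c)
      rw [h2]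
      exact one_mem _
    · exact mem_center_of_perfect hQ.1 fun g => h (h1 g)
  obtain ⟨T, k, hk, hT1, hT2, -, hT4, hT5⟩ := exists_trace P
  obtain ⟨Z, hZ⟩ : ∃ Z, Z = (P : Subgroup Q) ⊓ centralizer ((P : Subgroup Q) : Set Q) := ⟨_, rfl⟩
  rw [← hZ] at hT1 hT2 hT4 hT5
  have hmemZ : ∀ y, y ∈ Z ↔ y ∈ (P : Subgroup Q) ∧ ∀ w ∈ (P : Subgroup Q), w * y = y * w := by
    intro y
    rw [hZ, Subgroup.mem_inf, Subgroup.mem_centralizer_iff]
    rfl
  have hxZ' : x ∈ Z := (hmemZ x).2 ⟨hxP, fun w hw => (hxZ w hw).symm⟩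
  have hcZ : ∀ c ∈ (P : Subgroup Q), c ∈ center Q → c ∈ Z := fun c hc hcc =>
    (hmemZ c).2 ⟨hc, fun w _ => Subgroup.mem_center_iff.1 hcc w⟩
  have hTc : ∀ c ∈ (P : Subgroup Q), c ∈ center Q → T c = c ^ k := fun c hc hcc =>
    hT4 c (hcZ c hc hcc) fun n _ => Subgroup.mem_center_iff.1 hcc n
  -- the element
  obtain ⟨hTP, hTN⟩ := hT1 x hxZ'
  have hTxc := hcen _ hTP hTN
  obtain ⟨e, he⟩ := hpow _ hTP
  obtain ⟨i, hi⟩ : ∃ i, (T x ^ i) ^ k = T x := by
    have h1 : k.Coprime (p ^ e) := hk.pow_right e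
    rcases Nat.eq_zero_or_pos e with h0 | h0
    · rw [h0, pow_zero, orderOf_eq_one_iff] at he
      exact ⟨0, by rw [he, one_pow, one_pow]⟩
    · obtain ⟨i, -, hi⟩ := Nat.exists_mul_mod_eq_one_of_coprime h1 (Nat.one_lt_pow h0.ne' hpp.one_lt)
      refine ⟨i, ?_⟩
      rw [← pow_mul, mul_comm i k, ← Nat.div_add_mod (k * i) (p ^ e), hi, pow_add, pow_mul, ← he, pow_orderOf_eq_one,
        one_pow, one_mul, pow_one]
  obtain ⟨z, hz⟩ : ∃ z, z = T x ^ i := ⟨_, rfl⟩
  rw [← hz] at hi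
  have hzP : z ∈ (P : Subgroup Q) := hz ▸ pow_mem hTP i
  have hzc : z ∈ center Q := hz ▸ pow_mem hTxc i
  obtain ⟨y, hy⟩ : ∃ y, y = x * z⁻¹ := ⟨_, rfl⟩
  have hyZ : y ∈ Z := hy ▸ mul_mem hxZ' (inv_mem (hcZ z hzP hzc))
  have hyP : y ∈ (P : Subgroup Q) := ((hmemZ y).1 hyZ).1
  have hTy : T y = 1 := by
    rw [hy, hT2 x hxZ' _ (inv_mem (hcZ z hzP hzc)), hTc _ (inv_mem hzP) (inv_mem hzc), inv_pow, hi, mul_inv_cancel]
  have huniq : ∀ y' ∈ Z, y' * y⁻¹ ∈ center Q → T y' = 1 → y' = y := by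
    intro y' hy' hc h1
    obtain ⟨w, hw⟩ : ∃ w, w = y' * y⁻¹ := ⟨_, rfl⟩
    rw [← hw] at hc
    have hwP : w ∈ (P : Subgroup Q) := hw ▸ mul_mem ((hmemZ y').1 hy').1 (inv_mem hyP)
    have h2 : y' = w * y := by rw [hw, inv_mul_cancel_right]
    have h3 : w ^ k = 1 := by
      rw [h2, hT2 w (hcZ w hwP hc) y hyZ, hTy, mul_one, hTc w hwP hc] at h1
      exact h1
    obtain ⟨e', he'⟩ := hpow w hwP
    have h4 : orderOf w = 1 := by
      have h5 : orderOf w ∣ k := orderOf_dvd_of_pow_eq_one h3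
      rw [he'] at h5 ⊢
      exact Nat.eq_one_of_dvd_coprimes (hk.pow_right e') h5 dvd_rfl
    rw [h2, orderOf_eq_one_iff.1 h4, one_mul]
  refine ⟨y, ?_, hpow y hyP, fun σ hσ => ?_⟩
  · have h1 : y * x⁻¹ = z⁻¹ := by
      rw [hy, Subgroup.mem_center_iff.1 (inv_mem hzc) x, mul_inv_cancel_right]
    rw [h1]
    exact inv_mem hzc
  · obtain ⟨w, hw⟩ : ∃ w, w = σ x * x⁻¹ := ⟨_, rfl⟩
    rw [← hw] at hσ
    have hσx : σ x = w * x := by rw [hw, inv_mul_cancel_right]
    -- the two Sylow subgroups of `C(x)`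
    obtain ⟨C, hC⟩ : ∃ C, C = centralizer ({x} : Set Q) := ⟨_, rfl⟩
    have hmC : ∀ g, g ∈ C ↔ g * x = x * g := fun g => by rw [hC, Subgroup.mem_centralizer_singleton_iff]
    have hPC : (P : Subgroup Q) ≤ C := fun g hg => (hmC g).2 (hxZ g hg).symm
    have hσP : ((σ • P : Sylow p Q) : Subgroup Q) = (P : Subgroup Q).map σ.toMonoidHom := rfl
    have hσPC : ((σ • P : Sylow p Q) : Subgroup Q) ≤ C := by
      rw [hσP]
      rintro _ ⟨g, hg, rfl⟩
      rw [hmC]
      show σ g * x = x * σ g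
      have h1 := congrArg σ (hxZ g hg)
      rw [map_mul, map_mul, hσx, mul_assoc, ← mul_assoc (σ g), Subgroup.mem_center_iff.1 hσ (σ g), mul_assoc] at h1
      exact (mul_left_cancel h1).symm
    obtain ⟨g, hg⟩ := MulAction.exists_smul_eq ↥C (P.subtype hPC) ((σ • P).subtype hσPC)
    rw [Sylow.smul_subtype] at hg
    have hgP := Sylow.subtype_injective hg
    have hgx : (g : Q) * x = x * g := (hmC g).1 g.2
    obtain ⟨τ, hτ⟩ : ∃ τ : MulAut Q, τ = (MulAut.conj (g : Q))⁻¹ * σ := ⟨_, rfl⟩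
    have hτa : ∀ a, τ a = (g : Q)⁻¹ * σ a * g := fun a => by
      rw [hτ, MulAut.mul_apply, MulAut.conj_inv_apply]
    have hστ : ∀ a, σ a = (g : Q) * τ a * (g : Q)⁻¹ := fun a => by rw [hτa]; group
    have hτP : (P : Subgroup Q).map τ.toMonoidHom = P := by
      have h1 : τ • P = P := by
        rw [hτ, mul_smul, ← hgP]
        exact inv_smul_smul (MulAut.conj (g : Q)) P
      exact congrArg (fun R : Sylow p Q => (R : Subgroup Q)) h1
    have hmem : ∀ a, τ a ∈ (P : Subgroup Q) ↔ a ∈ (P : Subgroup Q) := by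
      intro a
      constructor
      · intro h
        rw [← hτP] at h
        obtain ⟨b, hb, e⟩ := h
        rwa [← τ.injective e]
      · intro h
        rw [← hτP]
        exact ⟨a, h, rfl⟩
    have hτZ : τ y ∈ Z := by
      refine (hmemZ _).2 ⟨(hmem y).2 hyP, fun v hv => ?_⟩
      obtain ⟨v, rfl⟩ := τ.surjective v
      rw [← map_mul, ← map_mul, ((hmemZ y).1 hyZ).2 v ((hmem v).1 hv)]
    have hτz : τ z ∈ center Q := by
      refine Subgroup.mem_center_iff.2 fun a => ?_
      obtain ⟨a, rfl⟩ := τ.surjective a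
      rw [← map_mul, ← map_mul, Subgroup.mem_center_iff.1 hzc a]
    have hτx : τ x = w * x := by
      rw [hτa, hσx, ← mul_assoc, Subgroup.mem_center_iff.1 hσ, mul_assoc w, mul_assoc w, mul_assoc, ← hgx,
        inv_mul_cancel_left]
    have hτy : τ y = y := by
      refine huniq _ hτZ ?_ ?_
      · have h1 : τ y * y⁻¹ = w * (x * ((τ z)⁻¹ * z) * x⁻¹) := by
          rw [hy, map_mul, map_inv, hτx]
          group
        rw [h1, Subgroup.mem_center_iff.1 (mul_mem (inv_mem hτz) hzc) x, mul_inv_cancel_right]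
        exact mul_mem hσ (mul_mem (inv_mem hτz) hzc)
      · rw [hT5 τ hτP y hyZ, hTy, map_one]
    have hgy : (g : Q) * y = y * g := by
      rw [hy, ← mul_assoc, hgx, mul_assoc, Subgroup.mem_center_iff.1 (inv_mem hzc) (g : Q), mul_assoc]
    rw [hστ, hτy, hgy, mul_inv_cancel_right]

end Cfsg.Agent.H28.FromZStar
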