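import Cfsg.Agent.H28.ZIso
import Cfsg.Agent.FixBN.Split
import Cfsg.Agent.S0315

/-!
# Minimal counterexamples to the `Z*_p` statement: groups with a split (B,N)-pair of characteristic `p`

* `LocCore p L` : the `p'`-cores of the `p`-local subgroups of `L` are trivial; `exists_fix` : then the automorphism `X` of
  `L ≅ G'` induced by a conjugate of `x` centralises all normalisers of the subgroups `≠ 1` of a given `p`-subgroup;
* `eq_top_of_trivial` : a split (B,N)-pair with `U ∩ U^s = 1` has rank one;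
* `eq_one_of_fix` : in rank one an automorphism which is trivial on `B` is trivial if some `t ∈ B ∩ B^s` has `C_U(t) = 1`;
* `false_of_split`.
-/

set_option autoImplicit false

namespace Cfsg.Agent.H28.DefBN

open Subgroup Cfsg Cfsg.Agent.H256.ZBasic Cfsg.Agent.H256.ZRed Cfsg.Agent.H256.ZTool Cfsg.Agent.H28.ZIso
  Cfsg.Agent.FixBN Cfsg.Agent.Schreier.BNSch

universe u v

/-- The `p'`-cores of the `p`-local subgroups are trivial. -/
def LocCore (p : ℕ) (L : Type v) [Group L] : Prop :=
  ∀ Q : Subgroup L, IsPGroup p Q → Q ≠ ⊥ → ∀ E : Subgroup L, E ≤ normalizer (Q : Set L) →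
    (∀ g ∈ normalizer (Q : Set L), ∀ e ∈ E, g * e * g⁻¹ ∈ E) → (Nat.card E).Coprime p → E = ⊥

theorem LocCore.congr {p : ℕ} {L : Type v} [Group L] {K : Type*} [Group K] (e : K ≃* L) (h : LocCore p L) :
    LocCore p K := by
  intro Q hQ hQ1 E hE hn hc
  have hmem : ∀ (A : Subgroup K) (y : L), y ∈ A.map e.toMonoidHom ↔ e.symm y ∈ A := fun A y => mem_map_equiv
  have hmemn : ∀ y : L, y ∈ normalizer ((Q.map e.toMonoidHom : Subgroup L) : Set L) ↔
      e.symm y ∈ normalizer (Q : Set K) := by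
    intro y
    rw [mem_normalizer_iff, mem_normalizer_iff]
    constructor
    · intro h1 z
      have h2 := h1 (e z)
      rw [hmem, hmem] at h2
      simpa using h2
    · intro h1 z
      rw [hmem, hmem, h1]
      simp
  have h1 := h (Q.map e.toMonoidHom) (hQ.map _) (by
      rw [Ne, map_eq_bot_iff_of_injective _ e.injective]; exact hQ1) (E.map e.toMonoidHom) (by
      intro y hy
      rw [hmem] at hy
      rw [hmemn]
      exact hE hy) (by
      intro g hg y hy
      rw [hmem] at hy ⊢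
      rw [hmemn] at hg
      have := hn _ hg _ hy
      simpa using this) (by
      rw [Nat.card_congr (E.equivMapOfInjective e.toMonoidHom e.injective).symm.toEquiv]
      exact hc)
  rwa [map_eq_bot_iff_of_injective _ e.injective] at h1

section Fix

variable {G : Type u} [Group G] [Finite G] {p : ℕ} [hp : Fact p.Prime] {x : G}

/-- A nontrivial `p`-subgroup of `G'` is not normal. -/
theorem normalizer_ne_top (h : MinCex p x) {Q : Subgroup G} (hQ : Q ≤ commutator G) (hQp : IsPGroup p Q) (hQ1 : Q ≠ ⊥) :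
    normalizer (Q : Set G) ≠ ⊤ := by
  intro ht
  have hsim := h.simple
  have hn : Q.Normal := normalizer_eq_top_iff.1 ht
  have hn2 : (Q.subgroupOf (commutator G)).Normal := hn.subgroupOf _
  rcases hn2.eq_bot_or_eq_top with h1 | h1
  · apply hQ1
    rw [subgroupOf_eq_bot, disjoint_iff, inf_eq_left.2 hQ] at h1
    exact h1
  · rw [subgroupOf_eq_top] at h1
    have h2 : Q = commutator G := le_antisymm hQ h1
    have h3 : IsPGroup p (commutator G) := h2 ▸ hQp
    have h4 : Nontrivial (commutator G) := inferInstance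
    have h5 := h3.center_nontrivial
    rcases (inferInstance : (center (commutator G)).Normal).eq_bot_or_eq_top with h6 | h6
    · rw [h6] at h5
      exact not_nontrivial _ h5
    · apply h.not_comm
      intro a ha b hb
      have h7 : (⟨b, hb⟩ : commutator G) ∈ center (commutator G) := by rw [h6]; trivial
      exact congrArg Subtype.val (mem_center_iff.1 h7 ⟨a, ha⟩)

/-- The automorphism of `L ≅ G'` induced by a conjugate of `x`. -/
theorem exists_fix (h : MinCex p x) {L : Type v} [Group L] (e : commutator G ≃* L) (hL : LocCore p L) (U : Subgroup L)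
    (hU : IsPGroup p U) : ∃ X : MulAut L, X ≠ 1 ∧ ∀ Q : Subgroup L, Q ≤ U → Q ≠ ⊥ →
      ∀ y ∈ normalizer (Q : Set L), X y = y := by
  classical
  set f : L →* G := (commutator G).subtype.comp e.symm.toMonoidHom with hf
  have hfa : ∀ y : L, f y = ((e.symm y : commutator G) : G) := fun y => rfl
  have hfi : Function.Injective f := (commutator G).subtype_injective.comp e.symm.injective
  obtain ⟨g, hg⟩ := exists_conj_centralizes (p := p) h.iso h.pord (Q := U.map f) (hU.map _)
  set x' := g * x * g⁻¹ with hx'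
  have h' : MinCex p x' := MinCex.conj h g
  obtain ⟨X, hX, hXa⟩ := exists_induced (x := x') e
  have hXf : ∀ y : L, f (X y) = x' * f y * x'⁻¹ := by
    intro y
    have h1 := hXa (e.symm y)
    rw [e.apply_symm_apply] at h1
    exact h1
  refine ⟨X, ?_, ?_⟩
  · intro h1
    have h2 := orderOf_induced h' e
    rw [← hX, h1, orderOf_one] at h2
    exact hp.out.one_lt.ne h2
  · intro Q hQU hQ1 y hy
    have hQp : IsPGroup p Q := hU.to_le hQU
    set Q' : Subgroup G := Q.map f with hQ'
    have hQ'1 : Q' ≠ ⊥ := by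
      rw [hQ', Ne, map_eq_bot_iff_of_injective _ hfi]; exact hQ1
    have hQ'G : Q' ≤ commutator G := by
      rintro _ ⟨z, -, rfl⟩
      exact (e.symm z).2
    set N := normalizer (Q' : Set G) with hN
    have hNt : N ≠ ⊤ := normalizer_ne_top h hQ'G (hQp.map _) hQ'1
    have hxN : x' ∈ N := by
      rw [hN, mem_normalizer_iff]
      have h1 : ∀ z ∈ Q', x' * z = z * x' := by
        rintro _ ⟨z, hz, rfl⟩
        exact hg _ ⟨z, hQU hz, rfl⟩
      intro z
      constructor
      · intro hz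
        rw [h1 z hz, mul_inv_cancel_right]
        exact hz
      · intro hz
        have h4 := h1 _ hz
        have h5 : x' * z * x'⁻¹ = z := by
          have h6 : x' * (x' * z * x'⁻¹) * x'⁻¹ = x' * z * x'⁻¹ := by rw [h4]; group
          exact mul_left_cancel (mul_right_cancel h6)
        rwa [h5] at hz
    have hmemf : ∀ (A : Subgroup L) (z : L), f z ∈ A.map f ↔ z ∈ A := fun A z =>
      ⟨fun ⟨w, hw, hwz⟩ => by rw [← hfi hwz]; exact hw, fun hz => ⟨z, hz, rfl⟩⟩
    have hnor : ∀ z : L, f z ∈ N ↔ z ∈ normalizer (Q : Set L) := by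
      intro z
      rw [hN, mem_normalizer_iff, mem_normalizer_iff]
      constructor
      · intro h1 w
        have h2 := h1 (f w)
        rw [← map_mul, ← map_inv, ← map_mul, hmemf, hmemf] at h2
        exact h2
      · intro h1 w
        constructor
        · rintro ⟨v, hv, rfl⟩
          rw [← map_mul, ← map_inv, ← map_mul, hmemf]
          exact (h1 v).1 hv
        · rintro ⟨v, hv, hvw⟩
          have h2 : w = f (z⁻¹ * v * z) := by
            rw [map_mul, map_mul, map_inv, hvw]
            group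
          rw [h2, hmemf]
          have h3 := (h1 (z⁻¹ * v * z)).2
          apply h3
          have h4 : z * (z⁻¹ * v * z) * z⁻¹ = v := by group
          rw [h4]
          exact hv
    set E : Subgroup L := ((pPrimeCore p N).map N.subtype).comap f with hE
    have hEf : ∀ z : L, z ∈ E ↔ f z ∈ (pPrimeCore p N).map N.subtype := fun z => Iff.rfl
    have hEN : E ≤ normalizer (Q : Set L) := by
      intro z hz
      rw [← hnor]
      obtain ⟨w, -, hw⟩ := hz
      rw [← hw]
      exact w.2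
    have hEn : ∀ g ∈ normalizer (Q : Set L), ∀ z ∈ E, g * z * g⁻¹ ∈ E := by
      intro g hg z hz
      rw [← hnor] at hg
      obtain ⟨w, hw, hwz⟩ := hz
      refine ⟨⟨f g, hg⟩ * w * ⟨f g, hg⟩⁻¹, (Lib.Cores.pPrimeCore_normal p).conj_mem w hw _, ?_⟩
      simp only [map_mul, map_inv, hwz]
      rfl
    have hEc : (Nat.card E).Coprime p := by
      have h1 : Nat.card E ∣ Nat.card ((pPrimeCore p N).map N.subtype : Subgroup G) := by
        rw [Nat.card_congr (E.equivMapOfInjective f hfi).toEquiv]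
        apply card_dvd_of_le
        rintro _ ⟨w, hw, rfl⟩
        exact hw
      rw [← Nat.card_congr ((pPrimeCore p N).equivMapOfInjective N.subtype N.subtype_injective).toEquiv] at h1
      exact Nat.Coprime.coprime_dvd_left h1 (Lib.Cores.pPrimeCore_coprime p)
    have hE1 := hL Q hQp hQ1 E hEN hEn hEc
    have h1 := h'.comm_mem hxN hNt ((hnor y).2 hy)
    have h2 : f (y * (X y)⁻¹) = f y * x' * (f y)⁻¹ * x'⁻¹ := by
      rw [map_mul, map_inv, hXf]
      group
    have h3 : y * (X y)⁻¹ ∈ E := by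
      rw [hEf, h2]
      exact h1
    rw [hE1, mem_bot] at h3
    exact (mul_inv_eq_one.1 h3).symm

end Fix

/-! ### (B,N)-pairs -/

section BN

variable {K : Type v} [Group K] {P : Cfsg.BNPair K} {p : ℕ} {U : Subgroup K}

/-- A split (B,N)-pair with `U ∩ U^s = 1` has rank one. -/
theorem eq_top_of_trivial [Finite K] (S : Split P p U) {s : K} (hs : s ∈ P.S) (hN : Node P U s ⊥) :
    P.parabolic {s} = ⊤ := by
  have hall : ∀ s' ∈ P.S, s' = s := by
    intro s' hs'
    by_contra hne
    obtain ⟨V', hV'⟩ := S.node s' hs'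
    obtain ⟨u₀, hu₀, hu₀V⟩ := hV'.ne
    have hu₀' : s'⁻¹ * u₀ * s' ∉ P.B := fun h => hu₀V (hV'.stab u₀ hu₀ h)
    -- `P_s ∩ P_{s'} = B`
    have hinf : ∀ y, y ∈ P.parabolic {s} → y ∈ P.parabolic {s'} → y ∈ P.B := by
      intro y h1 h2
      have h3 := Cfsg.Agent.S0315.result P (Set.singleton_subset_iff.2 hs) (Set.singleton_subset_iff.2 hs')
      have h4 : ({s} ∩ {s'} : Set K) = ∅ := by
        rw [Set.singleton_inter_eq_empty, Set.mem_singleton_iff]
        exact fun h => hne h.symm
      rw [h4, parabolic_empty] at h3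
      rw [← h3]
      exact ⟨h1, h2⟩
    have hstab : ∀ u ∈ U, s⁻¹ * u * s ∈ P.B → u = 1 := fun u hu h => mem_bot.1 (hN.stab u hu h)
    have hsP : s ∈ P.parabolic {s} := mem_parabolic_self P s
    have hs'P : s' ∈ P.parabolic {s'} := mem_parabolic_self P s'
    have hBP : P.B ≤ P.parabolic {s} := B_le_parabolic P _
    have hBP' : P.B ≤ P.parabolic {s'} := B_le_parabolic P _
    have hUP : ∀ u ∈ U, s⁻¹ * u * s ∈ P.parabolic {s'} → u = 1 := by
      intro u hu h
      exact hstab u hu (hinf _ (mul_mem (mul_mem (inv_mem hsP) (hBP (S.le hu))) hsP) h)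
    -- `s u s' ∈ U s s' B`
    have hmem : ∀ u ∈ U, ∃ v ∈ U, (v * s * s')⁻¹ * (s * u * s') ∈ P.B := by
      intro u hu
      rcases P.mul_mem_union s hs s' (P.subset hs') u (S.le hu) with h | h
      · rw [DoubleCoset.mem_doubleCoset] at h
        obtain ⟨a, ha, b, hb, h⟩ := h
        obtain ⟨v, hv, t, ht, rfl⟩ := S.cover' ha
        refine ⟨v, hv, ?_⟩
        rw [h]
        have h1 : t ∈ P.B ⊓ P.N := ht
        have h2 := P.conj_mem (s * s')⁻¹ (inv_mem (mul_mem (P.subset hs) (P.subset hs'))) t h1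
        have h3 : (v * s * s')⁻¹ * (v * t * (s * s') * b) = (s * s')⁻¹ * t * (s * s')⁻¹⁻¹ * b := by group
        rw [h3]
        exact mul_mem h2 hb
      · exfalso
        rw [DoubleCoset.mem_doubleCoset] at h
        obtain ⟨a, ha, b, hb, h⟩ := h
        have h1 : s = a * s' * b * s'⁻¹ * u⁻¹ := by
          rw [← h]; group
        have h2 : s ∈ P.parabolic {s'} := by
          rw [h1]
          exact mul_mem (mul_mem (mul_mem (mul_mem (hBP' ha) hs'P) (hBP' hb)) (inv_mem hs'P)) (inv_mem (hBP' (S.le hu)))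
        exact not_mem_B P hs (hinf s hsP h2)
    -- counting
    have hex : ∀ u : U, ∃ v : U, ((v : K) * s * s')⁻¹ * ((u : K) * s * u₀ * s') ∈ P.B := by
      intro u
      obtain ⟨v, hv, h⟩ := hmem u₀ hu₀
      refine ⟨⟨u * v, mul_mem u.2 hv⟩, ?_⟩
      have h1 : ((u : K) * v * s * s')⁻¹ * ((u : K) * s * u₀ * s') = (v * s * s')⁻¹ * (s * u₀ * s') := by group
      change ((u : K) * v * s * s')⁻¹ * ((u : K) * s * u₀ * s') ∈ P.B
      rw [h1]
      exact h
    choose F hF using hex
    have hFi : Function.Injective F := by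
      intro u₁ u₂ h12
      have h1 := mul_mem (inv_mem (hF u₁)) (h12 ▸ hF u₂)
      have h2 : (((F u₁ : K) * s * s')⁻¹ * ((u₁ : K) * s * u₀ * s'))⁻¹ *
          (((F u₁ : K) * s * s')⁻¹ * ((u₂ : K) * s * u₀ * s')) =
          s'⁻¹ * u₀⁻¹ * (s⁻¹ * ((u₁ : K)⁻¹ * u₂) * s) * u₀ * s' := by group
      rw [h12] at h1
      rw [← h12] at h1
      rw [h2] at h1
      have h3 : s⁻¹ * ((u₁ : K)⁻¹ * u₂) * s ∈ P.parabolic {s'} := by
        have h4 : s⁻¹ * ((u₁ : K)⁻¹ * u₂) * s =
            u₀ * s' * (s'⁻¹ * u₀⁻¹ * (s⁻¹ * ((u₁ : K)⁻¹ * u₂) * s) * u₀ * s') * s'⁻¹ * u₀⁻¹ := by group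
        rw [h4]
        exact mul_mem (mul_mem (mul_mem (mul_mem (hBP' (S.le hu₀)) hs'P) (hBP' h1)) (inv_mem hs'P))
          (inv_mem (hBP' (S.le hu₀)))
      have h4 := hUP _ (mul_mem (inv_mem u₁.2) u₂.2) h3
      exact Subtype.ext (inv_mul_eq_one.1 h4)
    have hFs : Function.Surjective F := Finite.surjective_of_injective hFi
    obtain ⟨u, hu⟩ := hFs 1
    have h1 := hF u
    rw [hu] at h1
    have h2 : s⁻¹ * (u : K) * s ∈ P.parabolic {s'} := by
      have h3 : s⁻¹ * (u : K) * s = s' * ((((1 : U) : K) * s * s')⁻¹ * ((u : K) * s * u₀ * s')) * s'⁻¹ * u₀⁻¹ := by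
        rw [OneMemClass.coe_one]; group
      rw [h3]
      exact mul_mem (mul_mem (mul_mem hs'P (hBP' h1)) (inv_mem hs'P)) (inv_mem (hBP' (S.le hu₀)))
    have h3 := hUP _ u.2 h2
    rw [h3] at h1
    apply hu₀'
    have h4 : (((1 : U) : K) * s * s')⁻¹ * ((1 : K) * s * u₀ * s') = s'⁻¹ * u₀ * s' := by
      rw [OneMemClass.coe_one]; group
    rwa [h4] at h1
  have h1 : P.S = {s} := by
    ext y
    rw [Set.mem_singleton_iff]
    exact ⟨fun h => hall y h, fun h => h ▸ hs⟩
  have h2 := sup_closure_eq_top P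
  rw [h1] at h2
  exact h2

/-- In rank one an automorphism which is trivial on `B` is trivial, if some `t ∈ B ∩ B^s` has `C_U(t) = 1`. -/
theorem eq_one_of_fix (S : Split P p U) {s : K} (hs : s ∈ P.S) (hN : Node P U s ⊥) (htop : P.parabolic {s} = ⊤)
    {t : K} (ht : t ∈ P.B) (hts : s⁻¹ * t * s ∈ P.B) (hfree : ∀ u ∈ U, t * u * t⁻¹ = u → u = 1) (X : MulAut K)
    (hX : ∀ b ∈ P.B, X b = b) : X = 1 := by
  -- `X s = u s b`
  have hXB : ∀ y, X y ∈ P.B → y ∈ P.B := by
    intro y hy
    have h1 := hX _ hy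
    rwa [← X.injective h1]
  obtain ⟨u, hu, b, hb, hub⟩ := exists_of_mem_parabolic P S.le S.cover hs (g := X s) (by rw [htop]; trivial)
    (fun h => not_mem_B P hs (hXB _ h))
  have h1 : u = 1 := by
    apply hfree u hu
    have h2 : t * (u * s * b) = u * s * b * (s⁻¹ * t * s) := by
      rw [← hub]
      conv_lhs => rw [← hX t ht]
      rw [← hX _ hts, ← map_mul, ← map_mul]
      congr 1
      group
    have h3 : s⁻¹ * (u⁻¹ * (t * u * t⁻¹)) * s ∈ P.B := by
      have h4 : s⁻¹ * (u⁻¹ * (t * u * t⁻¹)) * s = s⁻¹ * u⁻¹ * (t * (u * s * b)) * b⁻¹ * (s⁻¹ * t * s)⁻¹ := by group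
      rw [h4, h2]
      have h5 : s⁻¹ * u⁻¹ * (u * s * b * (s⁻¹ * t * s)) * b⁻¹ * (s⁻¹ * t * s)⁻¹ =
          b * (s⁻¹ * t * s) * b⁻¹ * (s⁻¹ * t * s)⁻¹ := by group
      rw [h5]
      exact mul_mem (mul_mem (mul_mem hb hts) (inv_mem hb)) (inv_mem hts)
    have h4 := mem_bot.1 (hN.stab _ (mul_mem (inv_mem hu) (S.norm t ht u hu)) h3)
    exact (inv_mul_eq_one.1 h4).symm
  rw [h1, one_mul] at hub
  -- `X` fixes all cosets of `B`
  have hcos : ∀ k : K, k⁻¹ * X k ∈ P.B := by
    intro k
    by_cases hk : k ∈ P.B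
    · rw [hX k hk, inv_mul_cancel]; exact one_mem _
    · obtain ⟨c, hc, d, hd, rfl⟩ := exists_of_mem_parabolic P S.le S.cover hs (g := k) (by rw [htop]; trivial) hk
      rw [map_mul, map_mul, hX c (S.le hc), hX d hd, hub]
      have h2 : (c * s * d)⁻¹ * (c * (s * b) * d) = d⁻¹ * b * d := by group
      rw [h2]
      exact mul_mem (mul_mem (inv_mem hd) hb) hd
  have hcore : ∀ g : K, g⁻¹ * X g ∈ P.B.normalCore := by
    intro g k
    have h2 := hcos (g * k⁻¹)
    have h3 := hcos k⁻¹
    have h4 : k * (g⁻¹ * X g) * k⁻¹ = (g * k⁻¹)⁻¹ * X (g * k⁻¹) * (k⁻¹⁻¹ * X k⁻¹)⁻¹ := by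
      rw [map_mul]; group
    rw [h4]
    exact mul_mem h2 (inv_mem h3)
  ext g
  have h2 := hcore g
  rw [S.core, mem_bot, inv_mul_eq_one] at h2
  exact h2.symm

/-- **Split (B,N)-pairs of characteristic `p`.** -/
theorem false_of_split [Finite K] [hp : Fact p.Prime] (S : Split P p U) (hS : P.S.Nonempty) (hK : LocCore p K)
    (hfree : ∀ s ∈ P.S, Node P U s ⊥ → P.parabolic {s} = ⊤ →
      ∃ t ∈ P.B, s⁻¹ * t * s ∈ P.B ∧ ∀ u ∈ U, t * u * t⁻¹ = u → u = 1)
    {G : Type u} [Group G] [Finite G] {x : G} (h : MinCex p x) (e : commutator G ≃* K) : False := by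
  obtain ⟨X, hX1, hX⟩ := exists_fix h e hK U S.isP
  obtain ⟨s₀, hs₀⟩ := hS
  have hU1 : U ≠ ⊥ := by
    obtain ⟨V, hV⟩ := S.node s₀ hs₀
    obtain ⟨u, hu, huV⟩ := hV.ne
    rintro rfl
    rw [mem_bot] at hu
    rw [hu] at huV
    exact huV (one_mem _)
  have hXB : ∀ b ∈ P.B, X b = b := by
    intro b hb
    apply hX U le_rfl hU1
    rw [S.normalizer_eq]
    exact hb
  by_cases hall : ∀ s ∈ P.S, ∃ V, Node P U s V ∧ V ≠ ⊥
  · apply hX1
    have h1 : (⊤ : Subgroup K) ≤ { carrier := {y | X y = y}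
                                   mul_mem' := fun {a b} ha hb => by
                                    rw [Set.mem_ofPred_eq] at ha hb ⊢; rw [map_mul, ha, hb]
                                   one_mem' := map_one X
                                   inv_mem' := fun {a} ha => by
                                    rw [Set.mem_ofPred_eq] at ha ⊢; rw [map_inv, ha] } := by
      rw [← sup_closure_eq_top P, sup_le_iff]
      refine ⟨fun b hb => hXB b hb, (closure_le _).2 fun s hs => ?_⟩
      obtain ⟨V, hV, hV1⟩ := hall s hs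
      refine hX V hV.le hV1 s ?_
      have hmem : ∀ g ∈ P.parabolic {s}, ∀ v ∈ V, g * v * g⁻¹ ∈ V := by
        intro g hg v hv
        have := hV.conj_mem (inv_mem hg) hv
        rwa [inv_inv] at this
      rw [mem_normalizer_iff]
      intro v
      refine ⟨fun hv => hmem s (mem_parabolic_self P s) v hv, fun hv => ?_⟩
      have h2 := hmem s⁻¹ (inv_mem (mem_parabolic_self P s)) _ hv
      have h3 : s⁻¹ * (s * v * s⁻¹) * s⁻¹⁻¹ = v := by group
      rwa [h3] at h2
    ext y
    exact h1 (mem_top y)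
  · push Not at hall
    obtain ⟨s, hs, hV⟩ := hall
    obtain ⟨V, hVn⟩ := S.node s hs
    have h1 := hV V hVn
    rw [h1] at hVn
    have htop := eq_top_of_trivial S hs hVn
    obtain ⟨t, ht, hts, hf⟩ := hfree s hs hVn htop
    exact hX1 (eq_one_of_fix S hs hVn htop ht hts hf X hXB)

end BN

end Cfsg.Agent.H28.DefBN
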