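import Cfsg.Agent.H28.DefBN
import Cfsg.Agent.FixBN.GoodSplit
import Cfsg.Agent.H247.PermQS

/-!
# Torus elements in rank one

A node `s` with `U ∩ U^s = 1` parametrised by a field `F` of odd order `> 3`, or of unitary type: there is an element
`t ∈ B ∩ B^s` with `C_U(t) = 1`. If `|F| = 3` then `K` acts on four points.
-/

set_option autoImplicit false

namespace Cfsg.Agent.H28.DefNode

open Subgroup Cfsg Cfsg.Agent.FixBN Cfsg.Agent.Schreier.BNSch Cfsg.Agent.H28.DefBN

universe v

variable {K : Type v} [Group K] {P : Cfsg.BNPair K} {p : ℕ} {U : Subgroup K} {s : K}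

theorem eq_bot_of_node (hU : U ≤ P.B) {V : Subgroup K} (h : Node P U s ⊥) (hV : Node P U s V) : V = ⊥ := by
  rw [eq_bot_iff]
  intro v hv
  exact h.stab v (hV.le hv) (hU (hV.le (hV.conj_s v hv)))

/-- The points `B`, `x(a) s B` of `K / B`. -/
def pt (P : Cfsg.BNPair K) (s : K) {A : Type*} (x : A → K) : Option A → K ⧸ P.B
  | none => QuotientGroup.mk 1
  | some a => QuotientGroup.mk (x a * s)

theorem pt_inj (hN : Node P U s ⊥) {A : Type*} {x : A → K} (hxU : ∀ a, x a ∈ U) (hxi : Function.Injective x) {a b : A}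
    (h : pt P s x (some a) = pt P s x (some b)) : a = b := by
  have h1 : (x a * s)⁻¹ * (x b * s) ∈ P.B := QuotientGroup.eq.1 h
  have h2 : (x a * s)⁻¹ * (x b * s) = s⁻¹ * ((x a)⁻¹ * x b) * s := by group
  rw [h2] at h1
  have h3 := mem_bot.1 (hN.stab _ (mul_mem (inv_mem (hxU a)) (hxU b)) h1)
  exact hxi (inv_mul_eq_one.1 h3)

/-- The criterion. -/
theorem exists_free (hN : Node P U s ⊥) {A : Type*} (o : A) {x : A → K} (hxU : ∀ a, x a ∈ U)
    (hxs : ∀ u ∈ U, ∃ a, x a = u) (hxi : Function.Injective x) (hxo : x o = 1) (τ : Option A → Option A) (t : K)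
    (ht : ∀ z, t • pt P s x z = pt P s x (τ z)) (h0 : τ none = none) (h1 : τ (some o) = some o)
    (hf : ∀ a, τ (some a) = some a → a = o) (hno : ∀ a, τ (some a) ≠ none) :
    ∃ t ∈ P.B, s⁻¹ * t * s ∈ P.B ∧ ∀ u ∈ U, t * u * t⁻¹ = u → u = 1 := by
  have htB : t ∈ P.B := by
    have h2 := ht none
    rw [h0] at h2
    change (QuotientGroup.mk (t * 1) : K ⧸ P.B) = QuotientGroup.mk 1 at h2
    rw [QuotientGroup.eq] at h2
    have h3 := inv_mem h2
    simpa using h3
  have hts : s⁻¹ * t * s ∈ P.B := by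
    have h2 := ht (some o)
    rw [h1] at h2
    change (QuotientGroup.mk (t * (x o * s)) : K ⧸ P.B) = QuotientGroup.mk (x o * s) at h2
    rw [hxo, one_mul, QuotientGroup.eq] at h2
    have h3 := inv_mem h2
    have h4 : s⁻¹ * t * s = ((t * s)⁻¹ * s)⁻¹ := by group
    rw [h4]
    exact h3
  refine ⟨t, htB, hts, ?_⟩
  intro u hu htu
  obtain ⟨a, rfl⟩ := hxs u hu
  have h2 := ht (some a)
  change (QuotientGroup.mk (t * (x a * s)) : K ⧸ P.B) = _ at h2
  have h3 : (QuotientGroup.mk (t * (x a * s)) : K ⧸ P.B) = pt P s x (some a) := by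
    change (QuotientGroup.mk (t * (x a * s)) : K ⧸ P.B) = QuotientGroup.mk (x a * s)
    have h4 : t * (x a * s) = (t * x a * t⁻¹) * s * (s⁻¹ * t * s) := by group
    rw [h4, htu, QuotientGroup.eq]
    have h5 : (x a * s * (s⁻¹ * t * s))⁻¹ * (x a * s) = (s⁻¹ * t * s)⁻¹ := by group
    rw [h5]
    exact inv_mem hts
  rw [h3] at h2
  rcases hτ : τ (some a) with _ | b
  · exact absurd hτ (hno a)
  · rw [hτ] at h2
    have h4 := pt_inj hN hxU hxi h2
    subst h4
    rw [hf a hτ, hxo]

/-! ### fields -/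

section Field

variable {F : Type*} [Field F]

theorem torus_line {a : F} (ha : a ≠ 0) (z : Option F) :
    FixBN.tr a (ni (FixBN.tr a⁻¹ (ni (FixBN.tr a (ni z))))) = z.map (fun c => a * a * c) := by
  rcases z with _ | c
  · rw [ni_none, FixBN.tr_some, zero_add, ni_some ha, FixBN.tr_some, neg_add_cancel, ni_zero, FixBN.tr_none]
    rfl
  · by_cases hc : c = 0
    · subst hc
      rw [ni_zero, FixBN.tr_none, ni_none, FixBN.tr_some, zero_add, ni_some (inv_ne_zero ha), inv_inv, FixBN.tr_some,
        neg_add_cancel]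
      simp
    · rw [ni_some hc, FixBN.tr_some]
      by_cases h1 : -c⁻¹ + a = 0
      · rw [h1, ni_zero, FixBN.tr_none, ni_none, FixBN.tr_some, zero_add]
        have h2 : a = c⁻¹ := by linear_combination h1
        rw [h2]
        simp [hc]
      · rw [ni_some h1, FixBN.tr_some]
        have h3 : a * c - 1 ≠ 0 := by
          intro h2
          apply h1
          field_simp
          linear_combination h2
        have h2 : -(-c⁻¹ + a)⁻¹ + a⁻¹ = -(a * (a * c - 1))⁻¹ := by
          have h4 : (-c⁻¹ + a) = (a * c - 1) / c := by field_simp; ring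
          rw [h4]
          field_simp
          ring
        have h5 : -(a * (a * c - 1))⁻¹ ≠ 0 := neg_ne_zero.2 (inv_ne_zero (mul_ne_zero ha h3))
        rw [h2, ni_some h5, inv_neg, inv_inv, neg_neg, FixBN.tr_some]
        change (some _ : Option F) = some _
        congr 1
        ring

theorem exists_free_field [Finite K] [Finite F] (S : Split P p U) (hs : s ∈ P.S) (hN : Node P U s ⊥)
    (N : FieldNode P U s ⊥ F) (h3 : 3 < Nat.card F) :
    ∃ t ∈ P.B, s⁻¹ * t * s ∈ P.B ∧ ∀ u ∈ U, t * u * t⁻¹ = u → u = 1 := by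
  classical
  obtain ⟨a, ha, ha2⟩ : ∃ a : F, a ≠ 0 ∧ a * a ≠ 1 := by
    by_contra hcon
    push Not at hcon
    have := Fintype.ofFinite F
    have h4 : (Finset.univ : Finset F) ⊆ {0, 1, -1} := by
      intro a _
      simp only [Finset.mem_insert, Finset.mem_singleton]
      by_cases ha : a = 0
      · exact Or.inl ha
      · right
        exact mul_self_eq_one_iff.1 (hcon a ha)
    have h5 := (Finset.card_le_card h4).trans Finset.card_le_three
    rw [Finset.card_univ, ← Nat.card_eq_fintype_card] at h5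
    omega
  have hxi : Function.Injective N.x := by
    intro b c hbc
    have h4 := N.add b (-c)
    rw [N.x_neg, hbc, mul_inv_cancel] at h4
    have h5 := N.ne _ (by rw [h4]; exact one_mem _)
    linear_combination h5
  have hxs : ∀ u ∈ U, ∃ a, N.x a = u := by
    intro u hu
    obtain ⟨a, ha⟩ := N.cover u hu
    rw [mem_bot] at ha
    exact ⟨a, inv_mul_eq_one.1 ha⟩
  have htr : ∀ (b : F) (z : Option F), N.x b • pt P s N.x z = pt P s N.x (FixBN.tr b z) := by
    rintro b (_ | c)
    · rw [FixBN.tr_none]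
      change (QuotientGroup.mk (N.x b * 1) : K ⧸ P.B) = QuotientGroup.mk 1
      rw [mul_one, QuotientGroup.eq, mul_one]
      exact inv_mem (S.le (N.mem b))
    · rw [FixBN.tr_some]
      change (QuotientGroup.mk (N.x b * (N.x c * s)) : K ⧸ P.B) = QuotientGroup.mk (N.x (c + b) * s)
      rw [add_comm, N.add, mul_assoc]
  have hni : ∀ z : Option F, s • pt P s N.x z = pt P s N.x (ni z) := by
    rintro (_ | c)
    · rw [ni_none]
      change (QuotientGroup.mk (s * 1) : K ⧸ P.B) = QuotientGroup.mk (N.x 0 * s)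
      rw [N.x_zero, one_mul, mul_one]
    · by_cases hc : c = 0
      · subst hc
        rw [ni_zero]
        change (QuotientGroup.mk (s * (N.x 0 * s)) : K ⧸ P.B) = QuotientGroup.mk 1
        rw [N.x_zero, one_mul, QuotientGroup.eq, mul_one]
        exact inv_mem (P.sq_mem s hs)
      · rw [ni_some hc]
        change (QuotientGroup.mk (s * (N.x c * s)) : K ⧸ P.B) = QuotientGroup.mk (N.x (-c⁻¹) * s)
        symm
        rw [QuotientGroup.eq, ← mul_assoc s]
        exact N.inv c hc
  refine exists_free hN (0 : F) N.mem hxs hxi N.x_zero (fun z => z.map (fun c => a * a * c))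
    (N.x a * (s * (N.x a⁻¹ * (s * (N.x a * s))))) ?_ rfl ?_ ?_ ?_
  · intro z
    rw [mul_smul, mul_smul, mul_smul, mul_smul, mul_smul, hni, htr, hni, htr, hni, htr, torus_line ha]
  · change some (a * a * 0) = some (0 : F)
    rw [mul_zero]
  · intro c hc
    have h4 : a * a * c = c := Option.some_injective _ hc
    have h5 : (a * a - 1) * c = 0 := by linear_combination h4
    rcases mul_eq_zero.1 h5 with h6 | h6
    · exact absurd (sub_eq_zero.1 h6) ha2
    · exact h6
  · intro c hc
    exact Option.some_ne_none _ hc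

/-- `|F| = 3` is impossible in a simple group. -/
theorem false_of_card_three [Finite K] [IsSimpleGroup K] (hc : ¬ ∀ a b : K, a * b = b * a) [Finite F] (S : Split P p U)
    (hs : s ∈ P.S) (htop : P.parabolic {s} = ⊤) (N : FieldNode P U s ⊥ F) (h3 : Nat.card F ≤ 3) : False := by
  classical
  have hsur : Function.Surjective (pt P s N.x) := by
    intro z
    induction z using QuotientGroup.induction_on with
    | _ g =>
    by_cases hg : g ∈ P.B
    · refine ⟨none, ?_⟩
      change (QuotientGroup.mk 1 : K ⧸ P.B) = _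
      rw [QuotientGroup.eq, inv_one, one_mul]
      exact hg
    · obtain ⟨u, hu, b, hb, rfl⟩ := exists_of_mem_parabolic P S.le S.cover hs (g := g) (by rw [htop]; trivial) hg
      obtain ⟨a, ha⟩ := N.cover u hu
      rw [mem_bot, inv_mul_eq_one] at ha
      subst ha
      refine ⟨some a, ?_⟩
      change (QuotientGroup.mk (N.x a * s) : K ⧸ P.B) = _
      rw [QuotientGroup.eq, inv_mul_cancel_left]
      exact hb
  have hcard : Nat.card (K ⧸ P.B) ≤ 4 := by
    have h1 := Nat.card_le_card_of_surjective _ hsur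
    have h2 : Nat.card (Option F) = Nat.card F + 1 := by
      have := Fintype.ofFinite F
      rw [Nat.card_eq_fintype_card, Nat.card_eq_fintype_card, Fintype.card_option]
    omega
  have hsol := H247.solvable_perm_of_card_le hcard
  have hinj : Function.Injective (MulAction.toPermHom K (K ⧸ P.B)) := by
    rw [← MonoidHom.ker_eq_bot_iff, ← Subgroup.normalCore_eq_ker]
    exact S.core
  have h1 : Group.IsSolvable K := Group.isSolvable_of_isSolvable_injective hinj
  exact hc (IsSimpleGroup.comm_iff_isSolvable.2 h1)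

end Field

/-! ### unitary type -/

section Unitary

open Cfsg.Agent.FixBN.U3Model Cfsg.Agent.FixBN.U3Core Cfsg.Agent.FixBN.UNode

variable {F : Type*} [Field F] {σ : F →+* F} [H : Inv2 σ]

theorem exists_free_unitary [Finite K] (S : Split P p U) (hs : s ∈ P.S) (hN : Node P U s ⊥) (hF : UF σ)
    (N : UNode P U s ⊥ σ) : ∃ t ∈ P.B, s⁻¹ * t * s ∈ P.B ∧ ∀ u ∈ U, t * u * t⁻¹ = u → u = 1 := by
  classical
  obtain ⟨a, ha⟩ := hF.norm (-1) (by rw [map_neg, map_one])
  obtain ⟨y, hy⟩ := exists_pt_b hF a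
  have hy1 : y ≠ 1 := by
    rintro rfl
    rw [one_b] at hy
    rw [← hy, zero_mul] at ha
    exact neg_ne_zero.2 one_ne_zero ha.symm
  have hyb : y.b ≠ 0 := b_ne_zero hy1
  have hyb' : σ y.b ≠ 0 := fun h => hyb ((map_eq_zero σ).1 h)
  have hlam : lam y * σ (lam y) = -1 := by
    unfold lam
    rw [map_div₀, map_mul, H.invol]
    rw [hy] at hyb hyb' ⊢
    field_simp
    linear_combination ha
  have hxi : Function.Injective N.x := by
    intro b c hbc
    have h4 := N.mul b c⁻¹
    rw [N.x_inv, hbc, mul_inv_cancel] at h4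
    have h5 := N.ne _ (by rw [h4]; exact one_mem _)
    exact mul_inv_eq_one.1 h5
  have hxs : ∀ u ∈ U, ∃ a, N.x a = u := by
    intro u hu
    obtain ⟨a, ha⟩ := N.cover u hu
    rw [mem_bot] at ha
    exact ⟨a, inv_mul_eq_one.1 ha⟩
  have htr : ∀ (b : Pt σ) (z : Om σ), N.x b • pt P s N.x z = pt P s N.x (U3Model.tr b z) := by
    rintro b (_ | c)
    · rw [U3Model.tr_none]
      change (QuotientGroup.mk (N.x b * 1) : K ⧸ P.B) = QuotientGroup.mk 1
      rw [mul_one, QuotientGroup.eq, mul_one]
      exact inv_mem (S.le (N.mem b))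
    · rw [U3Model.tr_some]
      change (QuotientGroup.mk (N.x b * (N.x c * s)) : K ⧸ P.B) = QuotientGroup.mk (N.x (b * c) * s)
      rw [N.mul, mul_assoc]
  have hni : ∀ z : Om σ, s • pt P s N.x z = pt P s N.x (jj z) := by
    rintro (_ | c)
    · rw [jj_none]
      change (QuotientGroup.mk (s * 1) : K ⧸ P.B) = QuotientGroup.mk (N.x 1 * s)
      rw [N.x_one, one_mul, mul_one]
    · by_cases hc : c = 1
      · subst hc
        rw [jj_one]
        change (QuotientGroup.mk (s * (N.x 1 * s)) : K ⧸ P.B) = QuotientGroup.mk 1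
        rw [N.x_one, one_mul, QuotientGroup.eq, mul_one]
        exact inv_mem (P.sq_mem s hs)
      · rw [jj_some hc]
        change (QuotientGroup.mk (s * (N.x c * s)) : K ⧸ P.B) = QuotientGroup.mk (N.x (J c) * s)
        symm
        rw [QuotientGroup.eq, ← mul_assoc s]
        exact N.inv c hc
  refine exists_free hN (1 : Pt σ) N.mem hxs hxi N.x_one (dd (lam y))
    (s * (N.x (J y)⁻¹ * (s * (N.x y * (s * N.x (J y⁻¹)))))) ?_ rfl ?_ ?_ ?_
  · intro z
    rw [mul_smul, mul_smul, mul_smul, mul_smul, mul_smul, htr, hni, htr, hni, htr, hni]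
    congr 1
    have h1 := mu_eq hy1 (jj z)
    rwa [jj_jj] at h1
  · change some (D (lam y) 1) = some (1 : Pt σ)
    congr 1
    apply ext'
    · rw [D_a, one_a, mul_zero]
    · rw [D_b, one_b, mul_zero]
  · intro c hc
    have h4 : D (lam y) c = c := Option.some_injective _ hc
    have h5 : (D (lam y) c).b = c.b := by rw [h4]
    rw [D_b, hlam] at h5
    by_contra hc1
    have h6 : (2 : F) * c.b = 0 := by linear_combination -h5
    exact (mul_ne_zero hF.two (b_ne_zero hc1)) h6
  · intro c hc
    exact Option.some_ne_none _ hc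

end Unitary

end Cfsg.Agent.H28.DefNode
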