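import Cfsg.Agent.H460.AARed

/-!
# Products of conjugates of `x` and `x ^ j` (S2274)

* `movedB` : `x` of order `p` moves a component, `p ∤ j`: some `x * (x ^ j) ^ g` is not a `p`-element.
-/

set_option autoImplicit false
set_option linter.unusedSectionVars false
set_option linter.unusedSimpArgs false

namespace Cfsg.Agent.H28.S5Moved

open Cfsg Subgroup Cfsg.Agent.SignalizersComponents.ComponentExists Cfsg.Agent.H459.Rad
open Cfsg.Agent.SignalizersComponents.Components Cfsg.Agent.H459.Reduce Cfsg.Agent.H460.AA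

universe u

/-- the position of `b` -/
theorem exists_pos {p : ℕ} [hp : Fact p.Prime] {j : ℤ} (hj : ¬ (p : ℤ) ∣ j) (hj1 : ¬ (p : ℤ) ∣ 1 + j) :
    ∃ β : ℕ, 1 ≤ β ∧ β + 1 < p ∧ (p : ℤ) ∣ (1 + j) * β + 1 := by
  have h0 : ((1 + j : ℤ) : ZMod p) ≠ 0 := fun h => hj1 ((ZMod.intCast_zmod_eq_zero_iff_dvd _ _).1 h)
  obtain ⟨β, hβ⟩ : ∃ β : ℕ, β = (-((1 + j : ℤ) : ZMod p)⁻¹ : ZMod p).val := ⟨_, rfl⟩
  have hβp : β < p := by rw [hβ]; exact ZMod.val_lt _
  have hdvd : (p : ℤ) ∣ (1 + j) * β + 1 := by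
    rw [← ZMod.intCast_zmod_eq_zero_iff_dvd]
    rw [Int.cast_add, Int.cast_mul, Int.cast_natCast, hβ, ZMod.natCast_val, ZMod.cast_id, Int.cast_one, mul_neg,
      mul_inv_cancel₀ h0]
    ring
  refine ⟨β, ?_, ?_, hdvd⟩
  · by_contra h
    have h1 : β = 0 := by omega
    rw [h1] at hdvd
    have h2 : (p : ℤ) ∣ 1 := by simpa using hdvd
    have h3 : p ∣ 1 := by exact_mod_cast h2
    exact hp.out.one_lt.ne' (Nat.dvd_one.1 h3)
  · by_contra h
    have h1 : (β : ℤ) = p - 1 := by omega
    rw [h1] at hdvd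
    apply hj
    have h2 : (1 + j) * ((p : ℤ) - 1) + 1 = p * (1 + j) - j := by ring
    rw [h2] at hdvd
    exact (dvd_sub_right (dvd_mul_right _ _)).1 hdvd

theorem eq_of_dvd {p : ℕ} [hp : Fact p.Prime] {j : ℤ} (hj1 : ¬ (p : ℤ) ∣ 1 + j) {m m' : ℕ} (hm : m < p) (hm' : m' < p)
    (h : (p : ℤ) ∣ (1 + j) * ((m : ℤ) - m')) : m = m' := by
  have h1 : (p : ℤ) ∣ (m : ℤ) - m' := ((Nat.prime_iff_prime_int.1 hp.out).dvd_or_dvd h).resolve_left hj1
  have h2 : ((m : ℤ) - m') = 0 := Int.eq_zero_of_abs_lt_dvd h1 (by rw [abs_lt]; omega)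
  omega

section Comp

variable {G : Type u} [Group G] [Finite G]

/-- **A component, an element moving it.** -/
theorem movedB {p : ℕ} [Fact p.Prime] (hR : solvableRadical G = ⊥) {x : G}
    (hx : x ^ p = 1) {L : Subgroup G} (hL : IsComponent L) (hm : x ∉ normalizer (L : Set G)) {j : ℤ}
    (hj : ¬ (p : ℤ) ∣ j) (h : ∀ g : G, PE p (x * (g * x ^ j * g⁻¹))) : False := by
  have hp : p.Prime := Fact.out
  have hns : ¬ Group.IsSolvable L := quasisimple_not_isSolvable hL.2
  have hcen := component_center hR hL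
  have hsimp := component_simple hR hL
  obtain ⟨u, v, huv⟩ := exists_commutator_not_pe hns p
  apply huv
  set N := normalizer (L : Set G) with hN
  set ρ : N →* MulAut L := L.normalizerMonoidHom with hρ
  have hLN : L ≤ N := le_normalizer
  have hinj : Function.Injective (MulAut.conj : L →* MulAut L) := conj_injective hcen
  have hρL : ∀ l : L, ρ ⟨l, hLN l.2⟩ = MulAut.conj l := by
    intro l
    ext y
    rfl
  have hρC : ∀ (y : G) (hy : y ∈ N), (∀ l ∈ L, y * l = l * y) → ρ ⟨y, hy⟩ = 1 := by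
    intro y hy hc
    ext l
    change y * l * y⁻¹ = l
    rw [hc l l.2]; group
  have hcN : ∀ y : G, (∀ l ∈ L, y * l = l * y) → y ∈ N := by
    intro y hy
    rw [hN, Subgroup.mem_normalizer_iff]
    intro l
    constructor
    · intro hl
      rw [hy l hl]; simpa using hl
    · intro hl
      have h1 := hy _ hl
      have h2 : y * l * y⁻¹ = l := by
        have h3 : y * (y * l * y⁻¹) = (y * l * y⁻¹) * y := h1
        have h4 : y * (y * l * y⁻¹) = y * l := by rw [h3]; group
        exact mul_left_cancel h4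
      rwa [h2] at hl
  have hxp : ∀ i : ℤ, (p : ℤ) ∣ i → x ^ i = 1 := by
    rintro _ ⟨i, rfl⟩
    rw [zpow_mul, zpow_natCast, hx, one_zpow]
  -- powers of `x` not divisible by `p` move `L`
  have hmov : ∀ i : ℤ, ¬ (p : ℤ) ∣ i → cj (x ^ i) L ≠ L := by
    intro i hi h1
    have h2 := mem_normalizer_of_cj h1
    apply hm
    have h3 : IsCoprime i (p : ℤ) := by
      rw [isCoprime_comm]
      exact (Nat.prime_iff_prime_int.1 hp).coprime_iff_not_dvd.2 hi
    obtain ⟨a, b, hab⟩ := h3
    have h4 : x = (x ^ i) ^ a := by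
      have h5 : x ^ (p : ℤ) = 1 := by rw [zpow_natCast]; exact hx
      calc x = x ^ (a * i + b * p) := by rw [hab, zpow_one]
        _ = (x ^ i) ^ a * (x ^ (p : ℤ)) ^ b := by
          rw [zpow_add, mul_comm a i, zpow_mul, mul_comm b, zpow_mul]
        _ = _ := by rw [h5, one_zpow, mul_one]
    rw [h4]
    exact zpow_mem h2 a
  -- the image of `x ^ i l x ^ -i`
  have hmemi : ∀ (i : ℤ) (l : L), x ^ i * l * (x ^ i)⁻¹ ∈ N := by
    intro i l
    by_cases hi : (p : ℤ) ∣ i
    · rw [hxp i hi]; simpa using hLN l.2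
    · exact hcN _ fun l' hl' => comm_of_cj_ne hL (hmov i hi) (conj_mem_cj l.2) hl'
  have himg : ∀ (i : ℤ) (l : L), ρ ⟨_, hmemi i l⟩ = if (p : ℤ) ∣ i then MulAut.conj l else 1 := by
    intro i l
    by_cases hi : (p : ℤ) ∣ i
    · rw [if_pos hi]
      have h6 : (⟨_, hmemi i l⟩ : N) = ⟨l, hLN l.2⟩ := by
        apply Subtype.ext
        change x ^ i * l * (x ^ i)⁻¹ = l
        rw [hxp i hi]; simp
      rw [h6, hρL]
    · rw [if_neg hi]
      exact hρC _ _ fun l' hl' => comm_of_cj_ne hL (hmov i hi) (conj_mem_cj l.2) hl'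
  have hp1 : ¬ (p : ℤ) ∣ 1 := by
    intro h1
    have h3 : p ∣ 1 := by exact_mod_cast h1
    exact hp.one_lt.ne' (Nat.dvd_one.1 h3)
  by_cases hj1 : (p : ℤ) ∣ 1 + j
  · -- `x ^ j = x⁻¹`
    exfalso
    have hxj : x ^ j = x⁻¹ := by
      have h1 : x ^ j = x ^ (1 + j) * x⁻¹ := by
        rw [zpow_add, zpow_one]
        group
      rw [h1, hxp _ hj1, one_mul]
    apply huv
    obtain ⟨c, hc⟩ : ∃ c : L, c = u * v * u⁻¹ * v⁻¹ := ⟨_, rfl⟩
    rw [← hc]
    have h1 := h (c : G)⁻¹
    rw [hxj] at h1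
    have h2 : x * ((c : G)⁻¹ * x⁻¹ * (c : G)⁻¹⁻¹) =
        (((⟨_, hmemi 1 c⁻¹⟩ : N) * ⟨c, hLN c.2⟩ : N) : G) := by
      rw [Subgroup.coe_mul]
      show x * ((c : G)⁻¹ * x⁻¹ * (c : G)⁻¹⁻¹) = x ^ (1 : ℤ) * ((c⁻¹ : L) : G) * (x ^ (1 : ℤ))⁻¹ * (c : G)
      rw [zpow_one, Subgroup.coe_inv]
      group
    rw [h2, PE.coe] at h1
    have h3 := h1.map ρ
    rw [map_mul, himg, if_neg hp1, one_mul, hρL] at h3
    exact PE.of_injective (f := MulAut.conj) hinj h3
  · obtain ⟨β, hβ1, hβ2, hβ⟩ := exists_pos hj hj1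
    obtain ⟨z, hz⟩ : ∃ z : G, z = x ^ (1 + j) := ⟨_, rfl⟩
    obtain ⟨a, ha⟩ : ∃ a : L, a = u⁻¹ := ⟨_, rfl⟩
    -- the partial products
    obtain ⟨q, hqd⟩ : ∃ q : ℤ → N, ∀ m, q m = ⟨_, hmemi ((1 + j) * m - j) a⟩ * ⟨_, hmemi ((1 + j) * m + 1) v⟩ *
      ⟨_, hmemi ((1 + j) * (m + 1)) v⁻¹⟩ * ⟨_, hmemi ((1 + j) * m) a⁻¹⟩ := ⟨_, fun _ => rfl⟩
    have hqG : ∀ m : ℤ, (q m : G) = x ^ ((1 + j) * m - j) * a * (x ^ ((1 + j) * m - j))⁻¹ *
        (x ^ ((1 + j) * m + 1) * v * (x ^ ((1 + j) * m + 1))⁻¹) *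
        (x ^ ((1 + j) * (m + 1)) * (v : G)⁻¹ * (x ^ ((1 + j) * (m + 1)))⁻¹) *
        (x ^ ((1 + j) * m) * (a : G)⁻¹ * (x ^ ((1 + j) * m))⁻¹) := by
      intro m; rw [hqd]; rfl
    have hq0 : (q 0 : G) = x ^ (-j) * a * x ^ j * (x * v * x⁻¹) * (z * (v : G)⁻¹ * z⁻¹) * (a : G)⁻¹ := by
      rw [hqG, hz]
      simp only [mul_zero, zpow_zero, zero_sub, zero_add, zpow_neg, zpow_one, mul_one, one_mul, inv_one, inv_inv]
    have hzm : ∀ m : ℤ, z ^ m = x ^ ((1 + j) * m) := fun m => by rw [hz, zpow_mul]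
    have hq : ∀ m : ℤ, (q m : G) = z ^ m * (q 0 : G) * (z ^ m)⁻¹ := by
      intro m
      rw [hqG, hq0, hzm, mul_add, zpow_add x ((1 + j) * m) ((1 + j) * 1), mul_one, ← hz, zpow_sub, zpow_add, zpow_one,
        zpow_neg]
      generalize x ^ ((1 + j) * m) = y
      generalize x ^ j = w
      group
    -- the product
    obtain ⟨t, ht⟩ : ∃ t : G, t = (q 0 : G) * z := ⟨_, rfl⟩
    have htPE : PE p t := by
      have h1 := (h (a * (z * v * z⁻¹))).conj z⁻¹
      have h2 : z⁻¹ * (x * (a * (z * v * z⁻¹) * x ^ j * (a * (z * v * z⁻¹))⁻¹)) * z⁻¹⁻¹ = t := by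
        rw [ht, hq0]
        have e1 : z = x * x ^ j := by rw [hz, zpow_add, zpow_one]
        have e2 : x ^ j * x = x * x ^ j := (Commute.self_zpow x j).eq.symm
        rw [e1, zpow_neg]
        generalize x ^ j = w at e2
        have e3 : (x * w)⁻¹ * w * (x * w) = w := by
          rw [← e2]
          have : (w * x)⁻¹ * w * (w * x) = x⁻¹ * (w * x) := by group
          rw [this, e2]
          group
        calc (x * w)⁻¹ * (x * (a * (x * w * v * (x * w)⁻¹) * w * (a * (x * w * v * (x * w)⁻¹))⁻¹)) * (x * w)⁻¹⁻¹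
            = w⁻¹ * a * (x * w) * v * ((x * w)⁻¹ * w * (x * w)) * (v : G)⁻¹ * (x * w)⁻¹ * (a : G)⁻¹ * (x * w) := by group
          _ = w⁻¹ * a * (w * x) * v * w * (v : G)⁻¹ * (x * w)⁻¹ * (a : G)⁻¹ * (x * w) := by rw [e3, e2]
          _ = _ := by group
      rw [h2] at h1
      exact h1
    obtain ⟨s, hs0, hss⟩ : ∃ s : ℕ → N, s 0 = 1 ∧ ∀ n : ℕ, s (n + 1) = s n * q n :=
      ⟨fun n => Nat.rec 1 (fun k r => r * q k) n, rfl, fun _ => rfl⟩
    have htn : ∀ n : ℕ, t ^ n = (s n : G) * z ^ (n : ℤ) := by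
      intro n
      induction n with
      | zero => simp [hs0]
      | succ n ih =>
        rw [pow_succ, ih, hss, Subgroup.coe_mul, hq n, ht]
        push_cast
        rw [zpow_add, zpow_one]
        generalize z ^ (n : ℤ) = y
        group
    -- the conditions
    have c0 : ∀ m : ℕ, m < p → ((p : ℤ) ∣ (1 + j) * m ↔ m = 0) := by
      intro m hm'
      constructor
      · intro h1
        exact eq_of_dvd hj1 hm' hp.pos (by simpa using h1)
      · rintro rfl; simp
    have c1 : ∀ m : ℕ, m < p → ((p : ℤ) ∣ (1 + j) * m + 1 ↔ m = β) := by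
      intro m hm'
      constructor
      · intro h1
        refine eq_of_dvd hj1 hm' (by omega) ?_
        have h2 := dvd_sub h1 hβ
        have e : (1 + j) * (m : ℤ) + 1 - ((1 + j) * β + 1) = (1 + j) * ((m : ℤ) - β) := by ring
        rwa [e] at h2
      · rintro rfl; exact hβ
    have c2 : ∀ m : ℕ, m < p → ((p : ℤ) ∣ (1 + j) * m - j ↔ m = β + 1) := by
      intro m hm'
      constructor
      · intro h1
        refine eq_of_dvd hj1 hm' (by omega) ?_
        have h2 := dvd_sub h1 hβ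
        have e : (1 + j) * (m : ℤ) - j - ((1 + j) * β + 1) = (1 + j) * ((m : ℤ) - (β + 1 : ℕ)) := by push_cast; ring
        rwa [e] at h2
      · rintro rfl
        have e : (1 + j) * ((β + 1 : ℕ) : ℤ) - j = (1 + j) * β + 1 := by push_cast; ring
        rw [e]
        exact hβ
    have c3 : ∀ m : ℕ, m < p → ((p : ℤ) ∣ (1 + j) * (m + 1) ↔ m = p - 1) := by
      intro m hm'
      constructor
      · intro h1
        have h2 : (p : ℤ) ∣ (m : ℤ) + 1 := ((Nat.prime_iff_prime_int.1 hp).dvd_or_dvd h1).resolve_left hj1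
        have h3 : p ∣ m + 1 := by exact_mod_cast h2
        have := Nat.le_of_dvd (by omega) h3
        omega
      · rintro rfl
        have e : (((p - 1 : ℕ) : ℤ) + 1) = p := by
          have := hp.pos
          push_cast [Nat.cast_sub (show 1 ≤ p by omega)]
          ring
        rw [e]
        exact dvd_mul_left _ _
    have hρq : ∀ m : ℤ, ρ (q m) = (if (p : ℤ) ∣ (1 + j) * m - j then MulAut.conj a else 1) *
        (if (p : ℤ) ∣ (1 + j) * m + 1 then MulAut.conj v else 1) *
        (if (p : ℤ) ∣ (1 + j) * (m + 1) then MulAut.conj v⁻¹ else 1) *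
        (if (p : ℤ) ∣ (1 + j) * m then MulAut.conj a⁻¹ else 1) := by
      intro m
      rw [hqd, map_mul, map_mul, map_mul, himg, himg, himg, himg]
    have hρs : ∀ n : ℕ, n ≤ p → ρ (s n) = (if 1 ≤ n then MulAut.conj a⁻¹ else 1) *
        (if β + 1 ≤ n then MulAut.conj v else 1) * (if β + 2 ≤ n then MulAut.conj a else 1) *
        (if p ≤ n then MulAut.conj v⁻¹ else 1) := by
      intro n
      induction n with
      | zero =>
        intro _
        have := hp.pos
        rw [hs0, map_one, if_neg (by omega), if_neg (by omega), if_neg (by omega), if_neg (by omega)]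
        simp
      | succ n ih =>
        intro hn
        rw [hss, map_mul, ih (by omega), hρq, if_neg (show ¬ p ≤ n by omega)]
        simp only [c0 n (by omega), c1 n (by omega), c2 n (by omega), c3 n (by omega)]
        generalize (MulAut.conj a⁻¹ : MulAut L) = A'
        generalize (MulAut.conj a : MulAut L) = A
        generalize (MulAut.conj v⁻¹ : MulAut L) = V'
        generalize (MulAut.conj v : MulAut L) = V
        have hp' := hp.pos
        rw [if_pos (show 1 ≤ n + 1 by omega)]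
        rcases Nat.eq_zero_or_pos n with h0 | h0
        · subst h0
          rw [if_neg (by omega), if_neg (by omega), if_neg (by omega), if_neg (by omega), if_neg (by omega),
            if_neg (by omega), if_pos rfl, if_neg (by omega), if_neg (by omega), if_neg (by omega)]
          simp only [mul_one, one_mul]
        rw [if_pos (show 1 ≤ n by omega), if_neg (show ¬ n = 0 by omega)]
        rcases lt_trichotomy n β with h1 | h1 | h1
        · rw [if_neg (by omega), if_neg (by omega), if_neg (by omega), if_neg (by omega), if_neg (by omega),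
            if_neg (by omega), if_neg (by omega), if_neg (by omega)]
          simp only [mul_one, one_mul]
        · rw [if_neg (by omega), if_neg (by omega), if_neg (by omega), if_pos h1, if_neg (by omega),
            if_pos (by omega), if_neg (by omega), if_neg (by omega)]
          simp only [mul_one, one_mul]
        · rw [if_pos (show β + 1 ≤ n by omega), if_neg (show ¬ n = β by omega), if_pos (show β + 1 ≤ n + 1 by omega),
            if_pos (show β + 2 ≤ n + 1 by omega)]
          by_cases h2 : n = β + 1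
          · rw [if_neg (by omega), if_pos h2]
            by_cases h3 : n = p - 1
            · rw [if_pos h3, if_pos (by omega)]
              simp only [mul_one, one_mul, mul_assoc]
            · rw [if_neg h3, if_neg (by omega)]
              simp only [mul_one, one_mul, mul_assoc]
          · rw [if_pos (by omega), if_neg h2]
            by_cases h3 : n = p - 1
            · rw [if_pos h3, if_pos (by omega)]
              simp only [mul_one, one_mul, mul_assoc]
            · rw [if_neg h3, if_neg (by omega)]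
              simp only [mul_one, one_mul, mul_assoc]
    have hsp := hρs p le_rfl
    rw [if_pos (by omega), if_pos (by omega), if_pos (by omega), if_pos le_rfl, ← map_mul, ← map_mul, ← map_mul] at hsp
    have htp : t ^ p = (s p : G) := by
      rw [htn, hzm, hxp _ (dvd_mul_left _ _), mul_one]
    have h6 : PE p (s p) := PE.coe.1 (htp ▸ htPE.pow p)
    have h7 := h6.map ρ
    rw [hsp] at h7
    have h8 := PE.of_injective (f := MulAut.conj) hinj h7
    rwa [ha, inv_inv] at h8

end Comp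

end Cfsg.Agent.H28.S5Moved
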