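import Cfsg.Agent.H28.T5TorRows
import Cfsg.Agent.H493.PGD4T
import Cfsg.Agent.S1067

/-!
# Homocyclic Sylow subgroups from maximal tori (S2274, rows `e = 6` of `³D₄(q)` and `²E₆(q)`)

* `omega_of_eig` : under the hypotheses of `T5Tor.comm_of_eig` a Sylow `ℓ`-subgroup has exponent dividing `ℓ ^ a` and at
  most `ℓ ^ r` elements of order dividing `ℓ`;
* `omega_twD4`, `omega_twE6` : `³D₄(q)`, `²E₆(q)`, `q` of order `6` modulo `ℓ`.
-/

set_option autoImplicit false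
set_option linter.unusedSectionVars false

namespace Cfsg.Agent.H28.S5Tor

open CoxeterSystem Cfsg Cfsg.Lie Cfsg.Lie.ChevalleyDatum
open Cfsg.Agent.ChevalleyStructure Cfsg.Agent.ChevalleyStructure.Elts Cfsg.Agent.ChevalleyStructure.CoxeterGeom
  Cfsg.Agent.ChevalleyStructure.CoxeterGeomTypes Cfsg.Agent.ChevalleyStructure.NPerm
open Cfsg.Agent.Tits.Roots Cfsg.Agent.Tits.Core Cfsg.Agent.Nodes Cfsg.Agent.Nodes.Reps Cfsg.Agent.Nodes.BNOf
  Cfsg.Agent.Nodes.RGDChev Cfsg.Agent.Nodes.Bruhat Cfsg.Agent.Nodes.SubComb Cfsg.Agent.Nodes.Coroot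
open Cfsg.Agent.KFacts.RgdField Cfsg.Agent.KFacts.RgdChevCoord Cfsg.Agent.BpExc.TorCent Cfsg.Agent.BpExc.TorChev
open Cfsg.Agent.GpExc.Field Cfsg.Agent.BpExc.Tow Cfsg.Agent.BpExc.TowChev Cfsg.Agent.BpExc.Fr
  Cfsg.Agent.BpExc.LangFr Cfsg.Agent.LangThm Cfsg.Agent.BpExc Cfsg.Agent.H129.TorusChar Cfsg.Agent.H129.TorusCent
  Cfsg.Agent.H129.TorusTw Cfsg.Agent.H129.TorusMain Cfsg.Agent.H493.PGTorus Cfsg.Agent.H493.PGTwist

universe u

section Main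

variable {D : ChevalleyDatum} {l : ℕ} {M : CoxeterMatrix (Fin l)} (hp : IsType D l M) {k : Type u} [Field k]
  [IsAlgClosed k] {W : Type*} [Group W] [Finite W] (cs : CoxeterSystem M W) {p e : ℕ} [Fact p.Prime] [CharP k p]
  {σ : MulAut ↥(D.group k)} {g : (Fin l → ℤ) ≃+ (Fin l → ℤ)}
  {G0 : Type*} [Group G0] {e0 : G0 →* ↥(D.group k)}

/-- **Torus elements from eigenfunctionals modulo `m`.** -/
theorem exists_fam' (hσ : IsFrob p e σ) (F : Fr cs hp.isCartan (TT D k) (XX D l k) σ g) {d' : ℕ}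
    {B' : Fin l → Fin l → ℤ} (hB : InvC D l d' B') (hd' : d' ≠ 0) {r : ℕ} {L : Fin r → (Fin l → ℤ) →+ ℤ} {m : ℕ}
    (hm0 : m ≠ 0) (hmp : ¬ p ∣ m) (hL : ∀ i x, (m : ℤ) ∣ L i (g x) - ((p ^ e : ℕ) : ℤ) * L i x)
    {x₀ : Fin r → Fin l → ℤ} (hx₀ : ∀ i j, L i (x₀ j) = if i = j then 1 else 0) :
    ∃ T : (Fin r → Fin m) → ↥(D.group k), Function.Injective T ∧
      (∀ j, T j ∈ TT D k ∧ σ (T j) = T j ∧ T j ^ m = 1) ∧
      ∀ j (n : ℕ), T j ^ n = 1 → ∀ i, m ∣ n * (j i : ℕ) := by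
  have hrk : (m : k) ≠ 0 := by
    rw [Ne, CharP.cast_eq_zero_iff k p]
    exact hmp
  have : NeZero (m : k) := ⟨hrk⟩
  obtain ⟨u, hu⟩ := HasEnoughRootsOfUnity.exists_primitiveRoot k m
  have hu0 : u ≠ 0 := hu.ne_zero hm0
  have hone : ∀ z : ℤ, u ^ z = 1 ↔ (m : ℤ) ∣ z := fun z => hu.zpow_eq_one_iff_dvd z
  have key : ∀ j : Fin r → Fin m, ∃ t ∈ TT D k, ∀ x, cX hp t x = u ^ (∑ i, ((j i : ℕ) : ℤ) * L i x) := by
    intro j
    have hMC : IsMC (fun x : Fin l → ℤ => u ^ (∑ i, ((j i : ℕ) : ℤ) * L i x)) :=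
      ⟨by
        have h1 : ∑ i, ((j i : ℕ) : ℤ) * L i 0 = 0 := Finset.sum_eq_zero fun i _ => by rw [map_zero, mul_zero]
        show u ^ _ = 1
        rw [h1, zpow_zero],
      fun x y => by
        have h1 : ∑ i, ((j i : ℕ) : ℤ) * L i (x + y) =
            (∑ i, ((j i : ℕ) : ℤ) * L i x) + ∑ i, ((j i : ℕ) : ℤ) * L i y := by
          rw [← Finset.sum_add_distrib]
          exact Finset.sum_congr rfl fun i _ => by rw [map_add, mul_add]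
        show u ^ _ = u ^ _ * u ^ _
        rw [h1, zpow_add₀ hu0]⟩
    obtain ⟨t, ht, hcX⟩ := exists_cX hp hB hd' hMC fun i =>
      IsAlgClosed.exists_pow_nat_eq _ (Nat.pos_of_ne_zero hd')
    exact ⟨t, ht, hcX⟩
  choose T hT hcX using key
  have h1 : ∀ (j : Fin r → Fin m) (i : Fin r), ∑ i', ((j i' : ℕ) : ℤ) * L i' (x₀ i) = ((j i : ℕ) : ℤ) := by
    intro j i
    rw [Finset.sum_eq_single i]
    · rw [hx₀, if_pos rfl, mul_one]
    · intro i' _ hne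
      rw [hx₀, if_neg hne, mul_zero]
    · intro h
      exact absurd (Finset.mem_univ i) h
  refine ⟨T, fun j j' hj => funext fun i => Fin.ext ?_, fun j => ⟨hT j, ?_, ?_⟩, fun j n hn i => ?_⟩
  · have h2 := hcX j (x₀ i)
    rw [hj, hcX j', h1, h1] at h2
    have h3 : u ^ (j' i : ℕ) = u ^ (j i : ℕ) := by exact_mod_cast h2
    exact (hu.pow_inj (j' i).2 (j i).2 h3).symm
  · have hσt : σ (T j) ∈ TT D k := (F.tor _).2 (hT j)
    refine cX_inj hp hσt (hT j) fun i => ?_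
    have h1 : sr i = g (g.symm (sr i)) := (g.apply_symm_apply _).symm
    rw [h1, cX_sigma hp cs hσ F (hT j), hcX, hcX, ← zpow_natCast, ← zpow_mul]
    have h2 : (m : ℤ) ∣ (∑ i', ((j i' : ℕ) : ℤ) * L i' (g (g.symm (sr i)))) -
        (∑ i', ((j i' : ℕ) : ℤ) * L i' (g.symm (sr i))) * ((p ^ e : ℕ) : ℤ) := by
      rw [Finset.sum_mul, ← Finset.sum_sub_distrib]
      refine Finset.dvd_sum fun i' _ => ?_
      obtain ⟨N, hN⟩ := hL i' (g.symm (sr i))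
      refine ⟨((j i' : ℕ) : ℤ) * N, ?_⟩
      calc _ = ((j i' : ℕ) : ℤ) * (L i' (g (g.symm (sr i))) - ((p ^ e : ℕ) : ℤ) * L i' (g.symm (sr i))) := by ring
        _ = _ := by rw [hN]; ring
    obtain ⟨N, hN⟩ := h2
    rw [← sub_add_cancel (∑ i', ((j i' : ℕ) : ℤ) * L i' (g (g.symm (sr i))))
      ((∑ i', ((j i' : ℕ) : ℤ) * L i' (g.symm (sr i))) * ((p ^ e : ℕ) : ℤ)), hN, zpow_add₀ hu0,
      (hone ((m : ℤ) * N)).2 (dvd_mul_right _ _), one_mul]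
  · refine cX_inj hp (pow_mem (hT j) m) (one_mem _) fun i => ?_
    rw [cX_pow hp (hT j), cX_one, hcX, ← zpow_natCast, ← zpow_mul, hone]
    exact dvd_mul_left _ _
  · have h2 : cX hp (T j ^ n) (x₀ i) = 1 := by rw [hn, cX_one]
    rw [cX_pow hp (hT j), hcX, h1, ← zpow_natCast, ← zpow_mul, hone] at h2
    have h3 : (m : ℤ) ∣ ((n * (j i : ℕ) : ℕ) : ℤ) := by
      push_cast
      rwa [mul_comm]
    exact_mod_cast h3

/-- The elements of order dividing `ℓ` in `(ℤ / ℓ ^ a) ^ r`. -/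
theorem card_fam_le {ℓ a r : ℕ} [hℓ : Fact ℓ.Prime] :
    Nat.card {j : Fin r → Fin (ℓ ^ a) // ∀ i, ℓ ^ a ∣ ℓ * (j i : ℕ)} ≤ ℓ ^ r := by
  have hl := hℓ.out.pos
  rcases Nat.eq_zero_or_pos a with rfl | ha
  · have h1 : Nat.card {j : Fin r → Fin (ℓ ^ 0) // ∀ i, ℓ ^ 0 ∣ ℓ * (j i : ℕ)} ≤ Nat.card (Fin r → Fin (ℓ ^ 0)) :=
      Nat.card_le_card_of_injective _ Subtype.val_injective
    refine h1.trans ?_
    rw [Nat.card_fun, Nat.card_eq_fintype_card, Fintype.card_fin, pow_zero, one_pow]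
    exact Nat.one_le_pow _ _ hl
  · obtain ⟨b, rfl⟩ : ∃ b, a = b + 1 := ⟨a - 1, by omega⟩
    have hdiv : ∀ j : {j : Fin r → Fin (ℓ ^ (b + 1)) // ∀ i, ℓ ^ (b + 1) ∣ ℓ * (j i : ℕ)}, ∀ i, ℓ ^ b ∣ (j.1 i : ℕ) := by
      intro j i
      have h1 : ℓ * ℓ ^ b ∣ ℓ * (j.1 i : ℕ) := (dvd_of_eq (pow_succ' ℓ b).symm).trans (j.2 i)
      exact (Nat.mul_dvd_mul_iff_left hl).1 h1
    let f : {j : Fin r → Fin (ℓ ^ (b + 1)) // ∀ i, ℓ ^ (b + 1) ∣ ℓ * (j i : ℕ)} → (Fin r → Fin ℓ) := fun j i =>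
      ⟨(j.1 i : ℕ) / ℓ ^ b, by
        rw [Nat.div_lt_iff_lt_mul (pow_pos hl b), ← pow_succ']
        exact (j.1 i).2⟩
    have hf : Function.Injective f := by
      intro j j' h
      apply Subtype.ext
      funext i
      apply Fin.ext
      have h1 : (j.1 i : ℕ) / ℓ ^ b = (j'.1 i : ℕ) / ℓ ^ b := congrArg Fin.val (congrFun h i)
      rw [← Nat.div_mul_cancel (hdiv j i), h1, Nat.div_mul_cancel (hdiv j' i)]
    refine (Nat.card_le_card_of_injective f hf).trans ?_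
    rw [Nat.card_fun, Nat.card_eq_fintype_card, Nat.card_eq_fintype_card, Fintype.card_fin, Fintype.card_fin]

/-- **Homocyclic Sylow subgroups from a torus.** -/
theorem omega_of_eig [Finite G0] (hk : LocFin k) (he : 0 < e) (hσ : IsFrob p e σ)
    (F : Fr cs hp.isCartan (TT D k) (XX D l k) σ g) {d' : ℕ} {B' : Fin l → Fin l → ℤ} (hB : InvC D l d' B')
    (hd' : d' ≠ 0) (he0 : Function.Injective e0) {d : ℕ} (hd : ∀ y, σ y = y → y ^ d ∈ e0.range)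
    {w : W} {Th : Fin l → Fin l → ℤ} (hw : ∀ j, rep cs hp.isCartan w (g (sr j)) = Th j)
    {f : ℕ} {c : Fin (f + 1) → ℤ} {r : ℕ} {V : Fin r → Fin (f + 1) → Fin l → ℤ} {U : Fin r → Fin l → ℤ}
    (h : ∀ i, EigOK (fun i j => Th j i) c (V i) (U i)) (hUV : ∀ i j, i ≠ j → ∀ s, ∑ m, U j m * V i s m = 0)
    {ℓ : ℕ} [hℓ : Fact ℓ.Prime] (hℓd : ¬ ℓ ∣ d) (hℓp : ℓ ≠ p) {a : ℕ}
    (ha : ((ℓ ^ a : ℕ) : ℤ) ∣ pv c ((p ^ e : ℕ) : ℤ)) (hcard : (Nat.card G0).factorization ℓ ≤ a * r)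
    (P : Sylow ℓ G0) : IsMulCommutative (P : Subgroup G0) ∧ (∀ x ∈ (P : Subgroup G0), x ^ ℓ ^ a = 1) ∧
      Nat.card {x : G0 // x ∈ (P : Subgroup G0) ∧ x ^ ℓ = 1} ≤ ℓ ^ r := by
  have hm0 : ℓ ^ a ≠ 0 := pow_ne_zero _ hℓ.out.ne_zero
  have hcop : (ℓ ^ a).Coprime d := ((Nat.Prime.coprime_iff_not_dvd hℓ.out).2 hℓd).pow_left a
  obtain ⟨n, z, hz, hσ', F'⟩ := exists_z hp cs hk he hσ F w
  have hmp : ¬ p ∣ ℓ ^ a := fun h1 =>
    hℓp ((Nat.prime_dvd_prime_iff_eq (Fact.out : p.Prime) hℓ.out).1 ((Fact.out : p.Prime).dvd_of_dvd_pow h1)).symm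
  obtain ⟨T, hTi, hT, hTo⟩ := exists_fam' hp cs hσ' F' hB hd' (L := fun i => lam (V i) ((p ^ e : ℕ) : ℤ)) hm0 hmp
    (fun i x => hL_of_eig hp cs hw (h i) ha x) (x₀ := U) (fun i j => by
      by_cases hij : i = j
      · subst hij
        rw [if_pos rfl]
        exact lam_unit (h i) _
      · rw [if_neg hij]
        exact lam_zero (hUV i j hij) _)
  have hcommT : ∀ x y : G0, z⁻¹ * e0 x * z ∈ TT D k → z⁻¹ * e0 y * z ∈ TT D k → x * y = y * x := by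
    intro x y hx hy
    apply he0
    have h1 := TT_comm hp _ hx _ hy
    have h2 : e0 x * e0 y = z * (z⁻¹ * e0 x * z * (z⁻¹ * e0 y * z)) * z⁻¹ := by group
    have h3 : e0 y * e0 x = z * (z⁻¹ * e0 y * z * (z⁻¹ * e0 x * z)) * z⁻¹ := by group
    rw [map_mul, map_mul, h2, h3, h1]
  let A : Subgroup G0 :=
    { carrier := {x | z⁻¹ * e0 x * z ∈ TT D k ∧ x ^ ℓ ^ a = 1}
      mul_mem' := by
        rintro x y ⟨hx, hx'⟩ ⟨hy, hy'⟩
        refine ⟨?_, ?_⟩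
        · have h1 : z⁻¹ * e0 (x * y) * z = z⁻¹ * e0 x * z * (z⁻¹ * e0 y * z) := by
            rw [map_mul]
            group
          rw [h1]
          exact mul_mem hx hy
        · have h1 : Commute x y := hcommT x y hx hy
          rw [h1.mul_pow, hx', hy', one_mul]
      one_mem' := ⟨by rw [map_one, mul_one, inv_mul_cancel]; exact one_mem _, one_pow _⟩
      inv_mem' := by
        rintro x ⟨hx, hx'⟩
        refine ⟨?_, by rw [inv_pow, hx', inv_one]⟩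
        have h1 : z⁻¹ * e0 x⁻¹ * z = (z⁻¹ * e0 x * z)⁻¹ := by
          rw [map_inv]
          group
        rw [h1]
        exact inv_mem hx }
  have hex : ∀ j : Fin r → Fin (ℓ ^ a), ∃ x : G0, e0 x = z * T j ^ d * z⁻¹ := by
    intro j
    obtain ⟨x, hx⟩ := hd _ (fix_conj hz (hT j).2.1)
    exact ⟨x, by rw [hx, conj_pow]⟩
  choose X hX using hex
  have hXA : ∀ j, X j ∈ A := by
    intro j
    refine ⟨?_, he0 ?_⟩
    · have h1 : z⁻¹ * e0 (X j) * z = T j ^ d := by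
        rw [hX]
        group
      rw [h1]
      exact pow_mem (hT j).1 d
    · rw [map_pow, hX, conj_pow, ← pow_mul, mul_comm d, pow_mul, (hT j).2.2, one_pow, mul_one, mul_inv_cancel, map_one]
  have hXi : Function.Injective (fun j => (⟨X j, hXA j⟩ : ↥A)) := by
    intro j j' hjj
    apply hTi
    have h1 : X j = X j' := congrArg Subtype.val hjj
    have h2 : T j ^ d = T j' ^ d := by
      have h3 : z * T j ^ d * z⁻¹ = z * T j' ^ d * z⁻¹ := by rw [← hX, ← hX, h1]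
      exact mul_left_cancel (mul_right_cancel h3)
    have hc : Commute (T j) (T j')⁻¹ := (show Commute (T j) (T j') from TT_comm hp _ (hT j).1 _ (hT j').1).inv_right
    have h3 : orderOf (T j * (T j')⁻¹) ∣ Nat.gcd (ℓ ^ a) d := by
      refine Nat.dvd_gcd (orderOf_dvd_of_pow_eq_one ?_) (orderOf_dvd_of_pow_eq_one ?_)
      · rw [hc.mul_pow, inv_pow, (hT j).2.2, (hT j').2.2, inv_one, one_mul]
      · rw [hc.mul_pow, inv_pow, h2, mul_inv_cancel]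
    rw [hcop, Nat.dvd_one, orderOf_eq_one_iff] at h3
    exact mul_inv_eq_one.1 h3
  have hAcomm : ∀ x ∈ A, ∀ y ∈ A, x * y = y * x := fun x hx y hy => hcommT x y hx.1 hy.1
  have hAp : ∀ x ∈ A, x ^ ℓ ^ a = 1 := fun x hx => hx.2
  have h1 := Nat.card_le_card_of_injective _ hXi
  rw [Nat.card_fun, Nat.card_eq_fintype_card, Nat.card_eq_fintype_card, Fintype.card_fin, Fintype.card_fin,
    ← pow_mul] at h1
  have hcA : ℓ ^ (Nat.card G0).factorization ℓ ≤ Nat.card A := (Nat.pow_le_pow_right hℓ.out.pos hcard).trans h1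
  refine ⟨T5Tor.sylow_comm (a := a) A hAcomm hAp hcA P, ?_⟩
  -- `A` is a Sylow subgroup
  have hAl : IsPGroup ℓ A := fun x => ⟨a, Subtype.ext (hAp x x.2)⟩
  obtain ⟨Q, hQ⟩ := hAl.exists_le_sylow
  have hAQ : A = (Q : Subgroup G0) := by
    refine Subgroup.eq_of_le_of_card_ge hQ ?_
    rw [Q.card_eq_multiplicity]
    exact hcA
  obtain ⟨y, hy⟩ := MulAction.exists_smul_eq G0 Q P
  have hPA : ∀ x ∈ (P : Subgroup G0), y⁻¹ * x * y ∈ A := by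
    intro x hx
    rw [← hy, Sylow.coe_subgroup_smul, Subgroup.mem_pointwise_smul_iff_inv_smul_mem] at hx
    rw [hAQ]
    simpa [MulAut.smul_def, MulAut.conj_inv_apply] using hx
  -- every element of `A` is one of the `X j`
  have hcAle : Nat.card A ≤ ℓ ^ (a * r) := by
    rw [hAQ, Q.card_eq_multiplicity]
    exact Nat.pow_le_pow_right hℓ.out.pos hcard
  have hbij : Function.Bijective (fun j => (⟨X j, hXA j⟩ : ↥A)) := by
    refine (Nat.bijective_iff_injective_and_card _).2 ⟨hXi, ?_⟩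
    rw [Nat.card_fun, Nat.card_eq_fintype_card, Nat.card_eq_fintype_card, Fintype.card_fin, Fintype.card_fin,
      ← pow_mul]
    exact le_antisymm h1 hcAle
  refine ⟨fun x hx => ?_, ?_⟩
  · have h2 := hAp _ (hPA x hx)
    have h3 : (y⁻¹ * x * y) ^ ℓ ^ a = y⁻¹ * x ^ ℓ ^ a * y := by
      have := conj_pow (i := ℓ ^ a) (a := y⁻¹) (b := x)
      rwa [inv_inv] at this
    rw [h3] at h2
    have h4 : x ^ ℓ ^ a = y * (y⁻¹ * x ^ ℓ ^ a * y) * y⁻¹ := by group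
    rw [h4, h2, mul_one, mul_inv_cancel]
  · have hsur : ∀ x : {x : G0 // x ∈ (P : Subgroup G0) ∧ x ^ ℓ = 1},
        ∃ j : {j : Fin r → Fin (ℓ ^ a) // ∀ i, ℓ ^ a ∣ ℓ * (j i : ℕ)}, X j.1 = y⁻¹ * x.1 * y := by
      intro x
      obtain ⟨j, hj⟩ := hbij.2 ⟨_, hPA x.1 x.2.1⟩
      have hj' : X j = y⁻¹ * x.1 * y := congrArg Subtype.val hj
      refine ⟨⟨j, fun i => ?_⟩, hj'⟩
      apply hTo
      -- `T j ^ ℓ = 1`
      have h2 : X j ^ ℓ = 1 := by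
        have h3 : (y⁻¹ * x.1 * y) ^ ℓ = y⁻¹ * x.1 ^ ℓ * y := by
          have := conj_pow (i := ℓ) (a := y⁻¹) (b := x.1)
          rwa [inv_inv] at this
        rw [hj', h3, x.2.2, mul_one, inv_mul_cancel]
      have h4 : (T j ^ ℓ) ^ d = 1 := by
        have h5 := congrArg e0 h2
        rw [map_pow, hX, conj_pow, map_one] at h5
        have h6 : (T j ^ d) ^ ℓ = z⁻¹ * (z * (T j ^ d) ^ ℓ * z⁻¹) * z := by group
        rw [← pow_mul, mul_comm, pow_mul, h6, h5, mul_one, inv_mul_cancel]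
      have h7 : orderOf (T j ^ ℓ) ∣ Nat.gcd (ℓ ^ a) d := by
        refine Nat.dvd_gcd (orderOf_dvd_of_pow_eq_one ?_) (orderOf_dvd_of_pow_eq_one h4)
        rw [← pow_mul, mul_comm, pow_mul, (hT j).2.2, one_pow]
      rw [hcop, Nat.dvd_one, orderOf_eq_one_iff] at h7
      exact h7
    choose J hJ using hsur
    have hJi : Function.Injective J := by
      intro x x' hxx
      apply Subtype.ext
      have h2 : y⁻¹ * x.1 * y = y⁻¹ * x'.1 * y := by rw [← hJ x, ← hJ x', hxx]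
      exact mul_left_cancel (mul_right_cancel h2)
    exact (Nat.card_le_card_of_injective J hJi).trans card_fam_le

end Main

/-! ### The tables -/

section Tab

open Cfsg.Agent.H129.WData Cfsg.Agent.H378.CycTab Cfsg.Agent.H28.T5TorRows

/-- the partial products -/
def LD : List (Fin 4 × Mat 4) := [
    (2, ![![0, -1, -1, 0],
      ![-1, 0, 0, 0],
      ![1, 1, 0, 0],
      ![1, 1, 1, 1]]),
    (0, ![![0, -1, 0, 0],
      ![-1, 0, 0, 0],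
      ![1, 1, 1, 0],
      ![1, 1, 0, 1]]),
    (1, ![![-1, -1, 0, 0],
      ![1, 0, 0, 0],
      ![0, 1, 1, 0],
      ![0, 1, 0, 1]]),
    (0, ![![-1, 0, 0, 0],
      ![1, 1, 0, 0],
      ![0, 0, 1, 0],
      ![0, 0, 0, 1]])]

/-- the matrix -/
def MD : Mat 4 := ![![1, 1, 0, 0],
      ![-1, 0, 0, 0],
      ![1, 1, 1, 1],
      ![0, -1, -1, 0]]

/-- the eigenfunctionals -/
def VD : Fin 2 → Fin (1 + 1) → Fin 4 → ℤ := ![![![1, -1, 1, -1], ![0, 1, 0, 0]],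
    ![![0, 0, 0, -1], ![0, 0, 1, 0]]]

/-- the dual vectors -/
def UD : Fin 2 → Fin 4 → ℤ := ![![1, 0, 0, 0],
    ![-1, 0, 0, -1]]

/-- the partial products -/
def LE : List (Fin 6 × Mat 6) := [
    (0, ![![-1, -1, -1, -1, -1, 0],
      ![0, 0, -1, -1, -1, 0],
      ![0, 0, 0, -1, 0, 0],
      ![0, 0, 0, 1, 1, 0],
      ![0, 1, 1, 1, 0, 0],
      ![1, 0, 1, 1, 1, 1]]),
    (2, ![![0, -1, -1, -1, -1, 0],
      ![-1, 0, -1, -1, -1, 0],
      ![0, 0, 0, -1, 0, 0],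
      ![0, 0, 0, 1, 1, 0],
      ![1, 1, 1, 1, 0, 0],
      ![0, 0, 1, 1, 1, 1]]),
    (3, ![![0, -1, 0, -1, -1, 0],
      ![-1, 0, -1, -1, -1, 0],
      ![0, 0, -1, -1, 0, 0],
      ![0, 0, 1, 1, 1, 0],
      ![1, 1, 1, 1, 0, 0],
      ![0, 0, 0, 1, 1, 1]]),
    (4, ![![0, -1, 0, -1, -1, 0],
      ![-1, 0, -1, -1, -1, 0],
      ![0, 0, -1, 0, 0, 0],
      ![0, 0, 1, 1, 1, 0],
      ![1, 1, 1, 1, 0, 0],
      ![0, 0, 0, 0, 1, 1]]),
    (0, ![![0, -1, 0, -1, 0, 0],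
      ![-1, 0, -1, -1, 0, 0],
      ![0, 0, -1, 0, 0, 0],
      ![0, 0, 1, 1, 0, 0],
      ![1, 1, 1, 1, 1, 0],
      ![0, 0, 0, 0, 0, 1]]),
    (2, ![![0, -1, 0, -1, 0, 0],
      ![0, 0, -1, -1, 0, 0],
      ![-1, 0, -1, 0, 0, 0],
      ![1, 0, 1, 1, 0, 0],
      ![0, 1, 1, 1, 1, 0],
      ![0, 0, 0, 0, 0, 1]]),
    (1, ![![0, -1, -1, -1, 0, 0],
      ![0, 0, 0, -1, 0, 0],
      ![-1, 0, 0, 0, 0, 0],
      ![1, 0, 1, 1, 0, 0],
      ![0, 1, 0, 1, 1, 0],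
      ![0, 0, 0, 0, 0, 1]]),
    (3, ![![0, 0, -1, -1, 0, 0],
      ![0, -1, 0, -1, 0, 0],
      ![-1, 0, 0, 0, 0, 0],
      ![1, 1, 1, 1, 0, 0],
      ![0, 0, 0, 1, 1, 0],
      ![0, 0, 0, 0, 0, 1]]),
    (0, ![![0, 0, -1, 0, 0, 0],
      ![0, -1, 0, 0, 0, 0],
      ![-1, 0, 0, 0, 0, 0],
      ![1, 1, 1, 1, 0, 0],
      ![0, 0, 0, 0, 1, 0],
      ![0, 0, 0, 0, 0, 1]]),
    (2, ![![-1, 0, -1, 0, 0, 0],
      ![0, -1, 0, 0, 0, 0],
      ![1, 0, 0, 0, 0, 0],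
      ![0, 1, 1, 1, 0, 0],
      ![0, 0, 0, 0, 1, 0],
      ![0, 0, 0, 0, 0, 1]]),
    (1, ![![-1, 0, 0, 0, 0, 0],
      ![0, -1, 0, 0, 0, 0],
      ![1, 0, 1, 0, 0, 0],
      ![0, 1, 0, 1, 0, 0],
      ![0, 0, 0, 0, 1, 0],
      ![0, 0, 0, 0, 0, 1]]),
    (0, ![![-1, 0, 0, 0, 0, 0],
      ![0, 1, 0, 0, 0, 0],
      ![1, 0, 1, 0, 0, 0],
      ![0, 0, 0, 1, 0, 0],
      ![0, 0, 0, 0, 1, 0],
      ![0, 0, 0, 0, 0, 1]])]

/-- the matrix -/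
def ME : Mat 6 := ![![1, 0, 1, 1, 1, 1],
      ![0, 0, -1, -1, -1, 0],
      ![0, 1, 1, 1, 0, 0],
      ![0, 0, 0, 1, 1, 0],
      ![0, 0, 0, -1, 0, 0],
      ![-1, -1, -1, -1, -1, 0]]

/-- the eigenfunctionals -/
def VE : Fin 3 → Fin (1 + 1) → Fin 6 → ℤ := ![![![0, -1, 1, 0, 0, -1], ![0, 1, 0, 0, 0, 0]],
    ![![1, -1, 0, 1, -1, -1], ![0, 0, 0, 0, 1, 0]],
    ![![0, 0, 0, 0, 0, -1], ![1, 0, 0, 0, 0, 0]]]

/-- the dual vectors -/
def UE : Fin 3 → Fin 6 → ℤ := ![![0, 0, 1, 0, 0, 0],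
    ![0, 0, 0, 1, 0, 0],
    ![0, 0, -1, -1, 0, -1]]

theorem chD : ChainOK Cfsg.Agent.H493.PGD4T.Am LD := by decide +kernel

theorem thD : ∀ j, hd LD (Cfsg.Agent.H493.PGD4T.pi j) = MD j := by decide +kernel

theorem okD : TabOK MD c6 VD UD := by decide +kernel

theorem chE : ChainOK A6 LE := by decide +kernel

theorem thE : ∀ j, hd LE (Cfsg.Agent.H493.TwE6Alg.pi j) = ME j := by decide +kernel

theorem okE : TabOK ME c6 VE UE := by decide +kernel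

end Tab

/-! ### The rows -/

section Rows

open Cfsg.Agent.H129.WData Cfsg.Agent.H378.CycTab Cfsg.Agent.H28.T5TorRows Cfsg.Agent.H172.SI
open Cfsg.Agent.H129 Cfsg.Agent.H129.TriD4

variable {K : Type} [Field K] [Fintype K] {q : ℕ} {ℓ : ℕ} [hℓ : Fact ℓ.Prime]

/-- the weights vanish -/
theorem wt_eq_zero {e : ℕ} {ds : List ℕ} (h : ∀ k ∈ ds, e ∣ k → ¬ ℓ ∣ k) : wt ℓ e ds = 0 := by
  induction ds with
  | nil => rfl
  | cons k ds ih =>
    rw [wt, ih fun k hk => h k (List.mem_cons_of_mem _ hk), add_zero]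
    split_ifs with h1
    · exact padicValNat.eq_zero_of_not_dvd (h k List.mem_cons_self h1)
    · rfl

theorem ndvd_of_five (h5 : 5 ≤ ℓ) : ¬ ℓ ∣ 6 ∧ ¬ ℓ ∣ 12 ∧ ¬ ℓ ∣ 18 ∧ ¬ ℓ ∣ 24 := by
  have h2 : ¬ ℓ ∣ 2 := fun h => by have := Nat.le_of_dvd (by norm_num) h; omega
  have h3 : ¬ ℓ ∣ 3 := fun h => by have := Nat.le_of_dvd (by norm_num) h; omega
  have hl := hℓ.out
  refine ⟨?_, ?_, ?_, ?_⟩
  · rw [show 6 = 2 * 3 by norm_num, hl.dvd_mul]; tauto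
  · rw [show 12 = 2 * 2 * 3 by norm_num, hl.dvd_mul, hl.dvd_mul]; tauto
  · rw [show 18 = 2 * 3 * 3 by norm_num, hl.dvd_mul, hl.dvd_mul]; tauto
  · rw [show 24 = 2 * 2 * 2 * 3 by norm_num, hl.dvd_mul, hl.dvd_mul, hl.dvd_mul]; tauto

/-- **`²E₆(q)`, `q` of order `6` modulo `ℓ`.** -/
theorem omega_twE6 (h5 : 5 ≤ ℓ) (hq : IsPrimePow q) (hK : Fintype.card K = q ^ 2)
    (ho : orderOf (q : ZMod ℓ) = 6) (P : Sylow ℓ ↥(twistedE6 K q)) :
    IsMulCommutative (P : Subgroup ↥(twistedE6 K q)) ∧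
      (∀ x ∈ (P : Subgroup ↥(twistedE6 K q)), x ^ ℓ ^ padicValNat ℓ (q ^ 6 - 1) = 1) ∧
      Nat.card {x : ↥(twistedE6 K q) // x ∈ (P : Subgroup ↥(twistedE6 K q)) ∧ x ^ ℓ = 1} ≤ ℓ ^ 3 := by
  have := Cfsg.Agent.H493.PGE6.finW
  have hodd : Odd ℓ := hℓ.out.odd_of_ne_two (by omega)
  obtain ⟨p, e, hpF, hpk, he, hqe, hk⟩ := Cfsg.Agent.H493.PGE6T.setup hq hK
  have hqe' : (q : ℤ) = ((p ^ e : ℕ) : ℤ) := by rw [hqe]
  have hℓq := not_dvd_of (by norm_num) ho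
  have hℓp : ℓ ≠ p := by
    rintro rfl
    exact hℓq (hqe ▸ dvd_pow_self _ he.ne')
  refine omega_of_eig RGDTwE6.hp CoxeterMatrix.E₆.toCoxeterSystem hk he Cfsg.Agent.H493.TwE6Alg.isFrob_tau
    (Cfsg.Agent.H493.TwE6Alg.fr_tau _)
    TorusChar.invC_E6 (by norm_num)
    (Cfsg.Agent.H493.TwE6Alg.embT_injective (algebraMap K (AlgebraicClosure K)) q) (d := Nat.gcd 3 (q + 1))
    (fun y hy => Cfsg.Agent.H493.TwE6Alg.tau_pow _ hqe hq hK hy) (Cfsg.Agent.H493.PGE6T.lin _ chE thE)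
    okE.1 okE.2 (fun h => ?_) hℓp (a := padicValNat ℓ (q ^ 6 - 1)) ?_ ?_ P
  · have := Nat.le_of_dvd (by norm_num) (h.trans (Nat.gcd_dvd_left _ _))
    omega
  · rw [← hqe']
    exact dvd_c6 hq.pos ho
  · have h1 := fact_le (ℓ := ℓ) hodd hℓq hq.two_le (n := Nat.card ↥(twistedE6 K q)) (N := 36)
      (ds := [2, 10, 6, 8, 18, 12]) (by decide) ?_
    · have hw : wt ℓ 6 [2, 10, 6, 8, 18, 12] = 0 := by
        refine wt_eq_zero fun k hk h6 => ?_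
        simp only [List.mem_cons, List.not_mem_nil, or_false] at hk
        obtain ⟨n1, n2, n3, -⟩ := ndvd_of_five (ℓ := ℓ) h5
        rcases hk with rfl | rfl | rfl | rfl | rfl | rfl
        · norm_num at h6
        · norm_num at h6
        · exact n1
        · norm_num at h6
        · exact n3
        · exact n2
      rw [ho, hw, add_zero] at h1
      exact h1
    · refine ⟨Nat.gcd 3 (q + 1) * ((q ^ 5 - 1) * (q ^ 9 - 1)), ?_⟩
      have h2 := Cfsg.Agent.S1066.result hq hK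
      have h5 : q ^ 10 - 1 = (q ^ 5 + 1) * (q ^ 5 - 1) := by
        rw [← Nat.sq_sub_sq, ← pow_mul]
      have h9 : q ^ 18 - 1 = (q ^ 9 + 1) * (q ^ 9 - 1) := by
        rw [← Nat.sq_sub_sq, ← pow_mul]
      have h3 : pr q [2, 10, 6, 8, 18, 12] =
          (q ^ 2 - 1) * ((q ^ 10 - 1) * ((q ^ 6 - 1) * ((q ^ 8 - 1) * ((q ^ 18 - 1) * ((q ^ 12 - 1) * 1))))) := rfl
      rw [h3, h5, h9]
      calc _ = q ^ 36 * (q ^ 2 - 1) * (q ^ 5 + 1) * (q ^ 6 - 1) * (q ^ 8 - 1) * (q ^ 9 + 1) * (q ^ 12 - 1) *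
            ((q ^ 5 - 1) * (q ^ 9 - 1)) := by ring
        _ = _ := by rw [← h2]; ring

/-- **`³D₄(q)`, `q` of order `6` modulo `ℓ`.** -/
theorem omega_twD4 (h5 : 5 ≤ ℓ) (hq : IsPrimePow q) (hK : Fintype.card K = q ^ 3)
    (ho : orderOf (q : ZMod ℓ) = 6) (P : Sylow ℓ ↥(twistedD4 K q)) :
    IsMulCommutative (P : Subgroup ↥(twistedD4 K q)) ∧
      (∀ x ∈ (P : Subgroup ↥(twistedD4 K q)), x ^ ℓ ^ padicValNat ℓ (q ^ 6 - 1) = 1) ∧
      Nat.card {x : ↥(twistedD4 K q) // x ∈ (P : Subgroup ↥(twistedD4 K q)) ∧ x ^ ℓ = 1} ≤ ℓ ^ 2 := by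
  have := Cfsg.Agent.H493.PGD4T.finW
  have hodd : Odd ℓ := hℓ.out.odd_of_ne_two (by omega)
  obtain ⟨p, e, hpF, hpk, he, hqe, hk⟩ := Cfsg.Agent.H493.PGD4T.setup hq hK
  have hqe' : (q : ℤ) = ((p ^ e : ℕ) : ℤ) := by rw [hqe]
  have hℓq := not_dvd_of (by norm_num) ho
  have hℓp : ℓ ≠ p := by
    rintro rfl
    exact hℓq (hqe ▸ dvd_pow_self _ he.ne')
  refine omega_of_eig RGDTwD4.hp coxeterD4.toCoxeterSystem hk he isFrob_tau (fr_tau _) TorusChar.invC_D4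
    (by norm_num) (embT_injective (algebraMap K (AlgebraicClosure K)) hq hK) (d := 1)
    (fun y hy => by rw [pow_one]; exact tau_range _ hqe hq hK hy) (Cfsg.Agent.H493.PGD4T.lin _ chD thD)
    okD.1 okD.2 (fun h => hℓ.out.one_lt.ne' (Nat.dvd_one.1 h)) hℓp (a := padicValNat ℓ (q ^ 6 - 1)) ?_ ?_ P
  · rw [← hqe']
    exact dvd_c6 hq.pos ho
  · have h1 := fact_le (ℓ := ℓ) hodd hℓq hq.two_le (n := Nat.card ↥(twistedD4 K q)) (N := 12)
      (ds := [2, 6, 12]) (by decide) ?_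
    · have hw : wt ℓ 6 [2, 6, 12] = 0 := by
        refine wt_eq_zero fun k hk h6 => ?_
        simp only [List.mem_cons, List.not_mem_nil, or_false] at hk
        obtain ⟨n1, n2, n3, -⟩ := ndvd_of_five (ℓ := ℓ) h5
        rcases hk with rfl | rfl | rfl
        · norm_num at h6
        · exact n1
        · exact n2
      rw [ho, hw, add_zero] at h1
      exact h1
    · refine ⟨q ^ 4 - 1, ?_⟩
      have h2 := Cfsg.Agent.S1067.result hq hK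
      have h12 : q ^ 12 - 1 = (q ^ 8 + q ^ 4 + 1) * (q ^ 4 - 1) := by
        have h1 : 1 ≤ q ^ 4 := Nat.one_le_pow _ _ hq.pos
        apply Nat.sub_eq_of_eq_add
        obtain ⟨x, hx⟩ := Nat.exists_eq_add_of_le h1
        have e8 : q ^ 8 = (q ^ 4) ^ 2 := by rw [← pow_mul]
        have e12 : q ^ 12 = (q ^ 4) ^ 3 := by rw [← pow_mul]
        rw [e8, e12, hx, Nat.add_sub_cancel_left]
        ring
      have h3 : pr q [2, 6, 12] = (q ^ 2 - 1) * ((q ^ 6 - 1) * ((q ^ 12 - 1) * 1)) := rfl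
      rw [h3, h12, h2]
      ring

end Rows

end Cfsg.Agent.H28.S5Tor
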