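import Cfsg.Agent.H28.ZIso
import Cfsg.Agent.ChevalleyStructure.SL2Hom
import Cfsg.Agent.H334.Symp.ModelSetup
import Cfsg.Agent.TwoUniq.PSLRank

/-!
# Minimal counterexamples to the `Z*_p` statement: subgroups `SL(2,F)` normalised by `x`

`Φ : SL(2,F) →* G`, `K = Φ(SL(2,F))`, `K⟨x⟩ ≠ G`:

* `scalar_one` : if `x` multiplies the coordinate of `Φ(up F)` by `c` then `c = 1`;
* `comm_of_dvd` : if `p` divides `|SL(2,F)|` then `x` centralises `Φ(up F)`.
-/

set_option autoImplicit false

namespace Cfsg.Agent.H28.SLTwoRow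

open Subgroup Cfsg Cfsg.Agent.H256.ZBasic Cfsg.Agent.H256.ZRed Cfsg.Agent.H256.ZTool Cfsg.Agent.H28.ZIso
open Cfsg.Agent.ChevalleyStructure.SL2Hom (up lo mem_closure_SL2)

universe u

abbrev SL2 (F : Type*) [Field F] : Type _ := Matrix.SpecialLinearGroup (Fin 2) F

section Mat

variable {F : Type*} [Field F]

theorem up_add (a b : F) : up a * up b = up (a + b) := by
  apply Subtype.ext
  rw [Matrix.SpecialLinearGroup.coe_mul]
  ext i j
  fin_cases i <;> fin_cases j <;> simp [up, Matrix.mul_apply, Fin.sum_univ_two, add_comm]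

theorem up_zero : up (0 : F) = 1 := by
  apply Subtype.ext
  ext i j
  fin_cases i <;> fin_cases j <;> simp [up]

theorem up_neg (a : F) : (up a)⁻¹ = up (-a) := by
  rw [inv_eq_iff_mul_eq_one, up_add, add_neg_cancel, up_zero]

/-- the Weyl element -/
def wy (F : Type*) [Field F] : SL2 F := ⟨!![0, 1; -1, 0], by simp [Matrix.det_fin_two]⟩

theorem wy_up (a : F) : wy F * up a = lo (-a) * wy F := by
  apply Subtype.ext
  rw [Matrix.SpecialLinearGroup.coe_mul, Matrix.SpecialLinearGroup.coe_mul]
  ext i j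
  fin_cases i <;> fin_cases j <;> simp [up, lo, wy, Matrix.mul_apply, Fin.sum_univ_two]

/-- diagonal elements -/
def dg {c : F} (hc : c ≠ 0) : SL2 F := ⟨!![c, 0; 0, c⁻¹], by simp [Matrix.det_fin_two, hc]⟩

theorem dg_pow {c : F} (hc : c ≠ 0) (k : ℕ) (h : c ^ k = 1) : dg hc ^ k = 1 := by
  have key : ∀ j : ℕ, ((dg hc ^ j : SL2 F) : Matrix (Fin 2) (Fin 2) F) = !![c ^ j, 0; 0, (c ^ j)⁻¹] := by
    intro j
    induction j with
    | zero => simp [Matrix.one_fin_two]
    | succ j ih =>
      rw [pow_succ, Matrix.SpecialLinearGroup.coe_mul, ih]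
      ext i j
      fin_cases i <;> fin_cases j <;> simp [dg, Matrix.mul_apply, Fin.sum_univ_two, pow_succ, mul_comm]
  apply Subtype.ext
  rw [key, h, inv_one, Matrix.SpecialLinearGroup.coe_one, Matrix.one_fin_two]

theorem dg_up {c : F} (hc : c ≠ 0) (a : F) : dg hc * up a = up (c * c * a) * dg hc := by
  apply Subtype.ext
  rw [Matrix.SpecialLinearGroup.coe_mul, Matrix.SpecialLinearGroup.coe_mul]
  ext i j
  fin_cases i <;> fin_cases j <;> simp [up, dg, Matrix.mul_apply, Fin.sum_univ_two]
  field_simp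

theorem range_le {G : Type*} [Group G] {Φ : SL2 F →* G} {H : Subgroup G} (h1 : ∀ a, Φ (up a) ∈ H)
    (h2 : ∀ a, Φ (lo a) ∈ H) : Φ.range ≤ H := by
  rintro _ ⟨g, rfl⟩
  have h3 : closure (Set.range (up (F := F)) ∪ Set.range (lo (F := F))) ≤ H.comap Φ := by
    rw [closure_le]
    rintro _ (⟨a, rfl⟩ | ⟨a, rfl⟩)
    · exact h1 a
    · exact h2 a
  exact h3 (mem_closure_SL2 g)

theorem up_mem_of_normal {G : Type*} [Group G] {Φ : SL2 F →* G} {H : Subgroup G}
    (hn : ∀ g : SL2 F, ∀ y ∈ H, Φ g * y * (Φ g)⁻¹ ∈ H) (h1 : ∀ a, Φ (up a) ∈ H) : Φ.range ≤ H := by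
  refine range_le h1 fun a => ?_
  have h2 := hn (wy F) _ (h1 (-a))
  rw [← map_mul, wy_up, neg_neg, map_mul, mul_inv_cancel_right] at h2
  exact h2

end Mat

variable {G : Type u} [Group G] [Finite G] {p : ℕ} [hp : Fact p.Prime] {x : G} {F : Type*} [Field F]

/-- If `x` multiplies the coordinate of `Φ(up F)` by `c` then `c = 1`. -/
theorem scalar_one (hp2 : p ≠ 2) (h : MinCex p x) {Φ : SL2 F →* G} (hΦ : Function.Injective fun a => Φ (up a)) {c : F}
    (hx : ∀ a, x * Φ (up a) * x⁻¹ = Φ (up (c * a))) (hne : Φ.range ⊔ zpowers x ≠ ⊤) : c = 1 := by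
  by_contra hc1
  have hcp : c ^ p = 1 := by
    have key : ∀ k : ℕ, ∀ a, x ^ k * Φ (up a) * (x ^ k)⁻¹ = Φ (up (c ^ k * a)) := by
      intro k
      induction k with
      | zero => intro a; simp
      | succ k ih =>
        intro a
        have h1 : x ^ (k + 1) * Φ (up a) * (x ^ (k + 1))⁻¹ = x ^ k * (x * Φ (up a) * x⁻¹) * (x ^ k)⁻¹ := by
          rw [pow_succ]; group
        rw [h1, hx, ih, pow_succ]
        congr 2
        ring
    have h1 := key p 1
    rw [← h.ord, pow_orderOf_eq_one, one_mul, inv_one, mul_one, mul_one] at h1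
    have h2 := hΦ h1
    rw [h.ord] at h2
    exact h2.symm
  have hc0 : c ≠ 0 := by
    rintro rfl
    rw [zero_pow hp.out.ne_zero] at hcp
    exact zero_ne_one hcp
  obtain ⟨H, hH⟩ : ∃ H, H = Φ.range ⊔ zpowers x := ⟨_, rfl⟩
  rw [← hH] at hne
  have hxH : x ∈ H := by rw [hH]; exact mem_sup_right (mem_zpowers x)
  have hΦH : ∀ g, Φ g ∈ H := fun g => by rw [hH]; exact mem_sup_left ⟨g, rfl⟩
  obtain ⟨E, hE⟩ : ∃ E, E = (pPrimeCore p H).map H.subtype := ⟨_, rfl⟩
  have hEn : ∀ g : SL2 F, ∀ y ∈ E, Φ g * y * (Φ g)⁻¹ ∈ E := by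
    intro g y hy
    rw [hE] at hy ⊢
    obtain ⟨w, hw, rfl⟩ := hy
    exact ⟨⟨Φ g, hΦH g⟩ * w * ⟨Φ g, hΦH g⟩⁻¹, (Lib.Cores.pPrimeCore_normal p).conj_mem w hw _, rfl⟩
  have hEc : (Nat.card E).Coprime p := by
    rw [hE, ← Nat.card_congr ((pPrimeCore p H).equivMapOfInjective H.subtype H.subtype_injective).toEquiv]
    exact Lib.Cores.pPrimeCore_coprime p
  have h1 : ∀ a, Φ (up a) ∈ E := by
    intro a
    have h2 := h.comm_mem hxH hne (hΦH (up (a / (1 - c))))
    have h3 : Φ (up (a / (1 - c))) * x * (Φ (up (a / (1 - c))))⁻¹ * x⁻¹ = Φ (up a) := by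
      calc Φ (up (a / (1 - c))) * x * (Φ (up (a / (1 - c))))⁻¹ * x⁻¹
          = Φ (up (a / (1 - c))) * (x * (Φ (up (a / (1 - c))))⁻¹ * x⁻¹) := by group
        _ = Φ (up a) := by
          rw [← map_inv, up_neg, hx, ← map_mul, up_add]
          congr 2
          have h4 : (1 - c) ≠ 0 := sub_ne_zero.2 (Ne.symm hc1)
          field_simp
          ring
    rw [h3] at h2
    rw [hE]
    exact h2
  have h2 : Φ.range ≤ E := up_mem_of_normal hEn h1
  have h3 : orderOf (Φ (dg hc0)) = p := by
    apply orderOf_eq_prime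
    · rw [← map_pow, dg_pow hc0 p hcp, map_one]
    · intro h4
      have h5 : Φ (up 1) = Φ (up (c * c)) := by
        have h6 := congrArg Φ (dg_up hc0 1)
        rw [map_mul, map_mul, h4, one_mul, mul_one, mul_one] at h6
        exact h6
      have h6 : c * c = 1 := (hΦ h5).symm
      apply hc1
      obtain ⟨k, hk⟩ := hp.out.odd_of_ne_two hp2
      rw [hk, pow_succ, pow_mul, pow_two, h6, one_pow, one_mul] at hcp
      exact hcp
  have h4 : orderOf (⟨Φ (dg hc0), h2 ⟨_, rfl⟩⟩ : E) = p := by
    rw [← h3]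
    exact (orderOf_injective E.subtype E.subtype_injective ⟨Φ (dg hc0), h2 ⟨_, rfl⟩⟩).symm
  have h5 : p ∣ Nat.card E := by rw [← h4]; exact orderOf_dvd_natCard _
  exact (Nat.Prime.coprime_iff_not_dvd hp.out).1 hEc.symm h5

/-- If `p` divides `|SL(2,F)|`, `|F| ≥ 4`, then `x` centralises `Φ(SL(2,F))`. -/
theorem comm_of_dvd [Finite F] (hp2 : p ≠ 2) (h : MinCex p x) {Φ : SL2 F →* G} (hΦ : Function.Injective fun a => Φ (up a))
    (hF : 3 < Nat.card F) (hd : p ∣ Nat.card (SL2 F)) (hx : ∀ k ∈ Φ.range, x * k * x⁻¹ ∈ Φ.range)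
    (hne : Φ.range ⊔ zpowers x ≠ ⊤) : ∀ k ∈ Φ.range, k * x = x * k := by
  have := Fintype.ofFinite F
  rw [Nat.card_eq_fintype_card] at hF
  refine centralizes_perfect h hx hne ?_ ?_
  · have h1 : commutator (SL2 F) = ⊤ := TwoFusion.SLTwoFacts.commutator_eq_top hF
    rw [_root_.commutator_def] at h1
    rw [MonoidHom.range_eq_map, ← map_commutator, h1]
  · intro E hE hn hc
    have hN : (E.comap Φ).Normal := ⟨fun n hn' g => by
      rw [mem_comap] at hn' ⊢
      rw [map_mul, map_mul, map_inv]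
      exact hn _ ⟨g, rfl⟩ _ hn'⟩
    rcases H334.Symp.El.sl_normal hF _ hN with h1 | h1
    · exfalso
      have h2 : Φ.range ≤ E := by
        rintro _ ⟨g, rfl⟩
        have : g ∈ E.comap Φ := by rw [h1]; trivial
        exact this
      obtain ⟨y, hy⟩ := exists_prime_orderOf_dvd_card' p hd
      have h3 : orderOf (Φ y) = p := by
        apply orderOf_eq_prime
        · rw [← map_pow, ← hy, pow_orderOf_eq_one, map_one]
        · intro h4
          have h5 : y ∈ Φ.ker := h4
          rcases H334.Symp.El.sl_normal hF _ (inferInstance : Φ.ker.Normal) with h6 | h6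
          · have h7 : (up 1 : SL2 F) ∈ Φ.ker := by rw [h6]; trivial
            have h8 : Φ (up 1) = Φ (up 0) := by rw [up_zero, map_one]; exact h7
            exact one_ne_zero (hΦ h8)
          · have h7 := h6 h5
            have h8 : y * y = 1 := by
              rcases TwoUniq.PSLRank.center_cases h7 with rfl | rfl
              · rw [mul_one]
              · rw [neg_mul_neg, mul_one]
            have h9 : orderOf y ∣ 2 := orderOf_dvd_of_pow_eq_one (by rw [pow_two, h8])
            rw [hy] at h9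
            exact hp2 ((Nat.prime_dvd_prime_iff_eq hp.out Nat.prime_two).1 h9)
      have h4 : orderOf (⟨Φ y, h2 ⟨_, rfl⟩⟩ : E) = p := by
        rw [← h3]
        exact (orderOf_injective E.subtype E.subtype_injective ⟨Φ y, h2 ⟨_, rfl⟩⟩).symm
      have h5 : p ∣ Nat.card E := by rw [← h4]; exact orderOf_dvd_natCard _
      exact (Nat.Prime.coprime_iff_not_dvd hp.out).1 hc.symm h5
    · rintro _ ⟨k, rfl⟩ e he
      obtain ⟨w, rfl⟩ := hE he
      rw [← map_mul, ← map_mul]
      congr 1
      exact mem_center_iff.1 (h1 he) k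

/-- `3` divides `|SL(2,F)|`. -/
theorem three_dvd (F : Type*) [Field F] [Finite F] : 3 ∣ Nat.card (SL2 F) := by
  have : Fact (Nat.Prime 3) := ⟨Nat.prime_three⟩
  let g : SL2 F := ⟨!![0, -1; 1, -1], by simp [Matrix.det_fin_two]⟩
  have h1 : g ^ 3 = 1 := by
    apply Subtype.ext
    rw [pow_succ, pow_two, Matrix.SpecialLinearGroup.coe_mul, Matrix.SpecialLinearGroup.coe_mul]
    ext i j
    fin_cases i <;> fin_cases j <;> simp [g, Matrix.mul_apply, Fin.sum_univ_two]
  have h2 : g ≠ 1 := by
    intro h3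
    have h4 := congrArg (fun A : SL2 F => A.1 1 0) h3
    simp [g] at h4
  rw [← orderOf_eq_prime h1 h2]
  exact orderOf_dvd_natCard _

omit [Finite G] in
/-- `|F| ≤ 3`: an automorphism of odd prime order is trivial on `Φ(up F)`. -/
theorem comm_of_small [Finite F] {x : G} (hp2 : p ≠ 2) (hxp : x ^ p = 1) {Φ : SL2 F →* G}
    (hΦ : Function.Injective fun a => Φ (up a)) (hF : Nat.card F ≤ 3) (hx : ∀ a, ∃ b, x * Φ (up a) * x⁻¹ = Φ (up b)) :
    ∀ a, x * Φ (up a) = Φ (up a) * x := by
  have := Fintype.ofFinite F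
  choose f hf using hx
  have hadd : ∀ a b, f (a + b) = f a + f b := by
    intro a b
    apply hΦ
    change Φ (up (f (a + b))) = Φ (up (f a + f b))
    rw [← hf, ← up_add, ← up_add, map_mul, map_mul, ← hf, ← hf]
    group
  have h0 : f 0 = 0 := by
    have := hadd 0 0
    rw [add_zero] at this
    simpa using this
  have hinj : Function.Injective f := by
    intro a b hab
    apply hΦ
    have h1 : Φ (up (f a)) = Φ (up (f b)) := by rw [hab]
    rw [← hf, ← hf] at h1
    exact mul_left_cancel (mul_right_cancel h1)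
  -- the prime field is everything
  have hall : ∀ a : F, a = 0 ∨ a = 1 ∨ a = -1 := by
    classical
    intro a
    by_contra h1
    push Not at h1
    obtain ⟨h1, h2, h3⟩ := h1
    rcases eq_or_ne (1 : F) (-1) with h4 | h4
    · -- characteristic 2: `0, 1, a, a + 1`
      have h5 : ({0, 1, a, a + 1} : Finset F).card = 4 := by
        have h6 : (1 : F) + 1 = 0 := by
          conv_lhs => rw [h4]
          have : (-1 : F) + -1 = -(1 + 1) := by ring
          rw [this, neg_eq_zero]
          have h7 : (1 : F) - -1 = 0 := sub_eq_zero.2 h4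
          rw [sub_neg_eq_add] at h7
          exact h7
        rw [Finset.card_insert_of_notMem, Finset.card_insert_of_notMem, Finset.card_insert_of_notMem,
          Finset.card_singleton]
        · rw [Finset.mem_singleton]
          intro h7
          exact one_ne_zero (left_eq_add.1 h7)
        · rw [Finset.mem_insert, Finset.mem_singleton]
          rintro (h7 | h7)
          · exact h2 h7.symm
          · exact h1 (by rwa [right_eq_add] at h7)
        · rw [Finset.mem_insert, Finset.mem_insert, Finset.mem_singleton]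
          rintro (h7 | h7 | h7)
          · exact zero_ne_one h7
          · exact h1 h7.symm
          · apply h3
            exact eq_neg_of_add_eq_zero_left h7.symm
      have h6 := Finset.card_le_univ ({0, 1, a, a + 1} : Finset F)
      rw [h5, ← Nat.card_eq_fintype_card] at h6
      omega
    · have h5 : ({0, 1, -1, a} : Finset F).card = 4 := by
        rw [Finset.card_insert_of_notMem, Finset.card_insert_of_notMem, Finset.card_insert_of_notMem,
          Finset.card_singleton]
        · rw [Finset.mem_singleton]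
          exact fun h7 => h3 h7.symm
        · rw [Finset.mem_insert, Finset.mem_singleton]
          rintro (h7 | h7)
          · exact h4 h7
          · exact h2 h7.symm
        · rw [Finset.mem_insert, Finset.mem_insert, Finset.mem_singleton]
          rintro (h7 | h7 | h7)
          · exact zero_ne_one h7
          · exact (neg_ne_zero.2 one_ne_zero) h7.symm
          · exact h1 h7.symm
      have h6 := Finset.card_le_univ ({0, 1, -1, a} : Finset F)
      rw [h5, ← Nat.card_eq_fintype_card] at h6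
      omega
  have hneg : ∀ a, f (-a) = -f a := by
    intro a
    have := hadd a (-a)
    rw [add_neg_cancel, h0] at this
    exact (neg_eq_of_add_eq_zero_right this.symm).symm
  have h1 : f 1 = 1 := by
    rcases hall (f 1) with h2 | h2 | h2
    · exact absurd (hinj (h2.trans h0.symm)) one_ne_zero
    · exact h2
    · -- `f = -1`, so `x²` centralises
      have h3 : ∀ a, f a = -a := by
        intro a
        rcases hall a with rfl | rfl | rfl
        · rw [h0, neg_zero]
        · exact h2
        · rw [hneg, h2]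
      have h4 : ∀ a, x ^ 2 * Φ (up a) * (x ^ 2)⁻¹ = Φ (up a) := by
        intro a
        have h5 : x ^ 2 * Φ (up a) * (x ^ 2)⁻¹ = x * (x * Φ (up a) * x⁻¹) * x⁻¹ := by rw [pow_two]; group
        rw [h5, hf, hf, h3, h3, neg_neg]
      obtain ⟨k, hk⟩ := hp.out.odd_of_ne_two hp2
      have h5 : ∀ j : ℕ, x ^ (2 * j) * Φ (up 1) * (x ^ (2 * j))⁻¹ = Φ (up 1) := by
        intro j
        induction j with
        | zero => simp
        | succ j ih =>
          have h6 : x ^ (2 * (j + 1)) * Φ (up 1) * (x ^ (2 * (j + 1)))⁻¹ =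
              x ^ 2 * (x ^ (2 * j) * Φ (up 1) * (x ^ (2 * j))⁻¹) * (x ^ 2)⁻¹ := by
            rw [mul_add, mul_one, add_comm, pow_add]; group
          rw [h6, ih, h4]
      have h6 : x ^ (2 * k) = x⁻¹ := by
        rw [hk, pow_succ] at hxp
        exact eq_inv_of_mul_eq_one_left hxp
      have h7 := h5 k
      rw [h6, inv_inv] at h7
      apply hΦ
      change Φ (up (f 1)) = Φ (up 1)
      rw [← hf]
      conv_lhs => rw [← h7]
      group
  have h2 : ∀ a, f a = a := by
    intro a
    rcases hall a with rfl | rfl | rfl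
    · exact h0
    · exact h1
    · rw [hneg, h1]
  intro a
  have h3 := hf a
  rw [h2, mul_inv_eq_iff_eq_mul] at h3
  exact h3

end Cfsg.Agent.H28.SLTwoRow
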